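import Cfsg.Prelude.Def_CaseTheorems
import Cfsg.Agent.Lib.Cores
import Cfsg.Agent.Lib.ThompsonPQ
import Cfsg.Agent.Classification.LocalCore

/-!
# Characteristic `2` type from the involution centralizers

* `of_le`: `Q ≤ H` a normal `2`-subgroup of `H` whose centralizer in `H` is a `2`-group forces `H` to be
  of characteristic `2`.
* `isCharacteristicTwoType_of_centralizers`: a finite group of even order all of whose involution
  centralizers are of characteristic `2` is of characteristic `2` type.
* `isCharacteristicTwoType_of_reps`: the same on a set of representatives.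
* transport along isomorphisms.
-/

set_option autoImplicit false
set_option linter.style.haveILetI false

namespace Cfsg.Agent.OddHalf.Small.Generic

open Subgroup Cfsg
open Cfsg.Agent.Lib.Cores (le_pCore pCore_normal pCore_isPGroup map_equiv_pCore
  pCore_characteristic)

variable {G : Type*} [Group G]

/-! ### Criteria for characteristic `2` -/

/-- A normal `2`-subgroup whose centralizer is a `2`-group. -/
theorem of_le {Q : Subgroup G} (hn : Q.Normal) (hQ : IsPGroup 2 Q)
    (hc : IsPGroup 2 (centralizer (Q : Set G))) : IsOfCharacteristicTwo G := by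
  haveI := pCore_normal (G := G) 2
  have hle : Q ≤ pCore 2 G := le_pCore hn hQ
  refine le_pCore inferInstance ?_
  exact hc.to_le (centralizer_le hle)

/-- A normal `2`-subgroup containing its centralizer. -/
theorem of_centralizer_le {Q : Subgroup G} (hn : Q.Normal) (hQ : IsPGroup 2 Q)
    (hc : centralizer (Q : Set G) ≤ Q) : IsOfCharacteristicTwo G :=
  of_le hn hQ (hQ.to_le hc)

/-- A `2`-group is of characteristic `2`. -/
theorem of_isPGroup (h : IsPGroup 2 G) : IsOfCharacteristicTwo G :=
  of_le (Q := ⊤) inferInstance (h.to_subgroup _) (h.to_subgroup _)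

/-- The relative version: `Q ≤ H ≤ N(Q)` with `Q` a `2`-group and `H ∩ C(Q)` a `2`-group. -/
theorem of_subgroup {H Q : Subgroup G} (hQH : Q ≤ H) (hn : H ≤ normalizer (Q : Set G))
    (hQ : IsPGroup 2 Q) (hc : IsPGroup 2 (H ⊓ centralizer (Q : Set G) : Subgroup G)) :
    IsOfCharacteristicTwo ↥H := by
  refine of_le (Q := Q.subgroupOf H) (normal_subgroupOf_iff_le_normalizer hQH |>.mpr hn)
    hQ.comap_subtype ?_
  have h1 : centralizer (Q.subgroupOf H : Set H) ≤ (H ⊓ centralizer (Q : Set G)).subgroupOf H := by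
    intro x hx
    rw [mem_subgroupOf, mem_inf, mem_centralizer_iff]
    refine ⟨x.2, fun y hy => ?_⟩
    exact congrArg Subtype.val (mem_centralizer_iff.mp hx ⟨y, hQH hy⟩ (mem_subgroupOf.mpr hy))
  exact hc.comap_subtype.to_le h1

/-- The relative version with a self-centralizing subgroup. -/
theorem of_subgroup' {H Q : Subgroup G} (hQH : Q ≤ H) (hn : H ≤ normalizer (Q : Set G))
    (hQ : IsPGroup 2 Q) (hc : ∀ x ∈ H, x ∈ centralizer (Q : Set G) → x ∈ Q) :
    IsOfCharacteristicTwo ↥H :=
  of_subgroup hQH hn hQ (hQ.to_le fun x hx => hc x (mem_inf.mp hx).1 (mem_inf.mp hx).2)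

/-! ### Transport -/

/-- Characteristic `2` is invariant under isomorphism. -/
theorem isOfCharacteristicTwo_congr {H : Type*} [Group H] (e : G ≃* H)
    (h : IsOfCharacteristicTwo G) : IsOfCharacteristicTwo H := by
  have h1 : (pCore 2 G).map e.toMonoidHom = pCore 2 H := map_equiv_pCore e 2
  unfold IsOfCharacteristicTwo at h ⊢
  rw [← h1]
  intro x hx
  refine ⟨e.symm x, h ?_, by simp⟩
  rw [mem_centralizer_iff] at hx ⊢
  intro y hy
  have h2 := hx (e y) ⟨y, hy, rfl⟩
  apply e.injective
  rw [map_mul, map_mul, e.apply_symm_apply]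
  exact h2

/-- The image of a subgroup of characteristic `2`. -/
theorem isOfCharacteristicTwo_map {H : Type*} [Group H] (e : G ≃* H) (M : Subgroup G)
    (h : IsOfCharacteristicTwo ↥M) : IsOfCharacteristicTwo ↥(M.map e.toMonoidHom) :=
  isOfCharacteristicTwo_congr (M.equivMapOfInjective e.toMonoidHom e.injective) h

/-- Characteristic `2` type is invariant under isomorphism. -/
theorem isCharacteristicTwoType_congr {H : Type*} [Group H] (e : G ≃* H)
    (h : IsCharacteristicTwoType G) : IsCharacteristicTwoType H := by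
  refine ⟨Nat.card_congr e.toEquiv ▸ h.1, fun T hT hT1 => ?_⟩
  have h1 : IsPGroup 2 (T.map e.symm.toMonoidHom) := hT.map _
  have h2 : T.map e.symm.toMonoidHom ≠ ⊥ := by
    intro h0
    exact hT1 ((map_eq_bot_iff_of_injective T e.symm.injective).mp h0)
  have h3 := isOfCharacteristicTwo_map e _ (h.2 _ h1 h2)
  have h4 : (normalizer ((T.map e.symm.toMonoidHom : Subgroup G) : Set G)).map e.toMonoidHom
      = normalizer (T : Set H) := by
    ext x
    constructor
    · rintro ⟨y, hy, rfl⟩
      rw [mem_normalizer_iff]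
      intro z
      have h5 := mem_normalizer_iff.mp hy (e.symm z)
      have h6 : ∀ w : H, e.symm w ∈ (T.map e.symm.toMonoidHom : Subgroup G) ↔ w ∈ T := by
        intro w
        constructor
        · rintro ⟨v, hv, hvw⟩
          have : v = w := e.symm.injective hvw
          exact this ▸ hv
        · intro hw
          exact ⟨w, hw, rfl⟩
      rw [h6] at h5
      have h7 : y * e.symm z * y⁻¹ = e.symm (e y * z * (e y)⁻¹) := by simp
      rw [h7, h6] at h5
      exact h5
    · intro hx
      refine ⟨e.symm x, ?_, by simp⟩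
      change e.symm x ∈ normalizer _
      rw [mem_normalizer_iff] at hx ⊢
      intro z
      have h6 : ∀ w : G, w ∈ (T.map e.symm.toMonoidHom : Subgroup G) ↔ e w ∈ T := by
        intro w
        constructor
        · rintro ⟨v, hv, hvw⟩
          have : e.symm v = w := hvw
          rw [← this, e.apply_symm_apply]
          exact hv
        · intro hw
          exact ⟨e w, hw, by simp⟩
      rw [h6, h6, hx (e z)]
      simp
  rw [← h4]
  exact h3

/-! ### Characteristic `2` type -/

/-- If `C_G(t)` is of characteristic `2` for an involution `t` in the centre of the `2`-group `Q`, then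
`C_G(Q)` is of characteristic `2`. -/
theorem isOfCharacteristicTwo_centralizer [Finite G] (Q : Subgroup G) (hQ : IsPGroup 2 Q) (t : G)
    (htQ : t ∈ Q) (ht : Q ≤ centralizer ({t} : Set G))
    (hH : IsOfCharacteristicTwo ↥(centralizer ({t} : Set G))) :
    IsOfCharacteristicTwo ↥(centralizer (Q : Set G)) := by
  haveI : Fact (Nat.Prime 2) := ⟨Nat.prime_two⟩
  set H : Subgroup G := centralizer ({t} : Set G) with hHdef
  set C : Subgroup G := centralizer (Q : Set G) with hCdef
  have hCH : C ≤ H := centralizer_le (Set.singleton_subset_iff.mpr htQ)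
  set R : Subgroup G := (pCore 2 H).map H.subtype with hRdef
  have hRp : IsPGroup 2 R := (pCore_isPGroup 2).map _
  have hRn : H ≤ normalizer (R : Set G) := by
    have h1 : (pCore 2 H).Normal := pCore_normal (G := H) 2
    intro x hx
    rw [mem_normalizer_iff]
    intro y
    constructor
    · rintro ⟨z, hz, rfl⟩
      exact ⟨⟨x, hx⟩ * z * ⟨x, hx⟩⁻¹, h1.conj_mem z hz ⟨x, hx⟩, rfl⟩
    · rintro ⟨z, hz, hzy⟩
      refine ⟨⟨x, hx⟩⁻¹ * z * ⟨x, hx⟩, by simpa using h1.conj_mem z hz ⟨x, hx⟩⁻¹, ?_⟩
      have hz' : (z : G) = x * y * x⁻¹ := hzy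
      show x⁻¹ * (z : G) * x = y
      rw [hz']; group
  have hCR : ∀ x ∈ H, x ∈ centralizer (R : Set G) → x ∈ R := by
    intro x hx hxR
    refine ⟨⟨x, hx⟩, hH ?_, rfl⟩
    rw [mem_centralizer_iff]
    intro y hy
    apply Subtype.ext
    exact mem_centralizer_iff.mp hxR y ⟨y, hy, rfl⟩
  -- `P = O₂(C)`
  set P : Subgroup G := (pCore 2 C).map C.subtype with hPdef
  have hRC : R ⊓ C ≤ P := by
    have h1 : ((R ⊓ C).subgroupOf C).Normal := by
      refine ⟨fun y hy x => ?_⟩
      rw [mem_subgroupOf, mem_inf] at hy ⊢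
      exact ⟨(mem_normalizer_iff.mp (hRn (hCH x.2)) y).mp hy.1, (x * y * x⁻¹).2⟩
    have h2 : (R ⊓ C).subgroupOf C ≤ pCore 2 C :=
      le_pCore h1 (hRp.to_le inf_le_left).comap_subtype
    intro x hx
    exact ⟨⟨x, (mem_inf.mp hx).2⟩, h2 (mem_subgroupOf.mpr hx), rfl⟩
  -- the centralizer of `P` in `C` is a `2`-group
  haveI := pCore_normal (G := C) 2
  refine of_le (Q := pCore 2 C) inferInstance (pCore_isPGroup 2) ?_
  intro g
  obtain ⟨k, m, hm, hkm⟩ := Nat.exists_eq_two_pow_mul_odd (orderOf_pos g).ne'
  refine ⟨k, ?_⟩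
  -- `d`, the part of odd order
  set d : G := (((g ^ 2 ^ k : centralizer (pCore 2 C : Set C)) : C) : G) with hd
  have hod : orderOf d = m := by
    rw [hd, orderOf_coe, orderOf_coe, orderOf_pow_of_dvd (by positivity) (hkm ▸ dvd_mul_right _ _),
      hkm, Nat.mul_div_cancel_left _ (by positivity)]
  set D : Subgroup G := zpowers d with hDdef
  have hDcard : (Nat.card D).Coprime 2 := by
    rw [hDdef, Nat.card_zpowers, hod]
    exact hm.coprime_two_right
  have hDC : D ≤ C := zpowers_le.mpr (Subtype.property _)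
  have hDP : D ≤ centralizer (P : Set G) := by
    rw [hDdef, zpowers_le, mem_centralizer_iff]
    rintro _ ⟨y, hy, rfl⟩
    exact congrArg Subtype.val (mem_centralizer_iff.mp (g ^ 2 ^ k).2 y hy)
  have key : D ≤ centralizer (R : Set G) := by
    refine Cfsg.Agent.Lib.ThompsonPQ.thompson_p_times_q 2 Q D R hQ hDcard hRp ?_ ?_ ?_ ?_
    · exact le_centralizer_iff.mp hDC
    · exact ht.trans hRn
    · exact (hDC.trans hCH).trans hRn
    · exact (hRC.trans (le_centralizer_iff.mp hDP))
  have hdR : d ∈ R := hCR d (hCH (hDC (mem_zpowers d))) (key (mem_zpowers d))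
  have hd1 : d = 1 := by
    obtain ⟨n, hn⟩ := (IsPGroup.iff_orderOf.mp hRp) ⟨d, hdR⟩
    rw [orderOf_mk, hod] at hn
    have : m = 1 := by
      rcases n with _ | n
      · simpa using hn
      · exfalso
        rw [hn, pow_succ] at hm
        exact (Nat.not_odd_iff_even.mpr (even_two.mul_left _)) hm
    rw [← orderOf_eq_one_iff, hod, this]
  exact Subtype.ext (Subtype.ext hd1)

/-- A finite group of even order in which every involution centralizer is of characteristic `2` is of
characteristic `2` type. -/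
theorem isCharacteristicTwoType_of_centralizers [Finite G] (h2 : Even (Nat.card G))
    (hc : ∀ t : G, orderOf t = 2 → IsOfCharacteristicTwo ↥(centralizer ({t} : Set G))) :
    IsCharacteristicTwoType G := by
  refine ⟨h2, fun T hT hT1 => ?_⟩
  haveI : Fact (Nat.Prime 2) := ⟨Nat.prime_two⟩
  set N : Subgroup G := normalizer (T : Set G) with hN
  -- `Q`, the image in `G` of `O₂(N)`
  set Q : Subgroup G := (pCore 2 N).map N.subtype with hQdef
  have hQN : Q ≤ N := map_subtype_le _
  have hQp : IsPGroup 2 Q := (pCore_isPGroup 2).map _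
  have hTQ : T ≤ Q := by
    have h1 : T.subgroupOf N ≤ pCore 2 N :=
      le_pCore normal_in_normalizer hT.comap_subtype
    have h3 := map_mono (f := N.subtype) h1
    rwa [subgroupOf_map_subtype, inf_eq_left.mpr le_normalizer] at h3
  have hQ1 : Q ≠ ⊥ := fun h => hT1 (le_bot_iff.mp (h ▸ hTQ))
  haveI : Nontrivial Q := (nontrivial_iff_ne_bot Q).mpr hQ1
  haveI : Nontrivial (center Q) := hQp.center_nontrivial
  -- an involution `t` in the centre of `Q`
  obtain ⟨t, htQ, ht2, htc⟩ : ∃ t : G, t ∈ Q ∧ orderOf t = 2 ∧ Q ≤ centralizer ({t} : Set G) := by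
    have hZ : IsPGroup 2 (center Q) := hQp.to_subgroup _
    have hdvd : 2 ∣ Nat.card (center Q) := by
      obtain ⟨n, hn⟩ := IsPGroup.iff_card.mp hZ
      have h1 : 1 < Nat.card (center Q) := Finite.one_lt_card
      rw [hn] at h1 ⊢
      rcases n with _ | n
      · simp at h1
      · exact dvd_pow_self 2 (Nat.succ_ne_zero n)
    obtain ⟨z, hz⟩ := exists_prime_orderOf_dvd_card' 2 hdvd
    refine ⟨((z : Q) : G), (z : Q).2, ?_, ?_⟩
    · rw [orderOf_coe, orderOf_coe, hz]
    · intro q hq
      rw [mem_centralizer_singleton_iff]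
      have h1 := mem_center_iff.mp z.2 ⟨q, hq⟩
      exact (congrArg Subtype.val h1)
  set C : Subgroup G := centralizer (Q : Set G) with hCdef
  have hCt : C ≤ centralizer ({t} : Set G) := centralizer_le (Set.singleton_subset_iff.mpr htQ)
  have hCN : C ≤ N := (centralizer_le hTQ).trans (centralizer_le_normalizer _)
  have hcharC : IsOfCharacteristicTwo ↥C :=
    isOfCharacteristicTwo_centralizer Q hQp t htQ htc (hc t ht2)
  -- `C` is normal in `N`
  have hCnorm : (C.subgroupOf N).Normal := by
    haveI := pCore_normal (G := N) 2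
    have h1 : C.subgroupOf N = centralizer (pCore 2 N : Set N) := by
      ext x
      rw [mem_subgroupOf, mem_centralizer_iff, mem_centralizer_iff]
      constructor
      · intro h y hy
        exact Subtype.ext (h y ⟨y, hy, rfl⟩)
      · rintro h _ ⟨y, hy, rfl⟩
        exact congrArg Subtype.val (h y hy)
    rw [h1]
    infer_instance
  -- `O₂(C) ≤ Q`
  have hCQ : (pCore 2 C).map C.subtype ≤ Q := by
    haveI := hCnorm
    haveI := pCore_characteristic (G := C.subgroupOf N) 2
    have h1 : (pCore 2 (C.subgroupOf N)).map (C.subgroupOf N).subtype ≤ pCore 2 N :=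
      le_pCore inferInstance ((pCore_isPGroup 2).map _)
    rintro _ ⟨x, hx, rfl⟩
    have h4 := map_equiv_pCore (subgroupOfEquivOfLe hCN).symm 2
    have h5 : (subgroupOfEquivOfLe hCN).symm x ∈ pCore 2 (C.subgroupOf N) := by
      rw [← h4]; exact ⟨x, hx, rfl⟩
    exact ⟨_, h1 ⟨_, h5, rfl⟩, rfl⟩
  -- conclusion
  show centralizer (pCore 2 N : Set N) ≤ pCore 2 N
  intro x hx
  have hxC : (x : G) ∈ C := by
    rw [hCdef, mem_centralizer_iff]
    rintro _ ⟨y, hy, rfl⟩
    exact congrArg Subtype.val (mem_centralizer_iff.mp hx y hy)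
  have hxcc : (⟨x, hxC⟩ : C) ∈ pCore 2 C := by
    apply hcharC
    rw [mem_centralizer_iff]
    intro y hy
    apply Subtype.ext
    exact mem_centralizer_iff.mp hxC y (hCQ ⟨y, hy, rfl⟩)
  obtain ⟨y, hy, hyx⟩ := hCQ ⟨_, hxcc, rfl⟩
  have : y = x := Subtype.ext hyx
  rwa [← this]

/-- The centralizers of conjugate elements. -/
theorem centralizer_conj (g t : G) :
    (centralizer ({t} : Set G)).map (MulAut.conj g).toMonoidHom
      = centralizer ({g * t * g⁻¹} : Set G) := by
  ext x
  rw [mem_centralizer_singleton_iff]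
  constructor
  · rintro ⟨y, hy, rfl⟩
    have hy' : y * t = t * y := mem_centralizer_singleton_iff.mp hy
    show g * y * g⁻¹ * (g * t * g⁻¹) = g * t * g⁻¹ * (g * y * g⁻¹)
    calc g * y * g⁻¹ * (g * t * g⁻¹) = g * (y * t) * g⁻¹ := by group
      _ = g * (t * y) * g⁻¹ := by rw [hy']
      _ = _ := by group
  · intro hx
    refine ⟨g⁻¹ * x * g, ?_, by simp [mul_assoc]⟩
    change g⁻¹ * x * g ∈ centralizer ({t} : Set G)
    rw [mem_centralizer_singleton_iff]
    calc g⁻¹ * x * g * t = g⁻¹ * (x * (g * t * g⁻¹)) * g := by group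
      _ = g⁻¹ * (g * t * g⁻¹ * x) * g := by rw [hx]
      _ = _ := by group

/-- Characteristic `2` of the centralizer is invariant under conjugation. -/
theorem isOfCharacteristicTwo_centralizer_conj (g t : G)
    (h : IsOfCharacteristicTwo ↥(centralizer ({t} : Set G))) :
    IsOfCharacteristicTwo ↥(centralizer ({g * t * g⁻¹} : Set G)) := by
  rw [← centralizer_conj]
  exact isOfCharacteristicTwo_map (MulAut.conj g) _ h

/-- It is enough to know the centralizers of representatives of the classes of involutions. -/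
theorem isCharacteristicTwoType_of_reps [Finite G] (h2 : Even (Nat.card G))
    (hc : ∀ t : G, orderOf t = 2 → ∃ g : G,
      IsOfCharacteristicTwo ↥(centralizer ({g * t * g⁻¹} : Set G))) :
    IsCharacteristicTwoType G := by
  refine isCharacteristicTwoType_of_centralizers h2 fun t ht => ?_
  obtain ⟨g, hg⟩ := hc t ht
  have := isOfCharacteristicTwo_centralizer_conj g⁻¹ _ hg
  have h1 : g⁻¹ * (g * t * g⁻¹) * g⁻¹⁻¹ = t := by group
  rwa [h1] at this

/-- All involution centralizers are `2`-groups. -/
theorem isCharacteristicTwoType_of_isPGroup [Finite G] (h2 : Even (Nat.card G))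
    (hc : ∀ t : G, orderOf t = 2 → IsPGroup 2 (centralizer ({t} : Set G))) :
    IsCharacteristicTwoType G :=
  isCharacteristicTwoType_of_centralizers h2 fun t ht => of_isPGroup (hc t ht)

/-- All involution centralizers have a self-centralizing normal `2`-subgroup. -/
theorem isCharacteristicTwoType_of_subgroups [Finite G] (h2 : Even (Nat.card G))
    (hc : ∀ t : G, orderOf t = 2 → ∃ Q : Subgroup G, Q ≤ centralizer ({t} : Set G) ∧
      centralizer ({t} : Set G) ≤ normalizer (Q : Set G) ∧ IsPGroup 2 Q ∧
      ∀ x ∈ centralizer ({t} : Set G), x ∈ centralizer (Q : Set G) → x ∈ Q) :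
    IsCharacteristicTwoType G :=
  isCharacteristicTwoType_of_centralizers h2 fun t ht => by
    obtain ⟨Q, h1, h2, h3, h4⟩ := hc t ht
    exact of_subgroup' h1 h2 h3 h4

end Cfsg.Agent.OddHalf.Small.Generic
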