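import Mathlib
import Cfsg.Prelude.Def_CaseTheorems
import Cfsg.Agent.Lib.Cores
import Cfsg.Agent.TwoFusion.PSLTwoGood
import Cfsg.Agent.WeakTI.PslTwo

/-!
# Groups in which the centralizers of the involutions are 2-groups; `PSL₂(q)`

If the centralizer of every involution of a finite group of even order is a 2-group, the group is of
characteristic 2 type.  Applied to `PSL₂(q)`, `q` a Fermat or Mersenne prime, `q = 9`, or `q` even.
-/

set_option autoImplicit false

namespace Cfsg.Agent.OddHalf.Small.L2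

open Subgroup

variable {G : Type*} [Group G]

/-- A subgroup containing a nontrivial 2-group contains the involutions of this 2-group. -/
theorem exists_involution [Finite G] {T : Subgroup G} (hT : IsPGroup 2 T) (hT1 : T ≠ ⊥) :
    ∃ t ∈ T, orderOf t = 2 := by
  have : Fact (Nat.Prime 2) := ⟨Nat.prime_two⟩
  have hd : 2 ∣ Nat.card T := by
    obtain ⟨k, hk⟩ := IsPGroup.iff_card.1 hT
    have hk0 : k ≠ 0 := by
      rintro rfl
      exact hT1 (card_eq_one.1 (by rw [hk, pow_zero]))
    rw [hk]; exact dvd_pow_self 2 hk0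
  obtain ⟨x, hx⟩ := exists_prime_orderOf_dvd_card' 2 hd
  exact ⟨x, x.2, by rw [orderOf_coe]; exact hx⟩

/-- If all involution centralizers are 2-groups, the group is of characteristic 2 type. -/
theorem isCharacteristicTwoType_of_cit [Finite G] (hev : Even (Nat.card G))
    (h : ∀ t : G, orderOf t = 2 → IsPGroup 2 (centralizer ({t} : Set G))) :
    Cfsg.IsCharacteristicTwoType G := by
  have : Fact (Nat.Prime 2) := ⟨Nat.prime_two⟩
  refine ⟨hev, fun T hT hT1 => ?_⟩
  obtain ⟨t, htT, ht⟩ := exists_involution hT hT1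
  set N := normalizer (T : Set G) with hN
  have hTN : T ≤ N := le_normalizer
  have hTO : T.subgroupOf N ≤ Cfsg.pCore 2 N :=
    Cfsg.Agent.Lib.Cores.le_pCore inferInstance (hT.comap_of_injective _ N.subtype_injective)
  have hnor := Cfsg.Agent.Lib.Cores.pCore_normal (G := N) 2
  refine Cfsg.Agent.Lib.Cores.le_pCore inferInstance ?_
  have h1 := h t ht
  have ht' : (⟨t, hTN htT⟩ : N) ∈ Cfsg.pCore 2 N := hTO (mem_subgroupOf.2 htT)
  rintro ⟨x, hx⟩
  have hx1 : (x : G) ∈ centralizer ({t} : Set G) := by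
    rw [mem_centralizer_singleton_iff]
    have := (mem_centralizer_iff.1 hx) _ ht'
    exact (congrArg Subtype.val this).symm
  obtain ⟨k, hk⟩ := h1 ⟨x, hx1⟩
  refine ⟨k, Subtype.ext (Subtype.ext ?_)⟩
  have h2 := congrArg Subtype.val hk
  exact h2

/-- Transport of the property. -/
theorem cit_of_mulEquiv {K : Type*} [Group K] (e : G ≃* K)
    (h : ∀ t : K, orderOf t = 2 → IsPGroup 2 (centralizer ({t} : Set K))) :
    ∀ t : G, orderOf t = 2 → IsPGroup 2 (centralizer ({t} : Set G)) := by
  intro t ht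
  have h1 : orderOf (e t) = 2 := by rw [MulEquiv.orderOf_eq]; exact ht
  rintro ⟨x, hx⟩
  have hx' : e x ∈ centralizer ({e t} : Set K) := by
    rw [mem_centralizer_singleton_iff] at hx ⊢
    rw [← map_mul, hx, map_mul]
  obtain ⟨k, hk⟩ := h _ h1 ⟨e x, hx'⟩
  refine ⟨k, Subtype.ext (e.injective ?_)⟩
  have := congrArg Subtype.val hk
  change (e x) ^ 2 ^ k = 1 at this
  change e (x ^ 2 ^ k) = e 1
  rw [map_pow, map_one, this]

section PSL

open Matrix Cfsg.Agent.TwoFusion.PSLTwoGood Cfsg.Agent.ClassicalGeometry.SLTwoFour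

variable {F : Type*} [Field F] [Fintype F]

/-- The centralizer of an involution of `PSL₂(q)`, `q` odd with `q - 1` (`q ≡ 1 mod 4`) or `q + 1`
(`q ≡ 3 mod 4`) a power of 2. -/
theorem psl2_cit_odd (hodd : Odd (Fintype.card F))
    (hF : (∃ k, Fintype.card F % 4 = 3 ∧ Fintype.card F + 1 = 2 ^ k) ∨
      (∃ k, Fintype.card F % 4 = 1 ∧ Fintype.card F = 2 ^ k + 1))
    {a : ProjectiveSpecialLinearGroup (Fin 2) F} (ha : orderOf a = 2) :
    IsPGroup 2 (centralizer ({a} : Set (ProjectiveSpecialLinearGroup (Fin 2) F))) := by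
  have : Fact (Nat.Prime 2) := ⟨Nat.prime_two⟩
  have h := card_centralizer hodd ha
  rcases hF with ⟨k, h4, hk⟩ | ⟨k, h4, hk⟩
  · rw [card_circle_three h4, hk] at h
    exact IsPGroup.of_card h
  · rw [card_circle_one h4, hk, Nat.add_sub_cancel] at h
    exact IsPGroup.of_card h

omit [Fintype F] in
/-- The centralizer of an involution of `PSL₂(q)`, `q` even. -/
theorem psl2_cit_even [Finite F] [CharP F 2] {a : ProjectiveSpecialLinearGroup (Fin 2) F} (ha : orderOf a = 2) :
    IsPGroup 2 (centralizer ({a} : Set (ProjectiveSpecialLinearGroup (Fin 2) F))) := by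
  rintro ⟨y, hy⟩
  rw [mem_centralizer_singleton_iff] at hy
  refine ⟨1, Subtype.ext ?_⟩
  change y ^ 2 ^ 1 = 1
  rw [pow_one, pow_two]
  have hx1 : a ≠ 1 := by
    rintro rfl
    rw [orderOf_one] at ha
    omega
  exact Cfsg.Agent.WeakTI.PslTwo.cent (MulEquiv.refl _) 
    (by have := pow_orderOf_eq_one a; rwa [ha, pow_two] at this) hx1 hy.symm

theorem even_card_psl2 : Even (Nat.card (ProjectiveSpecialLinearGroup (Fin 2) F)) := by
  have hq : 1 < Fintype.card F := Fintype.one_lt_card
  rcases Nat.even_or_odd (Fintype.card F) with h | h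
  · rw [Cfsg.Agent.ClassicalGeometry.PSL2Basic.card_PSL2_even F h]
    exact h.mul_right _
  · have h1 := Cfsg.Agent.ClassicalGeometry.PSL2Basic.card_PSL2_odd F h
    have h4 : 4 ∣ Fintype.card F ^ 2 - 1 := by
      obtain ⟨m, hm⟩ := h
      refine ⟨m * (m + 1), ?_⟩
      rw [hm]
      have : (2 * m + 1) ^ 2 = 4 * (m * (m + 1)) + 1 := by ring
      omega
    have h5 : 4 ∣ Nat.card (ProjectiveSpecialLinearGroup (Fin 2) F) * 2 := by
      rw [h1]; exact h4.mul_left _
    exact even_iff_two_dvd.2 (by omega)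

/-- `PSL₂(q)`, `q` a Fermat or a Mersenne prime or 9 (`q = 2, 3` included). -/
theorem psl2 {G : Type*} [Group G] [Finite G]
    (hF : ((Fintype.card F).Prime ∧ ((∃ k : ℕ, Fintype.card F + 1 = 2 ^ k) ∨
      (∃ k : ℕ, Fintype.card F = 2 ^ k + 1))) ∨ Fintype.card F = 9)
    (e : G ≃* ProjectiveSpecialLinearGroup (Fin 2) F) : Cfsg.IsCharacteristicTwoType G := by
  apply isCharacteristicTwoType_of_cit
  · rw [Nat.card_congr e.toEquiv]; exact even_card_psl2
  apply cit_of_mulEquiv e
  intro a ha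
  have hq : 1 < Fintype.card F := Fintype.one_lt_card
  have hpow : ∀ k : ℕ, 2 ≤ k → 4 ∣ 2 ^ k := fun k hk => by
    obtain ⟨m, rfl⟩ := Nat.exists_eq_add_of_le hk
    exact ⟨2 ^ m, by rw [pow_add]; norm_num⟩
  rcases hF with ⟨hp, ⟨k, hk⟩ | ⟨k, hk⟩⟩ | h9
  · have hk2 : 2 ≤ k := by
      by_contra hcon
      have : k = 0 ∨ k = 1 := by omega
      rcases this with rfl | rfl
      · norm_num at hk
      · norm_num at hk; omega
    have h4 := hpow k hk2
    rw [← hk] at h4
    refine psl2_cit_odd (by rw [Nat.odd_iff]; omega) (Or.inl ⟨k, by omega, hk⟩) ha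
  · rcases Nat.lt_or_ge k 2 with hk2 | hk2
    · have : k = 0 ∨ k = 1 := by omega
      rcases this with rfl | rfl
      · have h2 : Fintype.card F = 2 := by rw [hk]; norm_num
        have : CharP F 2 := by
          have h22 : (2 : F) = 0 := by
            by_contra h
            have := (Cfsg.Agent.ClassicalGeometry.PSL2Basic.two_ne_zero_iff_odd F).1 h
            rw [h2] at this
            exact (Nat.not_odd_iff_even.2 even_two) this
          exact CharTwo.of_one_ne_zero_of_two_eq_zero one_ne_zero h22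
        exact psl2_cit_even ha
      · have h3 : Fintype.card F = 3 := by rw [hk]; norm_num
        exact psl2_cit_odd (by rw [h3]; decide) (Or.inl ⟨2, by omega, by rw [h3]; norm_num⟩) ha
    · have h4 := hpow k hk2
      refine psl2_cit_odd (by rw [Nat.odd_iff]; omega) (Or.inr ⟨k, by omega, hk⟩) ha
  · exact psl2_cit_odd (by rw [h9]; decide) (Or.inr ⟨3, by omega, by rw [h9]; norm_num⟩) ha

/-- `PSL₂(2^n)`. -/
theorem psl2_even {G : Type*} [Group G] [Finite G] (hF : Even (Fintype.card F))
    (e : G ≃* ProjectiveSpecialLinearGroup (Fin 2) F) : Cfsg.IsCharacteristicTwoType G := by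
  apply isCharacteristicTwoType_of_cit
  · rw [Nat.card_congr e.toEquiv]; exact even_card_psl2
  apply cit_of_mulEquiv e
  intro a ha
  have : CharP F 2 := by
    have h22 : (2 : F) = 0 := by
      by_contra h
      exact (Nat.not_even_iff_odd.2
        ((Cfsg.Agent.ClassicalGeometry.PSL2Basic.two_ne_zero_iff_odd F).1 h)) hF
    exact CharTwo.of_one_ne_zero_of_two_eq_zero one_ne_zero h22
  exact psl2_cit_even ha

end PSL

end Cfsg.Agent.OddHalf.Small.L2
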