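import Mathlib
import Cfsg.Prelude.Def_Classification2
import Cfsg.Prelude.Def_LieTypeChar
import Cfsg.Prelude.Def_CaseTheorems
import Cfsg.Agent.OddHalf.Small.Generic
import Cfsg.Agent.OddHalf.Small.L2

/-!
# The literal exclusions of S1765

`Concl G` is the conclusion of S1765. A group of Lie type in odd characteristic that is not of characteristic 2 type
satisfies it.
-/

set_option autoImplicit false

namespace Cfsg.Agent.OddHalf.Small.Excl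

open Subgroup Cfsg

/-- The five exceptional groups over `F₃` and `F₉` are of characteristic 2 type. -/
structure Rows : Prop where
  l33 : ∀ (F : Type) [Field F] [Fintype F], Fintype.card F = 3 →
    IsCharacteristicTwoType (Matrix.ProjectiveSpecialLinearGroup (Fin 3) F)
  sp43 : ∀ (F : Type) [Field F] [Fintype F], Fintype.card F = 3 →
    IsCharacteristicTwoType (Cfsg.PSp 2 F)
  g23 : ∀ (F : Type) [Field F] [Fintype F], Fintype.card F = 3 →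
    IsCharacteristicTwoType ↥(Cfsg.Lie.chevG2.group F)
  u33 : ∀ (F : Type) [Field F] [Fintype F], Fintype.card F = 9 →
    IsCharacteristicTwoType (Cfsg.PSU 3 F 3)
  u43 : ∀ (F : Type) [Field F] [Fintype F], Fintype.card F = 9 →
    IsCharacteristicTwoType (Cfsg.PSU 4 F 3)

/-- The conclusion of S1765. -/
def Concl (G : Type*) [Group G] : Prop :=
    ((∃ p : ℕ, p.Prime ∧ p ≠ 2 ∧ Cfsg.IsLieTypeChar p G) ∧
        ¬ (∃ (F : Type) (_ : Field F) (_ : Fintype F), ((Fintype.card F).Prime ∧ ((∃ k : ℕ, Fintype.card F + 1 = 2 ^ k) ∨ (∃ k : ℕ, Fintype.card F = 2 ^ k + 1)) ∨ Fintype.card F = 9) ∧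
          Nonempty (G ≃* Matrix.ProjectiveSpecialLinearGroup (Fin 2) F)) ∧
        ¬ (∃ (F : Type) (_ : Field F) (_ : Fintype F), Fintype.card F = 3 ∧
          (Nonempty (G ≃* Matrix.ProjectiveSpecialLinearGroup (Fin 3) F) ∨ Nonempty (G ≃* Cfsg.PSp 2 F) ∨
            Nonempty (G ≃* ↥(Cfsg.Lie.chevG2.group F)))) ∧
        ¬ (∃ (F : Type) (_ : Field F) (_ : Fintype F), Fintype.card F = 9 ∧ (Nonempty (G ≃* Cfsg.PSU 3 F 3) ∨ Nonempty (G ≃* Cfsg.PSU 4 F 3)))) ∨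
      (∃ n : ℕ, (n = 7 ∨ 9 ≤ n) ∧ Nonempty (G ≃* ↥(alternatingGroup (Fin n)))) ∨
      Cfsg.Spor.IsoM12 G ∨ Cfsg.Spor.IsoJ1 G ∨ Cfsg.Spor.IsoJ2 G ∨ Cfsg.Spor.IsoMcL G ∨ Cfsg.Spor.IsoLy G ∨ Cfsg.Spor.IsoHS G ∨ Cfsg.Spor.IsoHe G ∨ Cfsg.Spor.IsoON G ∨ Cfsg.Spor.IsoSuz G ∨ Cfsg.Spor.IsoRu G ∨ Cfsg.Spor.IsoCo3 G ∨ Cfsg.Spor.IsoCo1 G ∨ Cfsg.Spor.IsoFi22 G ∨ Cfsg.Spor.IsoFi23 G ∨ Cfsg.Spor.IsoFi24' G ∨ Cfsg.Spor.IsoHN G ∨ Cfsg.Spor.IsoB G ∨ Cfsg.Spor.IsoM G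

/-- Lie type in odd characteristic, not of characteristic 2 type. -/
theorem concl_of_lie {G : Type*} [Group G] [Finite G] (R : Rows) (h2 : ¬ IsCharacteristicTwoType G)
    (h : ∃ p : ℕ, p.Prime ∧ p ≠ 2 ∧ Cfsg.IsLieTypeChar p G) : Concl G := by
  refine Or.inl ⟨h, ?_, ?_, ?_⟩
  · rintro ⟨F, _, _, hF, ⟨e⟩⟩
    exact h2 (L2.psl2 hF e)
  · rintro ⟨F, _, _, hF, (⟨⟨e⟩⟩ | ⟨⟨e⟩⟩ | ⟨⟨e⟩⟩)⟩
    · exact h2 (Generic.isCharacteristicTwoType_congr e.symm (R.l33 F hF))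
    · exact h2 (Generic.isCharacteristicTwoType_congr e.symm (R.sp43 F hF))
    · exact h2 (Generic.isCharacteristicTwoType_congr e.symm (R.g23 F hF))
  · rintro ⟨F, _, _, hF, (⟨⟨e⟩⟩ | ⟨⟨e⟩⟩)⟩
    · exact h2 (Generic.isCharacteristicTwoType_congr e.symm (R.u33 F hF))
    · exact h2 (Generic.isCharacteristicTwoType_congr e.symm (R.u43 F hF))

end Cfsg.Agent.OddHalf.Small.Excl
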