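import Mathlib
import Cfsg.Prelude.Def_CaseTheorems
import Cfsg.Agent.OddOrderLocal.SelfCentFixed

/-!
# Characteristic 2 type from the centralizers of involutions

If for every involution `t` there is a 2-subgroup `Q`, normalized by `C(t)`, such that no nontrivial
element of odd order of `C(t)` centralizes `Q`, then `G` is of characteristic 2 type.
-/

set_option autoImplicit false

namespace Cfsg.Agent.OddHalf.Small.Crit

open Subgroup Cfsg

variable {G : Type*} [Group G]

/-- A 2-subgroup normalized by `C(t)` and centralized by no nontrivial element of odd order of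
`C(t)`. -/
def Good (t : G) : Prop :=
  ∃ Q : Subgroup G, IsPGroup 2 Q ∧ (∀ g, g * t = t * g → ∀ x ∈ Q, g * x * g⁻¹ ∈ Q) ∧
    ∀ y, y * t = t * y → (∀ x ∈ Q, y * x = x * y) → Odd (orderOf y) → y = 1

/-- `Good` if `C(t)` contains no nontrivial element of odd order. -/
theorem good_of_two {t : G} (h : ∀ y, y * t = t * y → Odd (orderOf y) → y = 1) : Good t := by
  refine ⟨⊥, IsPGroup.of_bot, ?_, fun y hy _ ho => h y hy ho⟩
  intro g _ x hx
  rw [mem_bot] at hx
  rw [hx, mul_one, mul_inv_cancel]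
  exact one_mem _

theorem good_conj {t : G} (ht : Good t) (c : G) : Good (c * t * c⁻¹) := by
  obtain ⟨Q, hQ, hn, hy⟩ := ht
  have hc : ∀ g, g * (c * t * c⁻¹) = c * t * c⁻¹ * g → (c⁻¹ * g * c) * t = t * (c⁻¹ * g * c) := by
    intro g hg
    calc (c⁻¹ * g * c) * t = c⁻¹ * (g * (c * t * c⁻¹)) * c := by group
      _ = c⁻¹ * (c * t * c⁻¹ * g) * c := by rw [hg]
      _ = t * (c⁻¹ * g * c) := by group
  have hm : ∀ x, x ∈ Q.map (MulAut.conj c).toMonoidHom ↔ c⁻¹ * x * c ∈ Q := by
    intro x
    constructor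
    · rintro ⟨y, hy, rfl⟩
      have e : c⁻¹ * ((MulAut.conj c).toMonoidHom y) * c = y := by
        show c⁻¹ * (c * y * c⁻¹) * c = y
        group
      rw [e]; exact hy
    · intro hx
      refine ⟨_, hx, ?_⟩
      show c * (c⁻¹ * x * c) * c⁻¹ = x
      group
  refine ⟨Q.map (MulAut.conj c).toMonoidHom, hQ.map _, ?_, ?_⟩
  · intro g hg x hx
    rw [hm] at hx ⊢
    have h1 := hn _ (hc g hg) _ hx
    have e : c⁻¹ * g * c * (c⁻¹ * x * c) * (c⁻¹ * g * c)⁻¹ = c⁻¹ * (g * x * g⁻¹) * c := by group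
    rwa [e] at h1
  · intro y hyt hyx ho
    have h1 : c⁻¹ * y * c = 1 := by
      refine hy _ (hc y hyt) ?_ ?_
      · intro x hx
        have h2 := hyx (c * x * c⁻¹) ((hm _).2 (by
          have e : c⁻¹ * (c * x * c⁻¹) * c = x := by group
          rw [e]; exact hx))
        calc c⁻¹ * y * c * x = c⁻¹ * (y * (c * x * c⁻¹)) * c := by group
          _ = c⁻¹ * (c * x * c⁻¹ * y) * c := by rw [h2]
          _ = x * (c⁻¹ * y * c) := by group
      · have e : c⁻¹ * y * c = (MulAut.conj c⁻¹) y := by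
          show _ = c⁻¹ * y * c⁻¹⁻¹
          rw [inv_inv]
        rw [e, MulEquiv.orderOf_eq]
        exact ho
    have e : y = c * (c⁻¹ * y * c) * c⁻¹ := by group
    rw [e, h1, mul_one, mul_inv_cancel]

theorem good_iff_of_isConj {t s : G} (h : IsConj t s) (ht : Good t) : Good s := by
  obtain ⟨c, hc⟩ := isConj_iff.mp h
  rw [← hc]
  exact good_conj ht c

/-- An isomorphism carries good involutions to good involutions. -/
theorem good_map {H : Type*} [Group H] (e : G ≃* H) {t : G} (ht : Good t) : Good (e t) := by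
  obtain ⟨Q, hQ, hn, hy⟩ := ht
  have hc : ∀ g, g * e t = e t * g → e.symm g * t = t * e.symm g := by
    intro g hg
    apply e.injective
    rw [map_mul, map_mul, e.apply_symm_apply]
    exact hg
  refine ⟨Q.map e.toMonoidHom, hQ.map _, ?_, ?_⟩
  · rintro g hg _ ⟨x, hx, rfl⟩
    refine ⟨_, hn _ (hc g hg) x hx, ?_⟩
    show e (e.symm g * x * (e.symm g)⁻¹) = g * e x * g⁻¹
    rw [map_mul, map_mul, map_inv, e.apply_symm_apply]
  · intro y hyt hyx ho
    have h1 : e.symm y = 1 := by
      refine hy _ (hc y hyt) ?_ ?_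
      · intro x hx
        apply e.injective
        rw [map_mul, map_mul, e.apply_symm_apply]
        exact hyx _ ⟨x, hx, rfl⟩
      · rw [MulEquiv.orderOf_eq]; exact ho
    rw [← e.apply_symm_apply y, h1, map_one]

theorem pCore_isPGroup [Finite G] : IsPGroup 2 (pCore 2 G) := by
  have hf : Fact (Nat.Prime 2) := ⟨Nat.prime_two⟩
  have key : ∀ s : Set (Subgroup G), s.Finite → (∀ N ∈ s, N.Normal ∧ IsPGroup 2 N) →
      (sSup s).Normal ∧ IsPGroup 2 (sSup s : Subgroup G) := by
    intro s hs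
    induction s, hs using Set.Finite.induction_on with
    | empty =>
      intro _
      rw [sSup_empty]
      exact ⟨inferInstance, IsPGroup.of_bot⟩
    | @insert a s ha hs ih =>
      intro h
      obtain ⟨h1, h2⟩ := ih fun N hN => h N (Set.mem_insert_of_mem _ hN)
      obtain ⟨h3, h4⟩ := h a (Set.mem_insert _ _)
      rw [sSup_insert]
      exact ⟨inferInstance, h4.to_sup_of_normal_right h2⟩
  exact (key _ (Set.toFinite _) fun N hN => hN).2

theorem le_pCore {N : Subgroup G} (hN : N.Normal) (h2 : IsPGroup 2 N) : N ≤ pCore 2 G :=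
  le_sSup ⟨hN, h2⟩

instance pCore_normal : (pCore 2 G).Normal := by
  refine ⟨fun n hn g => ?_⟩
  have h1 : (pCore 2 G).map (MulAut.conj g).toMonoidHom ≤ pCore 2 G := by
    show (sSup {N : Subgroup G | N.Normal ∧ IsPGroup 2 N}).map _ ≤ _
    rw [sSup_eq_iSup', Subgroup.map_iSup]
    refine iSup_le fun N => ?_
    have h2 : (N : Subgroup G).map (MulAut.conj g).toMonoidHom ≤ N := by
      rintro _ ⟨x, hx, rfl⟩
      exact N.2.1.conj_mem x hx g
    refine h2.trans ?_
    exact le_sSup N.2
  exact h1 ⟨n, hn, rfl⟩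

/-- The criterion. -/
theorem isCharacteristicTwoType [Finite G] (he : Even (Nat.card G))
    (h : ∀ t : G, orderOf t = 2 → Good t) : IsCharacteristicTwoType G := by
  have hf : Fact (Nat.Prime 2) := ⟨Nat.prime_two⟩
  refine ⟨he, fun T hT hT1 => ?_⟩
  set N := normalizer (T : Set G) with hN
  set R : Subgroup G := (pCore 2 ↥N).map N.subtype with hR
  have hR2 : IsPGroup 2 R := pCore_isPGroup.map _
  have hRN : R ≤ N := map_subtype_le _
  have hTR : T ≤ R := by
    intro x hx
    refine ⟨⟨x, le_normalizer hx⟩, ?_, rfl⟩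
    refine le_pCore (N := T.subgroupOf N) normal_in_normalizer (hT.comap_of_injective _
      N.subtype_injective) ?_
    exact hx
  have hRn : ∀ g ∈ N, ∀ x ∈ R, g * x * g⁻¹ ∈ R := by
    rintro g hg _ ⟨x, hx, rfl⟩
    exact ⟨⟨g, hg⟩ * x * ⟨g, hg⟩⁻¹, pCore_normal.conj_mem x hx ⟨g, hg⟩, rfl⟩
  have hR1 : R ≠ ⊥ := fun h1 => hT1 (le_bot_iff.mp (h1 ▸ hTR))
  -- an involution in the centre of `R`
  obtain ⟨z, hzR, hzc, hz2⟩ : ∃ z ∈ R, (∀ x ∈ R, x * z = z * x) ∧ orderOf z = 2 := by
    have : Nontrivial R := (nontrivial_iff_ne_bot R).2 hR1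
    have hc := hR2.center_nontrivial
    have h2 : IsPGroup 2 (center R) := hR2.to_subgroup _
    obtain ⟨n, hn, hn'⟩ := (h2.nontrivial_iff_card).1 hc
    have hdvd : 2 ∣ Nat.card (center R) := by
      rw [hn']; exact dvd_pow_self 2 hn.ne'
    obtain ⟨z, hz⟩ := exists_prime_orderOf_dvd_card' 2 hdvd
    refine ⟨((z : R) : G), (z : R).2, ?_, ?_⟩
    · intro x hx
      have h3 := mem_center_iff.mp z.2 ⟨x, hx⟩
      exact congrArg Subtype.val h3
    · rw [orderOf_coe, orderOf_coe]; exact hz
  obtain ⟨Q, hQ, hQn, hQy⟩ := h z hz2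
  -- the centralizer of `R`
  have hD : ∀ y, (∀ x ∈ R, y * x = x * y) → y ∈ N := by
    intro y hy
    rw [hN, mem_normalizer_iff]
    intro x
    constructor
    · intro hx
      rw [hy x (hTR hx), mul_inv_cancel_right]; exact hx
    · intro hx
      have h1 : y * (y * x * y⁻¹) = y * x * y⁻¹ * y := hy _ (hTR hx)
      have h2 : y * x * y⁻¹ = x := by
        have h3 : y * (y * x * y⁻¹) = y * x := by rw [h1]; group
        exact mul_left_cancel h3
      rwa [h2] at hx
  have hEn : R ≤ normalizer (Q : Set G) := by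
    intro x hx
    rw [mem_normalizer_iff]
    intro q
    constructor
    · exact fun hq => hQn x (hzc x hx) q hq
    · intro hq
      have h1 := hQn x⁻¹ (hzc x⁻¹ (inv_mem hx)) _ hq
      have e : x⁻¹ * (x * q * x⁻¹) * x⁻¹⁻¹ = q := by group
      rwa [e] at h1
  set E := R ⊔ Q with hE
  have hE2 : IsPGroup 2 E := hR2.to_sup_of_normal_right' hQ hEn
  have hDE : ∀ y, (∀ x ∈ R, y * x = x * y) → y ∈ normalizer (E : Set G) := by
    intro y hy
    have hyz : ∀ w, (∀ x ∈ R, w * x = x * w) → w * z = z * w := fun w hw => hw z hzR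
    have h1 : ∀ w, (∀ x ∈ R, w * x = x * w) → E ≤ E.comap (MulAut.conj w).toMonoidHom := by
      intro w hw
      rw [hE]
      refine sup_le ?_ ?_
      · intro x hx
        show w * x * w⁻¹ ∈ E
        rw [hw x hx, mul_inv_cancel_right]
        exact mem_sup_left hx
      · intro x hx
        exact mem_sup_right (hQn w (hyz w hw) x hx)
    have hyi : ∀ x ∈ R, y⁻¹ * x = x * y⁻¹ := by
      intro x hx
      calc y⁻¹ * x = y⁻¹ * (x * y) * y⁻¹ := by group
        _ = y⁻¹ * (y * x) * y⁻¹ := by rw [hy x hx]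
        _ = x * y⁻¹ := by group
    rw [mem_normalizer_iff]
    intro x
    constructor
    · exact fun hx => h1 y hy hx
    · intro hx
      have h2 : y⁻¹ * (y * x * y⁻¹) * y⁻¹⁻¹ ∈ E := h1 y⁻¹ hyi hx
      have e : y⁻¹ * (y * x * y⁻¹) * y⁻¹⁻¹ = x := by group
      rwa [e] at h2
  -- `C_E(R) ≤ R`
  set D : Subgroup ↥N := centralizer (pCore 2 ↥N : Set ↥N) with hDdef
  have hDn : D.Normal := by
    rw [hDdef]
    infer_instance
  have hmD : ∀ y : ↥N, y ∈ D ↔ ∀ x ∈ R, (y : G) * x = x * y := by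
    intro y
    rw [hDdef, mem_centralizer_iff]
    constructor
    · rintro hy _ ⟨x, hx, rfl⟩
      exact (congrArg Subtype.val (hy x hx)).symm
    · intro hy x hx
      exact Subtype.ext (hy x ⟨x, hx, rfl⟩).symm
  have hcen : E ⊓ centralizer (R : Set G) ≤ R := by
    rintro c ⟨hcE, hcR⟩
    have hc : ∀ x ∈ R, c * x = x * c := fun x hx => (mem_centralizer_iff.mp hcR x hx).symm
    have hcN := hD c hc
    -- `E ∩ D` is normal in `D`
    set K : Subgroup ↥D := (E.comap (N.subtype.comp D.subtype)) with hK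
    have hKn : K.Normal := by
      refine ⟨fun k hk d => ?_⟩
      have h1 := (mem_normalizer_iff.mp (hDE _ ((hmD _).1 d.2)) (k : G)).1 hk
      exact h1
    have hK2 : IsPGroup 2 K := by
      refine hE2.comap_of_injective _ ?_
      exact N.subtype_injective.comp D.subtype_injective
    have h1 : K ≤ pCore 2 ↥D := le_pCore hKn hK2
    have h2 : (pCore 2 ↥D).map D.subtype ≤ pCore 2 ↥N := by
      refine le_pCore ?_ (pCore_isPGroup.map _)
      have hchar : (pCore 2 ↥D).Characteristic := by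
        rw [characteristic_iff_map_le]
        intro φ
        show (sSup {N : Subgroup ↥D | N.Normal ∧ IsPGroup 2 N}).map _ ≤ _
        rw [sSup_eq_iSup', Subgroup.map_iSup]
        refine iSup_le fun M => le_pCore ?_ (M.2.2.map _)
        exact M.2.1.map _ φ.surjective
      exact ConjAct.normal_of_characteristic_of_normal
    have h3 : (⟨⟨c, hcN⟩, (hmD _).2 hc⟩ : ↥D) ∈ K := hcE
    exact ⟨⟨c, hcN⟩, h2 ⟨_, h1 h3, rfl⟩, rfl⟩
  -- elements of odd order of `D` are trivial
  have hodd : ∀ y : ↥N, y ∈ D → Odd (orderOf y) → y = 1 := by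
    intro y hy ho
    have hy' := (hmD y).1 hy
    have hoG : Odd (orderOf (y : G)) := by rw [orderOf_coe]; exact ho
    have h1 : (y : G) ∈ centralizer (E : Set G) := by
      refine OddOrderLocal.SelfCentFixed.mem_centralizer_of_inf_le (p := 2) (P := R) hE2
        le_sup_left hcen ?_ (hDE _ hy') ?_
      · exact Nat.coprime_two_right.mpr hoG
      · exact mem_centralizer_iff.mpr fun x hx => (hy' x hx).symm
    have h2 : (y : G) = 1 := by
      refine hQy _ (hy' z hzR) (fun x hx => ?_) hoG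
      exact (mem_centralizer_iff.mp h1 x (mem_sup_right hx)).symm
    exact Subtype.ext h2
  have hD2 : IsPGroup 2 D := by
    rw [IsPGroup.iff_orderOf]
    intro d
    by_contra hcon
    -- odd part
    obtain ⟨k, m, hm, hkm⟩ := Nat.exists_eq_two_pow_mul_odd (orderOf_pos (d : ↥N)).ne'
    have h1 : orderOf ((d : ↥N) ^ (2 ^ k)) = m := by
      rw [orderOf_pow, hkm, Nat.gcd_eq_right (dvd_mul_right _ _), Nat.mul_div_cancel_left _
        (by positivity)]
    have h2 : (d : ↥N) ^ (2 ^ k) = 1 := hodd _ (D.pow_mem d.2 _) (by rw [h1]; exact hm)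
    apply hcon
    rw [h2, orderOf_one] at h1
    refine ⟨k, ?_⟩
    rw [← orderOf_coe, hkm, ← h1, mul_one]
  exact le_pCore hDn hD2

/-- Transfer of characteristic 2 type along an isomorphism, through the criterion. -/
theorem isCharacteristicTwoType_of_equiv [Finite G] {H : Type*} [Group H] (e : H ≃* G)
    (he : Even (Nat.card H)) (h : ∀ t : H, orderOf t = 2 → Good t) :
    IsCharacteristicTwoType G := by
  refine isCharacteristicTwoType ?_ fun t ht => ?_
  · rwa [← Nat.card_congr e.toEquiv]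
  · have h1 := good_map e (h (e.symm t) (by rw [MulEquiv.orderOf_eq]; exact ht))
    rwa [e.apply_symm_apply] at h1

end Cfsg.Agent.OddHalf.Small.Crit
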