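import Mathlib
import Cfsg.Prelude.Def_CaseTheorems
import Cfsg.Agent.OddHalf.Small.Crit

/-!
# Involutions with centralizer `GL₂(3)` are good

`O₂(GL₂(3))` is the quaternion group of the matrices `± 1` and the matrices of determinant one and
trace zero; only scalars centralize it.
-/

set_option autoImplicit false

namespace Cfsg.Agent.OddHalf.Small.GLTwoThree

open Subgroup Cfsg Crit

/-- If the centralizer of `t` is the image of `H` and `H` has a normal 2-subgroup centralized by no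
nontrivial element of odd order, then `t` is good. -/
theorem good_of_hom {H G : Type*} [Group H] [Group G] {t : G} (φ : H →* G)
    (hφ : Function.Injective φ) (hr : ∀ y, y * t = t * y → ∃ x, φ x = y) (Q : Subgroup H)
    (hn : Q.Normal) (hQ : IsPGroup 2 Q)
    (hc : ∀ y : H, (∀ x ∈ Q, y * x = x * y) → Odd (orderOf y) → y = 1) : Good t := by
  refine ⟨Q.map φ, hQ.map _, ?_, ?_⟩
  · rintro g hg _ ⟨x, hx, rfl⟩
    obtain ⟨h, rfl⟩ := hr g hg
    refine ⟨h * x * h⁻¹, hn.conj_mem x hx h, ?_⟩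
    rw [map_mul, map_mul, map_inv]
  · intro y hy hyQ ho
    obtain ⟨h, rfl⟩ := hr y hy
    rw [hc h ?_ ?_, map_one]
    · intro x hx
      apply hφ
      rw [map_mul, map_mul]
      exact hyQ _ ⟨x, hx, rfl⟩
    · rwa [orderOf_injective φ hφ] at ho

/-- The same with an isomorphism. -/
theorem good_of_equiv {H G : Type*} [Group H] [Group G] {t : G}
    (e : centralizer ({t} : Set G) ≃* H) (Q : Subgroup H)
    (hn : Q.Normal) (hQ : IsPGroup 2 Q)
    (hc : ∀ y : H, (∀ x ∈ Q, y * x = x * y) → Odd (orderOf y) → y = 1) : Good t := by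
  refine good_of_hom ((centralizer ({t} : Set G)).subtype.comp e.symm.toMonoidHom) ?_ ?_ Q hn hQ hc
  · exact (Subtype.val_injective).comp e.symm.injective
  · intro y hy
    refine ⟨e ⟨y, mem_centralizer_singleton_iff.mpr hy⟩, ?_⟩
    show ((e.symm (e _) : centralizer ({t} : Set G)) : G) = y
    rw [e.symm_apply_apply]

/-- Membership in the quaternion group, as a condition on the entries. -/
def InQ (a b c d : ZMod 3) : Prop :=
  a * d - b * c = 1 ∧ (a + d = 0 ∨ (b = 0 ∧ c = 0 ∧ a = d))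

instance (a b c d : ZMod 3) : Decidable (InQ a b c d) := by
  unfold InQ; infer_instance

theorem inQ_mul : ∀ a b c d a' b' c' d' : ZMod 3, InQ a b c d → InQ a' b' c' d' →
    InQ (a * a' + b * c') (a * b' + b * d') (c * a' + d * c') (c * b' + d * d') := by
  decide +kernel

/-- The quaternion group. -/
def Q8 : Subgroup (GL (Fin 2) (ZMod 3)) where
  carrier := {A | InQ (A.1 0 0) (A.1 0 1) (A.1 1 0) (A.1 1 1)}
  mul_mem' := by
    intro A B hA hB
    have h := inQ_mul _ _ _ _ _ _ _ _ hA hB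
    show InQ ((A.1 * B.1) 0 0) ((A.1 * B.1) 0 1) ((A.1 * B.1) 1 0) ((A.1 * B.1) 1 1)
    simp only [Matrix.mul_apply, Fin.sum_univ_two]
    exact h
  one_mem' := by
    show InQ ((1 : Matrix (Fin 2) (Fin 2) (ZMod 3)) 0 0) ((1 : Matrix (Fin 2) (Fin 2) (ZMod 3)) 0 1)
      ((1 : Matrix (Fin 2) (Fin 2) (ZMod 3)) 1 0) ((1 : Matrix (Fin 2) (Fin 2) (ZMod 3)) 1 1)
    decide
  inv_mem' := by
    intro A hA
    have h1 : A⁻¹.1 = !![A.1 1 1, - A.1 0 1; - A.1 1 0, A.1 0 0] := by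
      have h2 : A.1 * !![A.1 1 1, - A.1 0 1; - A.1 1 0, A.1 0 0] = 1 := by
        have hd := hA.1
        ext i j
        fin_cases i <;> fin_cases j <;>
          simp [Matrix.mul_apply, Fin.sum_univ_two]
        · linear_combination hd
        · ring
        · ring
        · linear_combination hd
      have h3 : A.1 * A⁻¹.1 = 1 := congrArg Units.val (mul_inv_cancel A)
      have h4 : A⁻¹.1 * A.1 = 1 := congrArg Units.val (inv_mul_cancel A)
      calc A⁻¹.1 = A⁻¹.1 * (A.1 * !![A.1 1 1, - A.1 0 1; - A.1 1 0, A.1 0 0]) := by rw [h2, mul_one]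
        _ = _ := by rw [← mul_assoc, h4, one_mul]
    show InQ (A⁻¹.1 0 0) (A⁻¹.1 0 1) (A⁻¹.1 1 0) (A⁻¹.1 1 1)
    rw [h1]
    obtain ⟨hd, h⟩ := hA
    refine ⟨?_, ?_⟩
    · simp
      linear_combination hd
    · rcases h with h | ⟨h2, h3, h4⟩
      · left; simp; linear_combination h
      · right; simp [h2, h3, h4]

theorem mem_Q8 {A : GL (Fin 2) (ZMod 3)} : A ∈ Q8 ↔ InQ (A.1 0 0) (A.1 0 1) (A.1 1 0) (A.1 1 1) :=
  Iff.rfl

theorem pow_four_aux : ∀ a b c d : ZMod 3, InQ a b c d →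
    !![a, b; c, d] * !![a, b; c, d] * (!![a, b; c, d] * !![a, b; c, d]) =
      (1 : Matrix (Fin 2) (Fin 2) (ZMod 3)) := by
  decide +kernel

theorem isPGroup_Q8 : IsPGroup 2 Q8 := by
  rintro ⟨A, hA⟩
  refine ⟨2, ?_⟩
  apply Subtype.ext
  apply Units.ext
  show A.1 ^ (2 ^ 2) = 1
  have h := pow_four_aux _ _ _ _ hA
  rw [← Matrix.eta_fin_two A.1] at h
  rw [show (2 : ℕ) ^ 2 = 4 from rfl, ← h, pow_succ, pow_succ, pow_two]
  simp only [mul_assoc]

theorem conj_aux : ∀ a b c d x y z w : ZMod 3, a * d - b * c ≠ 0 → InQ x y z w →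
    InQ ((a * x + b * z) * ((a * d - b * c) * d) + (a * y + b * w) * ((a * d - b * c) * -c))
      ((a * x + b * z) * ((a * d - b * c) * -b) + (a * y + b * w) * ((a * d - b * c) * a))
      ((c * x + d * z) * ((a * d - b * c) * d) + (c * y + d * w) * ((a * d - b * c) * -c))
      ((c * x + d * z) * ((a * d - b * c) * -b) + (c * y + d * w) * ((a * d - b * c) * a)) := by
  decide +kernel

theorem inv_aux : ∀ a b c d : ZMod 3, a * d - b * c ≠ 0 →
    !![a, b; c, d] * !![(a * d - b * c) * d, (a * d - b * c) * -b; (a * d - b * c) * -c,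
      (a * d - b * c) * a] = (1 : Matrix (Fin 2) (Fin 2) (ZMod 3)) := by
  decide +kernel

theorem det_ne (g : GL (Fin 2) (ZMod 3)) : g.1 0 0 * g.1 1 1 - g.1 0 1 * g.1 1 0 ≠ 0 := by
  rw [← Matrix.det_fin_two]
  exact ((Matrix.isUnit_iff_isUnit_det g.1).1 g.isUnit).ne_zero

theorem inv_eq (g : GL (Fin 2) (ZMod 3)) : g⁻¹.1 =
    !![(g.1 0 0 * g.1 1 1 - g.1 0 1 * g.1 1 0) * g.1 1 1,
      (g.1 0 0 * g.1 1 1 - g.1 0 1 * g.1 1 0) * -g.1 0 1;
      (g.1 0 0 * g.1 1 1 - g.1 0 1 * g.1 1 0) * -g.1 1 0,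
      (g.1 0 0 * g.1 1 1 - g.1 0 1 * g.1 1 0) * g.1 0 0] := by
  have h2 := inv_aux _ _ _ _ (det_ne g)
  rw [← Matrix.eta_fin_two g.1] at h2
  have h4 : g⁻¹.1 * g.1 = 1 := congrArg Units.val (inv_mul_cancel g)
  calc g⁻¹.1 = g⁻¹.1 * (g.1 * _) := by rw [h2, mul_one]
    _ = _ := by rw [← mul_assoc, h4, one_mul]

instance normal_Q8 : Q8.Normal := by
  refine ⟨fun A hA g => ?_⟩
  have h := conj_aux _ _ _ _ _ _ _ _ (det_ne g) hA
  show InQ ((g.1 * A.1 * g⁻¹.1) 0 0) ((g.1 * A.1 * g⁻¹.1) 0 1) ((g.1 * A.1 * g⁻¹.1) 1 0)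
    ((g.1 * A.1 * g⁻¹.1) 1 1)
  rw [inv_eq]
  simp only [Matrix.mul_apply, Fin.sum_univ_two]
  exact h

/-- Two generators of the quaternion group. -/
def iM : GL (Fin 2) (ZMod 3) := ⟨!![0, 2; 1, 0], !![0, 1; 2, 0], by decide, by decide⟩
/-- Two generators of the quaternion group. -/
def jM : GL (Fin 2) (ZMod 3) := ⟨!![1, 1; 1, 2], !![2, 2; 2, 1], by decide, by decide⟩

theorem iM_mem : iM ∈ Q8 := by
  show InQ 0 2 1 0
  decide

theorem jM_mem : jM ∈ Q8 := by
  show InQ 1 1 1 2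
  decide

theorem comm_aux : ∀ a b c d : ZMod 3, a * d - b * c ≠ 0 →
    !![a, b; c, d] * !![0, 2; 1, 0] = !![0, 2; 1, 0] * !![a, b; c, d] →
    !![a, b; c, d] * !![1, 1; 1, 2] = !![1, 1; 1, 2] * !![a, b; c, d] →
    !![a, b; c, d] * !![a, b; c, d] = (1 : Matrix (Fin 2) (Fin 2) (ZMod 3)) := by
  decide +kernel

theorem eq_one_of_comm (y : GL (Fin 2) (ZMod 3)) (hy : ∀ x ∈ Q8, y * x = x * y)
    (ho : Odd (orderOf y)) : y = 1 := by
  have h1 : y.1 * !![0, 2; 1, 0] = !![0, 2; 1, 0] * y.1 := congrArg Units.val (hy iM iM_mem)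
  have h2 : y.1 * !![1, 1; 1, 2] = !![1, 1; 1, 2] * y.1 := congrArg Units.val (hy jM jM_mem)
  rw [Matrix.eta_fin_two y.1] at h1 h2
  have h3 := comm_aux _ _ _ _ (det_ne y) h1 h2
  rw [← Matrix.eta_fin_two y.1] at h3
  have h4 : y ^ 2 = 1 := by
    rw [pow_two]
    exact Units.ext h3
  have h5 : orderOf y ∣ 2 := orderOf_dvd_of_pow_eq_one h4
  exact orderOf_eq_one_iff.mp (Nat.Coprime.eq_one_of_dvd (Nat.coprime_two_right.mpr ho) h5)

/-- An involution with centralizer `GL₂(3)` is good. -/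
theorem good_of_gl {G : Type*} [Group G] {t : G}
    (e : centralizer ({t} : Set G) ≃* GL (Fin 2) (ZMod 3)) : Good t :=
  good_of_equiv e Q8 normal_Q8 isPGroup_Q8 eq_one_of_comm

end Cfsg.Agent.OddHalf.Small.GLTwoThree
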