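import Mathlib
import Cfsg.Prelude.Def_CaseTheorems
import Cfsg.Agent.OddHalf.Small.Crit

/-!
# Characteristic 2 type is invariant under isomorphism
-/

set_option autoImplicit false

namespace Cfsg.Agent.OddHalf.Small.Transport

open Subgroup Cfsg

variable {G H : Type*} [Group G] [Group H]

theorem map_pCore_le (e : G ≃* H) : (pCore 2 G).map e.toMonoidHom ≤ pCore 2 H := by
  show (sSup {N : Subgroup G | N.Normal ∧ IsPGroup 2 N}).map _ ≤ _
  rw [sSup_eq_iSup', Subgroup.map_iSup]
  refine iSup_le fun N => le_sSup ⟨?_, N.2.2.map _⟩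
  exact N.2.1.map _ e.surjective

theorem isOfCharacteristicTwo (e : G ≃* H) (h : IsOfCharacteristicTwo G) :
    IsOfCharacteristicTwo H := by
  intro x hx
  have h1 : e.symm x ∈ pCore 2 G := by
    apply h
    rw [mem_centralizer_iff]
    intro y hy
    have h2 := mem_centralizer_iff.mp hx (e y) (map_pCore_le e ⟨y, hy, rfl⟩)
    apply e.injective
    rw [map_mul, map_mul, e.apply_symm_apply]
    exact h2
  have h3 := map_pCore_le e ⟨_, h1, rfl⟩
  have h4 : e.toMonoidHom (e.symm x) = x := e.apply_symm_apply x
  rwa [h4] at h3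

/-- The normalizers of corresponding subgroups are isomorphic. -/
noncomputable def normalizerEquiv (e : G ≃* H) (T : Subgroup H) :
    ↥(normalizer (T.comap e.toMonoidHom : Set G)) ≃* ↥(normalizer (T : Set H)) where
  toFun x := ⟨e x, by
    rw [mem_normalizer_iff]
    intro y
    have h1 := mem_normalizer_iff.mp x.2 (e.symm y)
    have h2 : e.symm y ∈ T.comap e.toMonoidHom ↔ y ∈ T := by
      show e (e.symm y) ∈ T ↔ _
      rw [e.apply_symm_apply]
    have h3 : (x : G) * e.symm y * (x : G)⁻¹ ∈ T.comap e.toMonoidHom ↔ e x * y * (e x)⁻¹ ∈ T := by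
      show e (x * e.symm y * (x : G)⁻¹) ∈ T ↔ _
      rw [map_mul, map_mul, map_inv, e.apply_symm_apply]
    rw [← h2, ← h3]
    exact h1⟩
  invFun x := ⟨e.symm x, by
    rw [mem_normalizer_iff]
    intro y
    have h1 := mem_normalizer_iff.mp x.2 (e y)
    have h3 : e.symm (x : H) * y * (e.symm (x : H))⁻¹ ∈ T.comap e.toMonoidHom ↔
        (x : H) * e y * (x : H)⁻¹ ∈ T := by
      show e (e.symm (x : H) * y * (e.symm (x : H))⁻¹) ∈ T ↔ _
      rw [map_mul, map_mul, map_inv, e.apply_symm_apply]
    rw [h3]
    exact h1⟩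
  left_inv x := Subtype.ext (e.symm_apply_apply _)
  right_inv x := Subtype.ext (e.apply_symm_apply _)
  map_mul' x y := Subtype.ext (map_mul e _ _)

/-- Characteristic 2 type is invariant under isomorphism. -/
theorem isCharacteristicTwoType (e : G ≃* H) (h : IsCharacteristicTwoType G) :
    IsCharacteristicTwoType H := by
  refine ⟨?_, fun T hT hT1 => ?_⟩
  · rw [← Nat.card_congr e.toEquiv]; exact h.1
  · refine isOfCharacteristicTwo (normalizerEquiv e T) (h.2 _ ?_ ?_)
    · exact hT.comap_of_injective _ e.injective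
    · intro h1
      apply hT1
      rw [eq_bot_iff]
      intro x hx
      have h2 : e.symm x ∈ T.comap e.toMonoidHom := by
        show e (e.symm x) ∈ T
        rw [e.apply_symm_apply]; exact hx
      rw [h1, mem_bot] at h2
      rw [mem_bot, ← e.apply_symm_apply x, h2, map_one]

/-- A group that is not of characteristic 2 type is not isomorphic to one that is. -/
theorem not_nonempty {X : Type*} [Group X] (hG : ¬ IsCharacteristicTwoType G)
    (hX : IsCharacteristicTwoType X) : ¬ Nonempty (G ≃* X) := fun ⟨e⟩ =>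
  hG (isCharacteristicTwoType e.symm hX)

end Cfsg.Agent.OddHalf.Small.Transport
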