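import Mathlib
import Cfsg.Prelude.Def_CaseTheorems
import Cfsg.Agent.OddHalf.Small.Transport
import Cfsg.Agent.OddHalf.Small.GLTwoThree
import Cfsg.Agent.TwoFusion.PSL3Inv
import Cfsg.Agent.Classification.RTwo.UThreeThree

/-!
# `U₃(3)` is of characteristic 2 type

Involution centralizers are isomorphic to `GU₂(3)`, with `O₂(GU₂(3)) = 4 ∘ Q₈` self-centralizing.
-/

set_option autoImplicit false

namespace Cfsg.Agent.OddHalf.Small.U33

open Matrix Subgroup Cfsg Crit Cfsg.Agent.Classification.RTwo.UThreeThree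

/-- The group `SU₃(3)`. -/
abbrev SU33 : Type := Cfsg.SU 3 K9 3

/-- The matrix of an element of `SU₃(3)`. -/
def mt (x : SU33) : Matrix (Fin 3) (Fin 3) K9 := x.1.1

theorem mt_mul (x y : SU33) : mt (x * y) = mt x * mt y := rfl

theorem mt_one : mt 1 = 1 := rfl

theorem mt_ext {x y : SU33} (h : mt x = mt y) : x = y := Subtype.ext (Subtype.ext h)

/-- Condition on the parameters of an element of `4 ∘ Q₈`. -/
def Cond (a b d : K9) : Prop :=
  a * (a * a * a) + b * (b * b * b) = 1 ∧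
    (a + d * (a * a * a) = 0 ∨ (b = 0 ∧ a = d * (a * a * a)))

instance (a b d : K9) : Decidable (Cond a b d) := by unfold Cond; infer_instance

/-- A sign. -/
def sg (e : Bool) : K9 := if e then 1 else -1

/-- The block matrix. -/
def bm (a b d : K9) : Matrix (Fin 3) (Fin 3) K9 :=
  !![d, 0, 0; 0, a, b; 0, -d * (b * b * b), d * (a * a * a)]

theorem cond_aux : ∀ a1 a2 b1 b2 : ZMod 3, ∀ e : Bool, Cond ⟨a1, a2⟩ ⟨b1, b2⟩ (sg e) →
    ∀ c1 c2 d1 d2 : ZMod 3, ∀ f : Bool, Cond ⟨c1, c2⟩ ⟨d1, d2⟩ (sg f) →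
    Cond (⟨a1, a2⟩ * ⟨c1, c2⟩ + ⟨b1, b2⟩ * (-sg f * (⟨d1, d2⟩ * ⟨d1, d2⟩ * ⟨d1, d2⟩)))
     (⟨a1, a2⟩ * ⟨d1, d2⟩ + ⟨b1, b2⟩ * (sg f * (⟨c1, c2⟩ * ⟨c1, c2⟩ * ⟨c1, c2⟩)))
     (sg (e == f)) ∧
     bm ⟨a1, a2⟩ ⟨b1, b2⟩ (sg e) * bm ⟨c1, c2⟩ ⟨d1, d2⟩ (sg f) =
      bm (⟨a1, a2⟩ * ⟨c1, c2⟩ + ⟨b1, b2⟩ * (-sg f * (⟨d1, d2⟩ * ⟨d1, d2⟩ * ⟨d1, d2⟩)))
       (⟨a1, a2⟩ * ⟨d1, d2⟩ + ⟨b1, b2⟩ * (sg f * (⟨c1, c2⟩ * ⟨c1, c2⟩ * ⟨c1, c2⟩)))
       (sg (e == f)) := by
  decide +kernel

theorem pow_aux : ∀ a1 a2 b1 b2 : ZMod 3, ∀ e : Bool, Cond ⟨a1, a2⟩ ⟨b1, b2⟩ (sg e) →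
    bm ⟨a1, a2⟩ ⟨b1, b2⟩ (sg e) * bm ⟨a1, a2⟩ ⟨b1, b2⟩ (sg e) *
      (bm ⟨a1, a2⟩ ⟨b1, b2⟩ (sg e) * bm ⟨a1, a2⟩ ⟨b1, b2⟩ (sg e)) = 1 := by
  decide +kernel

/-- Membership in `4 ∘ Q₈`. -/
def InQ (x : SU33) : Prop := ∃ (a b : K9) (e : Bool), Cond a b (sg e) ∧ mt x = bm a b (sg e)

theorem InQ.mul {x y : SU33} (hx : InQ x) (hy : InQ y) : InQ (x * y) := by
  obtain ⟨⟨a1, a2⟩, ⟨b1, b2⟩, e, hc, hx⟩ := hx
  obtain ⟨⟨c1, c2⟩, ⟨d1, d2⟩, f, hd, hy⟩ := hy
  have h := cond_aux a1 a2 b1 b2 e hc c1 c2 d1 d2 f hd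
  exact ⟨_, _, e == f, h.1, by rw [mt_mul, hx, hy]; exact h.2⟩

theorem InQ.pow_four {x : SU33} (hx : InQ x) : x ^ 4 = 1 := by
  obtain ⟨⟨a1, a2⟩, ⟨b1, b2⟩, e, hc, hx⟩ := hx
  have h := pow_aux a1 a2 b1 b2 e hc
  apply mt_ext
  have e1 : x ^ 4 = x * x * (x * x) := by
    rw [pow_succ, pow_succ, pow_two, mul_assoc]
  rw [e1, mt_mul, mt_mul, hx]
  exact h

/-- The group `4 ∘ Q₈`. -/
def Q : Subgroup SU33 where
  carrier := {x | InQ x}
  mul_mem' := InQ.mul
  one_mem' := ⟨1, 0, true, by decide +kernel, by rw [mt_one]; decide +kernel⟩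
  inv_mem' := by
    intro x hx
    have h1 : InQ x := hx
    have h2 : x⁻¹ = x * x * x := by
      have h3 := h1.pow_four
      rw [inv_eq_iff_mul_eq_one, ← h3, pow_succ', pow_succ, pow_two]
    show InQ x⁻¹
    rw [h2]
    exact (h1.mul h1).mul h1

theorem isPGroup_Q : IsPGroup 2 Q := by
  rintro ⟨x, hx⟩
  exact ⟨2, Subtype.ext (InQ.pow_four hx)⟩

theorem unitary (x : SU33) (i j : Fin 3) : mt x 0 i * (mt x 0 j * mt x 0 j * mt x 0 j)
    + mt x 1 i * (mt x 1 j * mt x 1 j * mt x 1 j) + mt x 2 i * (mt x 2 j * mt x 2 j * mt x 2 j) =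
      if i = j then 1 else 0 := by
  have h := (LieClassical.GUOrder.mul_map_eq_one_iff card_k9' (mt x)).1 x.2
  have h1 := congrFun (congrFun h i) j
  rw [Matrix.mul_apply, Fin.sum_univ_three, Matrix.one_apply] at h1
  rw [← h1]
  simp only [Matrix.transpose_apply, Matrix.map_apply, LieClassical.GUOrder.frob_apply, pow_succ,
    pow_zero, one_mul]

theorem det_eq (x : SU33) : (mt x).det = 1 := x.1.2

theorem cube_cube_aux : ∀ x1 x2 : ZMod 3, (⟨x1, x2⟩ : K9) * ⟨x1, x2⟩ * ⟨x1, x2⟩ *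
    (⟨x1, x2⟩ * ⟨x1, x2⟩ * ⟨x1, x2⟩) * (⟨x1, x2⟩ * ⟨x1, x2⟩ * ⟨x1, x2⟩) = ⟨x1, x2⟩ := by
  decide +kernel

theorem cube_cube (x : K9) : x * x * x * (x * x * x) * (x * x * x) = x := by
  obtain ⟨x1, x2⟩ := x
  exact cube_cube_aux x1 x2

theorem cube_neg_one_or : ∀ x1 x2 : ZMod 3, (⟨x1, x2⟩ : K9) * ⟨x1, x2⟩ = 1 →
    (⟨x1, x2⟩ : K9) = 1 ∨ (⟨x1, x2⟩ : K9) = -1 := by
  decide +kernel

/-- Characterization of the elements of `4 ∘ Q₈` by trace and entries. -/
theorem inQ_of {x : SU33} (h01 : mt x 0 1 = 0) (h02 : mt x 0 2 = 0) (h10 : mt x 1 0 = 0)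
    (h20 : mt x 2 0 = 0) (e : Bool) (h00 : mt x 0 0 = sg e)
    (ht : mt x 1 1 + mt x 2 2 = 0 ∨ (mt x 1 2 = 0 ∧ mt x 2 1 = 0 ∧ mt x 1 1 = mt x 2 2)) :
    InQ x := by
  have hdet := det_eq x
  rw [Matrix.det_fin_three, h01, h02, h10, h20, h00] at hdet
  have hse : sg e * sg e = 1 := by
    cases e <;> decide +kernel
  have u11 := unitary x 1 1
  have u22 := unitary x 2 2
  have u12 := unitary x 1 2
  have u21 := unitary x 2 1
  rw [h01] at u11 u12 u21
  rw [h02] at u22 u12 u21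
  simp only [mul_zero, zero_add, if_true, if_false, Fin.isValue, Fin.reduceEq] at u11 u22 u12 u21
  set a := mt x 1 1
  set b := mt x 1 2
  set c := mt x 2 1
  set d := mt x 2 2
  set s := sg e
  have hd' : a * d - b * c = s := by
    linear_combination s * hdet - (a * d - b * c) * hse
  have hd : d = s * (a * a * a) := by
    linear_combination (-d) * u11 + (a * a * a) * hd' + c * u21
  have hc : c = -s * (b * b * b) := by
    linear_combination (-c) * u22 - (b * b * b) * hd' + d * u12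
  have h9 := cube_cube a
  have hb9 := cube_cube b
  have hs3 : s * s * s = s := by rw [hse, one_mul]
  refine ⟨a, b, e, ⟨?_, ?_⟩, ?_⟩
  · have h1 : d * (d * d * d) = a * (a * a * a) := by
      rw [hd]
      linear_combination (a * a * a * s * (s * s * s)) * h9 + (a * (a * a * a) * (s * s + 1)) * hse
    linear_combination u22 - h1
  · rcases ht with h | ⟨h1, h2, h3⟩
    · left
      rw [← hd]; exact h
    · right
      exact ⟨h1, by rw [← hd]; exact h3⟩
  · refine Matrix.ext fun i j => ?_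
    fin_cases i <;> fin_cases j
    · exact h00
    · exact h01
    · exact h02
    · exact h10
    · rfl
    · rfl
    · exact h20
    · exact hc
    · exact hd

/-- The involution `diag(1,-1,-1)`. -/
def dg : Matrix (Fin 3) (Fin 3) K9 := !![1, 0, 0; 0, -1, 0; 0, 0, -1]

theorem isGood_dg : IsGood dg := by decide +kernel

/-- The involution `diag(1,-1,-1)`. -/
def t0 : SU33 := isGood_dg.su

theorem mt_t0 : mt t0 = dg := rfl

theorem eq_zero_of_neg : ∀ x1 x2 : ZMod 3, -(⟨x1, x2⟩ : K9) = ⟨x1, x2⟩ → (⟨x1, x2⟩ : K9) = 0 := by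
  decide +kernel

theorem zero_of_neg {x : K9} (h : -x = x) : x = 0 := by
  obtain ⟨x1, x2⟩ := x
  exact eq_zero_of_neg x1 x2 h

/-- Zero pattern of the elements commuting with `t0`. -/
theorem pattern {x : SU33} (h : x * t0 = t0 * x) :
    mt x 0 1 = 0 ∧ mt x 0 2 = 0 ∧ mt x 1 0 = 0 ∧ mt x 2 0 = 0 := by
  have h1 : mt x * dg = dg * mt x := congrArg mt h
  have e : ∀ i j, (mt x * dg) i j = (dg * mt x) i j := fun i j => by rw [h1]
  refine ⟨?_, ?_, ?_, ?_⟩
  · have h2 := e 0 1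
    simp only [Matrix.mul_apply, Fin.sum_univ_three] at h2
    apply zero_of_neg
    simpa [dg] using h2
  · have h2 := e 0 2
    simp only [Matrix.mul_apply, Fin.sum_univ_three] at h2
    apply zero_of_neg
    simpa [dg] using h2
  · have h2 := e 1 0
    simp only [Matrix.mul_apply, Fin.sum_univ_three] at h2
    apply zero_of_neg
    simpa [dg] using h2.symm
  · have h2 := e 2 0
    simp only [Matrix.mul_apply, Fin.sum_univ_three] at h2
    apply zero_of_neg
    simpa [dg] using h2.symm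

theorem comm_of_inQ {x : SU33} (h : InQ x) : x * t0 = t0 * x := by
  obtain ⟨a, b, e, -, hx⟩ := h
  apply mt_ext
  rw [mt_mul, mt_mul, hx, mt_t0]
  refine Matrix.ext fun i j => ?_
  fin_cases i <;> fin_cases j <;> simp [bm, dg, Matrix.mul_apply, Fin.sum_univ_three]

theorem conj_mem {g x : SU33} (hg : g * t0 = t0 * g) (hx : InQ x) : InQ (g * x * g⁻¹) := by
  have hxc := comm_of_inQ hx
  have hyc : g * x * g⁻¹ * t0 = t0 * (g * x * g⁻¹) := by
    have h1 : g⁻¹ * t0 = t0 * g⁻¹ := by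
      calc g⁻¹ * t0 = g⁻¹ * (t0 * g) * g⁻¹ := by group
        _ = g⁻¹ * (g * t0) * g⁻¹ := by rw [hg]
        _ = t0 * g⁻¹ := by group
    calc g * x * g⁻¹ * t0 = g * x * (g⁻¹ * t0) := by group
      _ = g * (x * t0) * g⁻¹ := by rw [h1]; group
      _ = (g * t0) * x * g⁻¹ := by rw [hxc]; group
      _ = t0 * (g * x * g⁻¹) := by rw [hg]; group
  obtain ⟨g01, g02, g10, g20⟩ := pattern hg
  obtain ⟨y01, y02, y10, y20⟩ := pattern hyc
  obtain ⟨a, b, e, hc, hx'⟩ := hx
  have hgi : mt g * mt g⁻¹ = 1 := by rw [← mt_mul, mul_inv_cancel, mt_one]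
  have hig : mt g⁻¹ * mt g = 1 := by rw [← mt_mul, inv_mul_cancel, mt_one]
  have h00 : mt (g * x * g⁻¹) 0 0 = sg e := by
    have h1 := congrFun (congrFun hgi 0) 0
    rw [Matrix.mul_apply, Fin.sum_univ_three, g01, g02] at h1
    have h2 : mt (g * x * g⁻¹) 0 0 = sg e * (mt g 0 0 * mt g⁻¹ 0 0) := by
      rw [mt_mul, mt_mul, hx']
      simp only [Matrix.mul_apply, Fin.sum_univ_three, g01, g02]
      simp [bm]
      ring
    rw [h2]
    simp at h1
    rw [h1, mul_one]
  have htr : (mt (g * x * g⁻¹)).trace = (mt x).trace := by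
    rw [mt_mul, mt_mul, Matrix.trace_mul_comm, ← mul_assoc, hig, one_mul]
  refine inQ_of y01 y02 y10 y20 e h00 ?_
  rcases hc.2 with h | ⟨hb, ha⟩
  · left
    rw [Matrix.trace_fin_three, Matrix.trace_fin_three, h00, hx'] at htr
    have h3 : (bm a b (sg e)) 1 1 + (bm a b (sg e)) 2 2 = 0 := h
    have h4 : (bm a b (sg e)) 0 0 = sg e := rfl
    rw [h4] at htr
    linear_combination htr + h3
  · right
    have hcom : g * x = x * g := by
      apply mt_ext
      rw [mt_mul, mt_mul, hx']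
      refine Matrix.ext fun i j => ?_
      simp only [Matrix.mul_apply, Fin.sum_univ_three]
      fin_cases i <;> fin_cases j <;>
        simp [bm, g01, g02, g10, g20, hb, mul_comm]
      · linear_combination (-(mt g 1 2)) * ha
      · linear_combination (mt g 2 1) * ha
    have h5 : g * x * g⁻¹ = x := by rw [hcom]; group
    rw [h5, hx']
    refine ⟨?_, ?_, ?_⟩
    · exact hb
    · show -sg e * (b * b * b) = 0
      rw [hb, mul_zero, mul_zero]
    · exact ha

/-- Generators of `4 ∘ Q₈`. -/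
def iMat : Matrix (Fin 3) (Fin 3) K9 := !![1, 0, 0; 0, 0, 1; 0, -1, 0]
/-- Generators of `4 ∘ Q₈`. -/
def jMat : Matrix (Fin 3) (Fin 3) K9 := !![1, 0, 0; 0, ⟨0, 1⟩, 0; 0, 0, ⟨0, 2⟩]

theorem isGood_i : IsGood iMat := by decide +kernel
theorem isGood_j : IsGood jMat := by decide +kernel

theorem i_mem : InQ isGood_i.su := ⟨0, 1, true, by decide +kernel, by
  show iMat = _
  decide +kernel⟩

theorem j_mem : InQ isGood_j.su := ⟨⟨0, 1⟩, 0, true, by decide +kernel, by
  show jMat = _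
  decide +kernel⟩

theorem jj_ne : (⟨0, 1⟩ : K9) - ⟨0, 2⟩ ≠ 0 := by decide +kernel

theorem eq_one_of_comm {y : SU33} (hy : y * t0 = t0 * y) (hq : ∀ x ∈ Q, y * x = x * y)
    (ho : Odd (orderOf y)) : y = 1 := by
  obtain ⟨y01, y02, y10, y20⟩ := pattern hy
  have hi : mt y * iMat = iMat * mt y := congrArg mt (hq _ i_mem)
  have hj : mt y * jMat = jMat * mt y := congrArg mt (hq _ j_mem)
  have y12 : mt y 1 2 = 0 := by
    have h := congrFun (congrFun hj 1) 2
    simp only [Matrix.mul_apply, Fin.sum_univ_three] at h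
    simp [jMat] at h
    have h2 : ((⟨0, 1⟩ : K9) - ⟨0, 2⟩) * mt y 1 2 = 0 := by linear_combination -h
    exact (mul_eq_zero.1 h2).resolve_left jj_ne
  have y21 : mt y 2 1 = 0 := by
    have h := congrFun (congrFun hj 2) 1
    simp only [Matrix.mul_apply, Fin.sum_univ_three] at h
    simp [jMat] at h
    have h2 : ((⟨0, 1⟩ : K9) - ⟨0, 2⟩) * mt y 2 1 = 0 := by linear_combination h
    exact (mul_eq_zero.1 h2).resolve_left jj_ne
  have y11 : mt y 1 1 = mt y 2 2 := by
    have h := congrFun (congrFun hi 1) 2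
    simp only [Matrix.mul_apply, Fin.sum_univ_three] at h
    simpa [iMat] using h
  have u0 := unitary y 0 0
  have u1 := unitary y 1 1
  simp only [if_true, y10, y20, y01, y21, mul_zero, add_zero, zero_add] at u0 u1
  have h4 : y ^ 4 = 1 := by
    have e1 : y ^ 4 = y * y * (y * y) := by
      rw [pow_succ, pow_succ, pow_two, mul_assoc]
    apply mt_ext
    rw [e1, mt_mul, mt_mul, mt_one]
    refine Matrix.ext fun i j => ?_
    simp only [Matrix.mul_apply, Fin.sum_univ_three]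
    fin_cases i <;> fin_cases j <;>
      simp [y01, y02, y10, y20, y12, y21, ← y11]
    · linear_combination u0
    · linear_combination u1
    · linear_combination u1
  have h5 : orderOf y ∣ 2 ^ 2 := orderOf_dvd_of_pow_eq_one h4
  exact orderOf_eq_one_iff.mp (Nat.Coprime.eq_one_of_dvd
    ((Nat.coprime_two_right.mpr ho).pow_right 2) h5)

theorem good_t0 : Good t0 := ⟨Q, isPGroup_Q, fun _ hg _ hx => conj_mem hg hx,
  fun _ hy hq ho => eq_one_of_comm hy hq ho⟩

/-! ### Every involution is conjugate to `t0` -/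

open LieClassical.GUOrder

theorem two_ne : (2 : K9) ≠ 0 := by decide +kernel

theorem exists_norm_aux : ∀ x1 x2 : ZMod 3, (⟨x1, x2⟩ : K9) * ⟨x1, x2⟩ * ⟨x1, x2⟩ = ⟨x1, x2⟩ →
    (⟨x1, x2⟩ : K9) ≠ 0 → ∃ c1 c2 : ZMod 3,
    (⟨c1, c2⟩ : K9) * (⟨c1, c2⟩ * ⟨c1, c2⟩ * ⟨c1, c2⟩) * ⟨x1, x2⟩ = 1 := by
  decide +kernel

theorem exists_norm {x : K9} (h : x * x * x = x) (h0 : x ≠ 0) :
    ∃ c : K9, c * (c * c * c) * x = 1 := by
  obtain ⟨x1, x2⟩ := x
  obtain ⟨c1, c2, hc⟩ := exists_norm_aux x1 x2 h h0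
  exact ⟨_, hc⟩

/-- An involution fixes a vector of norm one. -/
theorem exists_fixed {T : SU33} (hT : T * T = 1) (h1 : T ≠ 1) :
    ∃ v : Fin 3 → K9, hermForm 3 K9 3 v v = 1 ∧ mt T *ᵥ v = v := by
  have hTm : mt T * mt T = 1 := congrArg mt hT
  obtain ⟨P, hP, hTP⟩ := TwoFusion.PSL3Inv.exists_conj two_ne (T := mt T) hTm (det_eq T)
    (fun h => h1 (mt_ext h))
  have htr : (mt T).trace = -1 := by
    have hu : IsUnit P.det := by rw [hP]; exact isUnit_one
    have h2 : mt T = P * TwoFusion.PSL3Inv.dm K9 * P⁻¹ := by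
      rw [← hTP, mul_assoc, Matrix.mul_nonsing_inv _ hu, mul_one]
    rw [h2, Matrix.trace_mul_comm, ← mul_assoc, Matrix.nonsing_inv_mul _ hu, one_mul,
      TwoFusion.PSL3Inv.dm, Matrix.trace_fin_three]
    simp
  obtain ⟨j, hj⟩ : ∃ j, 1 + mt T j j ≠ 0 := by
    by_contra hcon
    push Not at hcon
    have h0 := hcon 0
    have h1 := hcon 1
    have h2 := hcon 2
    rw [Matrix.trace_fin_three] at htr
    have h4 : (2 : K9) = 0 := by linear_combination h0 + h1 + h2 - htr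
    exact two_ne h4
  set e : Fin 3 → K9 := Pi.single j 1 with he
  have hTe : mt T *ᵥ (mt T *ᵥ e) = e := by rw [Matrix.mulVec_mulVec, hTm, Matrix.one_mulVec]
  have hiso : ∀ u v, hermForm 3 K9 3 (mt T *ᵥ u) (mt T *ᵥ v) = hermForm 3 K9 3 u v := T.2
  have hee : hermForm 3 K9 3 e e = 1 := by
    rw [herm_def, Finset.sum_eq_single j]
    · simp [he]
    · intro b _ hb
      rw [he, Pi.single_eq_of_ne hb, zero_mul]
    · intro h; exact absurd (Finset.mem_univ _) h
  have hTee : hermForm 3 K9 3 (mt T *ᵥ e) e = mt T j j := by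
    rw [herm_def, Finset.sum_eq_single j]
    · rw [he, Matrix.mulVec_single_one]
      simp
    · intro b _ hb
      rw [he, Pi.single_eq_of_ne hb, zero_pow (by norm_num), mul_zero]
    · intro h; exact absurd (Finset.mem_univ _) h
  have heTe : hermForm 3 K9 3 e (mt T *ᵥ e) = mt T j j := by
    rw [← hTee, ← hiso e (mt T *ᵥ e), hTe]
  set w : Fin 3 → K9 := e + mt T *ᵥ e with hw
  have hTw : mt T *ᵥ w = w := by
    rw [hw, Matrix.mulVec_add, hTe, add_comm]
  have hww : hermForm 3 K9 3 w w = 2 * (1 + mt T j j) := by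
    rw [hw, herm_add_left card_k9', herm_add_right card_k9', herm_add_right card_k9', hee, heTe,
      hTee, hiso, hee]
    ring
  have hw0 : hermForm 3 K9 3 w w ≠ 0 := by
    rw [hww]; exact mul_ne_zero two_ne hj
  have hw3 : hermForm 3 K9 3 w w * hermForm 3 K9 3 w w * hermForm 3 K9 3 w w =
      hermForm 3 K9 3 w w := by
    have h := frob_herm card_k9' w w
    rw [frob_apply, pow_succ, pow_two] at h
    exact h
  obtain ⟨c, hc⟩ := exists_norm hw3 hw0
  refine ⟨c • w, ?_, ?_⟩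
  · rw [herm_smul_left card_k9', herm_smul_right card_k9', frob_apply, ← hc]
    ring
  · rw [Matrix.mulVec_smul, hTw]

/-- `SU₃(3)` is transitive on vectors of norm one. -/
theorem exists_su {v : Fin 3 → K9} (hv : hermForm 3 K9 3 v v = 1) :
    ∃ g : SU33, mt g *ᵥ (Pi.single 0 1) = v := by
  have h0 : hermForm 3 K9 3 (Pi.single 0 1) (Pi.single 0 1) = 1 := by
    rw [herm_def, Finset.sum_eq_single 0]
    · simp
    · intro b _ hb
      rw [Pi.single_eq_of_ne hb, zero_mul]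
    · intro h; exact absurd (Finset.mem_univ _) h
  obtain ⟨g, hg⟩ := exists_gu_map card_k9' h0 hv
  set M : Matrix (Fin 3) (Fin 3) K9 := ((g : GL (Fin 3) K9) : Matrix (Fin 3) (Fin 3) K9) with hM
  have hiso : ∀ u v, hermForm 3 K9 3 (M *ᵥ u) (M *ᵥ v) = hermForm 3 K9 3 u v := g.2
  have hd4 := det_mul_frob_det card_k9' M hiso
  have hd0 : M.det ≠ 0 := det_ne_zero_of_isom card_k9' M hiso
  set D : Matrix (Fin 3) (Fin 3) K9 := Matrix.diagonal ![1, 1, (M.det)⁻¹] with hD
  have hDiso : ∀ u v, hermForm 3 K9 3 (D *ᵥ u) (D *ᵥ v) = hermForm 3 K9 3 u v := by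
    intro u v
    rw [herm_def, herm_def, Fin.sum_univ_three, Fin.sum_univ_three]
    simp only [hD, Matrix.mulVec_diagonal]
    simp only [Matrix.cons_val_zero, Matrix.cons_val_one, Matrix.cons_val, one_mul]
    have h4 : (M.det)⁻¹ * ((M.det)⁻¹) ^ 3 = 1 := by
      rw [← pow_succ', inv_pow, hd4, inv_one]
    linear_combination (u 2 * v 2 ^ 3) * h4
  have hdet : (M * D).det = 1 := by
    rw [Matrix.det_mul, hD, Matrix.det_diagonal, Fin.prod_univ_three]
    simp only [Matrix.cons_val_zero, Matrix.cons_val_one, Matrix.cons_val, one_mul]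
    exact mul_inv_cancel₀ hd0
  refine ⟨⟨⟨M * D, hdet⟩, ?_⟩, ?_⟩
  · intro u v
    show hermForm 3 K9 3 ((M * D) *ᵥ u) ((M * D) *ᵥ v) = _
    rw [← Matrix.mulVec_mulVec, ← Matrix.mulVec_mulVec, hiso, hDiso]
  · show (M * D) *ᵥ _ = v
    rw [← Matrix.mulVec_mulVec]
    have : D *ᵥ (Pi.single 0 1) = Pi.single 0 1 := by
      funext i
      rw [hD, Matrix.mulVec_diagonal]
      fin_cases i <;> simp
    rw [this, hg]

/-- An involution fixing the first basis vector is `t0`. -/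
theorem eq_t0 {S : SU33} (hS : S * S = 1) (h1 : S ≠ 1) (hfix : mt S *ᵥ (Pi.single 0 1) = Pi.single 0 1) :
    S = t0 := by
  have hSm : mt S * mt S = 1 := congrArg mt hS
  have h := eq_ext1_of_fix card_k9' (mt S) S.2 hfix
  have e : ∀ i j, mt S i j = ext1 1 ((mt S).submatrix Fin.succ Fin.succ) i j := fun i j => by
    rw [← h]
  have h00 : mt S 0 0 = 1 := e 0 0
  have h01 : mt S 0 1 = 0 := e 0 1
  have h02 : mt S 0 2 = 0 := e 0 2
  have h10 : mt S 1 0 = 0 := e 1 0
  have h20 : mt S 2 0 = 0 := e 2 0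
  have hdet := det_eq S
  rw [Matrix.det_fin_three, h00, h01, h02, h10, h20] at hdet
  have q : ∀ i j, mt S i 0 * mt S 0 j + mt S i 1 * mt S 1 j + mt S i 2 * mt S 2 j =
      (1 : Matrix (Fin 3) (Fin 3) K9) i j := by
    intro i j
    rw [← hSm, Matrix.mul_apply, Fin.sum_univ_three]
  have q11 : mt S 1 1 * mt S 1 1 + mt S 1 2 * mt S 2 1 = 1 := by
    have := q 1 1
    rw [h10, zero_mul, zero_add] at this
    exact this
  have q12 : mt S 1 1 * mt S 1 2 + mt S 1 2 * mt S 2 2 = 0 := by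
    have := q 1 2
    rw [h10, zero_mul, zero_add] at this
    exact this
  have q21 : mt S 2 1 * mt S 1 1 + mt S 2 2 * mt S 2 1 = 0 := by
    have := q 2 1
    rw [h20, zero_mul, zero_add] at this
    exact this
  have hd : mt S 1 1 * mt S 2 2 - mt S 1 2 * mt S 2 1 = 1 := by
    linear_combination hdet
  have h2 : mt S 1 1 * (mt S 1 1 + mt S 2 2) = 2 := by linear_combination q11 + hd
  have h3 : mt S 1 1 + mt S 2 2 ≠ 0 := by
    intro h4
    rw [h4, mul_zero] at h2
    exact two_ne h2.symm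
  have h12 : mt S 1 2 = 0 := by
    have : mt S 1 2 * (mt S 1 1 + mt S 2 2) = 0 := by linear_combination q12
    exact (mul_eq_zero.1 this).resolve_right h3
  have h21 : mt S 2 1 = 0 := by
    have : mt S 2 1 * (mt S 1 1 + mt S 2 2) = 0 := by linear_combination q21
    exact (mul_eq_zero.1 this).resolve_right h3
  rw [h12, zero_mul, add_zero] at q11
  rw [h12, zero_mul, sub_zero] at hd
  have h22 : mt S 2 2 = mt S 1 1 := by
    linear_combination (mt S 1 1) * hd - (mt S 2 2) * q11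
  have h11 : mt S 1 1 = -1 := by
    have h5 : (mt S 1 1 - 1) * (mt S 1 1 + 1) = 0 := by linear_combination q11
    rcases mul_eq_zero.1 h5 with h6 | h6
    · exfalso
      apply h1
      apply mt_ext
      have h7 : mt S 1 1 = 1 := by linear_combination h6
      rw [mt_one]
      refine Matrix.ext fun i j => ?_
      fin_cases i <;> fin_cases j
      · exact h00
      · exact h01
      · exact h02
      · exact h10
      · exact h7
      · exact h12
      · exact h20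
      · exact h21
      · exact h22.trans h7
    · linear_combination h6
  apply mt_ext
  rw [mt_t0]
  refine Matrix.ext fun i j => ?_
  fin_cases i <;> fin_cases j
  · exact h00
  · exact h01
  · exact h02
  · exact h10
  · exact h11
  · exact h12
  · exact h20
  · exact h21
  · exact h22.trans h11

theorem good (T : SU33) (ht : orderOf T = 2) : Good T := by
  have hT : T * T = 1 := by rw [← pow_two, ← ht]; exact pow_orderOf_eq_one T
  have h1 : T ≠ 1 := by
    rintro rfl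
    rw [orderOf_one] at ht
    omega
  obtain ⟨v, hv, hTv⟩ := exists_fixed hT h1
  obtain ⟨g, hg⟩ := exists_su hv
  have hgi : mt g⁻¹ * mt g = 1 := by rw [← mt_mul, inv_mul_cancel, mt_one]
  have hS : g⁻¹ * T * g = t0 := by
    apply eq_t0
    · calc g⁻¹ * T * g * (g⁻¹ * T * g) = g⁻¹ * (T * T) * g := by group
        _ = 1 := by rw [hT]; group
    · intro h
      apply h1
      calc T = g * (g⁻¹ * T * g) * g⁻¹ := by group
        _ = 1 := by rw [h]; group
    · rw [mt_mul, mt_mul, ← Matrix.mulVec_mulVec, ← Matrix.mulVec_mulVec, hg, hTv, ← hg,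
        Matrix.mulVec_mulVec, hgi, Matrix.one_mulVec]
  refine good_iff_of_isConj (isConj_iff.mpr ⟨g, ?_⟩) good_t0
  rw [← hS]
  group

theorem orderOf_t0 : orderOf t0 = 2 := by
  have : Fact (Nat.Prime 2) := ⟨Nat.prime_two⟩
  refine orderOf_eq_prime ?_ ?_
  · rw [pow_two]
    apply mt_ext
    rw [mt_mul, mt_t0, mt_one]
    decide +kernel
  · intro h
    have h1 : mt t0 1 1 = mt 1 1 1 := by rw [h]
    have h2 : ((-1 : K9)) = 1 := h1
    exact absurd h2 (by decide +kernel)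

theorem finite_SU33 : Finite SU33 := by
  refine Finite.of_injective mt fun x y h => mt_ext h

theorem charTwo_SU : IsCharacteristicTwoType SU33 := by
  have := finite_SU33
  refine isCharacteristicTwoType ?_ good
  have h := orderOf_dvd_natCard t0
  rw [orderOf_t0] at h
  exact even_iff_two_dvd.mpr h

/-- **`PSU₃(3)` is of characteristic 2 type.** -/
theorem charTwo_U33 (F : Type*) [Field F] [Fintype F] (hF : Fintype.card F = 9) :
    IsCharacteristicTwoType (Cfsg.PSU 3 F 3) := by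
  have hcard : Fintype.card F = Fintype.card K9 := by rw [hF, card_k9]
  let e : F ≃+* K9 := FiniteField.ringEquivOfCardEq hcard
  exact Transport.isCharacteristicTwoType
    ((psuEquiv hF).trans (LieClassical.FieldTransfer.suCongr 3 3 e)).symm charTwo_SU

theorem charTwo {G : Type*} [Group G] {F : Type*} [Field F] [Fintype F]
    (hF : Fintype.card F = 9) (e : G ≃* Cfsg.PSU 3 F 3) :
    IsCharacteristicTwoType G :=
  Transport.isCharacteristicTwoType e.symm (charTwo_U33 F hF)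

end Cfsg.Agent.OddHalf.Small.U33
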