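import Cfsg.Agent.S1100
import Cfsg.Agent.S1026
import Cfsg.Agent.S1035

/-!
# Centralizers of diagonal elements in Chevalley groups

For `h ∈ H` every element of `C_G(h)` is a product `u n v` with `u, v ∈ C_U(h)` and `n ∈ C_N(h)`.
-/

set_option autoImplicit false

namespace Cfsg.Agent.OddHalf.Small.ChevCent

open Cfsg.Lie Cfsg.Agent.ChevalleyStructure Cfsg.Agent.ChevalleyStructure.Elts
  Cfsg.Agent.ChevalleyStructure.BruhatSplit

universe u

variable {D : ChevalleyDatum} {F : Type u} [Field F]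

/-- `H` is commutative. -/
theorem diag_comm (hD : InList D) {h k : GL D.Idx F} (hh : h ∈ D.diagonalSubgroup F)
    (hk : k ∈ D.diagonalSubgroup F) : h * k = k * h := by
  have e := TorusRange.diagonalSubgroup_eq_range (D := D) (F := F)
    (fun i hi c hc => Cfsg.Agent.S1033.result D hD i hi c hc)
    (fun i hi => (Cfsg.Agent.ChevalleyStructure.RootComb.good_of_mem hD).simple_lt hi)
    (fun g hg => Cfsg.Agent.S1034.result D hD g hg)
  rw [e] at hh hk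
  obtain ⟨a, rfl⟩ := hh
  obtain ⟨b, rfl⟩ := hk
  rw [← map_mul, ← map_mul, mul_comm]

/-- conjugation by `h ∈ H` preserves every root subgroup. -/
theorem conj_root (hD : InList D) {h : GL D.Idx F} (hh : h ∈ D.diagonalSubgroup F) {r : ℕ} (hr : r < D.nroots)
    (t : F) : ∃ s : F, h * xG hD r t * h⁻¹ = xG hD r s := by
  have G := Cfsg.Agent.ChevalleyStructure.RootComb.good_of_mem hD
  have h1 := acts_of_mem_diagonal (F := F) hD G hh r hr
  have h2 : h * xG hD r t * h⁻¹ ∈ (D.rootSubgroup F r).map (MulAut.conj h).toMonoidHom :=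
    Subgroup.mem_map_of_mem _ (xG_mem_rootSubgroup hD r t)
  rw [h1] at h2
  exact ((mem_rootSubgroup_iff hD r _).1 h2).imp fun _ => id

/-- conjugation by `h ∈ H` preserves `U_n⁻`. -/
theorem conj_Um (hD : InList D) {h n v : GL D.Idx F} (hh : h ∈ D.diagonalSubgroup F) (hv : v ∈ Um F D n) :
    h * v * h⁻¹ ∈ Um F D n := by
  have : Um F D n ≤ (Um F D n).comap (MulAut.conj h).toMonoidHom := by
    refine (Subgroup.closure_le _).2 ?_
    rintro x ⟨r, t, hr, hle, hx⟩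
    obtain ⟨s, hs⟩ := conj_root hD hh hr.1 t
    have hx' : x = xG hD r t := (eq_xG_iff hD x r t).2 hx
    show h * x * h⁻¹ ∈ Um F D n
    rw [hx', hs]
    exact Subgroup.subset_closure ⟨r, s, hr, hle, coe_xG hD r s⟩
  exact this hv

/-- conjugation by `h ∈ H` preserves `U`. -/
theorem conj_pos (hD : InList D) {h v : GL D.Idx F} (hh : h ∈ D.diagonalSubgroup F) (hv : v ∈ D.posUnipotent F) :
    h * v * h⁻¹ ∈ D.posUnipotent F :=
  (Subgroup.mem_normalizer_iff.1 ((Cfsg.Agent.S1036.result (F := F) D hD).1 hh) v).1 hv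

/-- **`C_G(h) = C_U(h) C_N(h) C_U(h)`** for `h ∈ H`. -/
theorem exists_cent (hD : InList D) {h g : GL D.Idx F} (hh : h ∈ D.diagonalSubgroup F) (hg : g ∈ D.group F)
    (hc : g * h = h * g) : ∃ u ∈ D.posUnipotent F, ∃ n ∈ D.monomialSubgroup F, ∃ v ∈ D.posUnipotent F,
      g = u * n * v ∧ u * h = h * u ∧ n * h = h * n ∧ v * h = h * v := by
  obtain ⟨hex, huniq⟩ := Cfsg.Agent.S1100.result (F := F) D hD
  obtain ⟨b, hb, n, hn, v, hv, rfl⟩ := hex g hg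
  obtain ⟨u₁, hu₁, h₁, hh₁, rfl⟩ := Cfsg.Agent.S1100.exists_mul_of_mem_borel hD hb
  have hhn : n * h⁻¹ * n⁻¹ ∈ D.diagonalSubgroup F :=
    Cfsg.Agent.S1100.conj_mem_diagonal hD hn (Subgroup.inv_mem _ hh)
  have e1 : u₁ * h₁ * n * v = ((h * u₁ * h⁻¹) * (h₁ * (h * (n * h⁻¹ * n⁻¹)))) * n * (h * v * h⁻¹) := by
    have h3 : h⁻¹ * h₁ * h = h₁ := by rw [mul_assoc, diag_comm hD hh₁ hh, inv_mul_cancel_left]
    calc u₁ * h₁ * n * v = h * (u₁ * h₁ * n * v) * h⁻¹ := by rw [← hc, mul_inv_cancel_right]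
      _ = h * u₁ * h⁻¹ * h * h₁ * h⁻¹ * h * (n * h⁻¹ * n⁻¹) * n * (h * v * h⁻¹) := by group
      _ = h * u₁ * h⁻¹ * (h * h₁ * h⁻¹ * h * (n * h⁻¹ * n⁻¹)) * n * (h * v * h⁻¹) := by group
      _ = _ := by rw [diag_comm hD hh hh₁, mul_inv_cancel_right, mul_assoc h₁ h]
  have hU : (D.posUnipotent F : Subgroup _) ≤ D.borelSubgroup F := le_sup_left
  have hH : (D.diagonalSubgroup F : Subgroup _) ≤ D.borelSubgroup F := le_sup_right
  have hu₁' := conj_pos hD hh hu₁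
  have hk : h₁ * (h * (n * h⁻¹ * n⁻¹)) ∈ D.diagonalSubgroup F :=
    Subgroup.mul_mem _ hh₁ (Subgroup.mul_mem _ hh hhn)
  obtain ⟨-, h4⟩ := huniq _ _ n n v (h * v * h⁻¹) hb (Subgroup.mul_mem _ (hU hu₁') (hH hk)) hn hn hv
    (conj_Um hD hh hv) e1
  obtain ⟨h5, h6⟩ := h4 rfl
  -- `U ∩ H = 1`
  have h7 : (h * u₁ * h⁻¹)⁻¹ * u₁ = (h₁ * (h * (n * h⁻¹ * n⁻¹))) * h₁⁻¹ := by
    rw [inv_mul_eq_iff_eq_mul, ← mul_assoc, ← h5, mul_inv_cancel_right]
  have h8 : (h * u₁ * h⁻¹)⁻¹ * u₁ ∈ D.posUnipotent F ⊓ D.diagonalSubgroup F :=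
    ⟨Subgroup.mul_mem _ (Subgroup.inv_mem _ hu₁') hu₁, h7 ▸ Subgroup.mul_mem _ hk (Subgroup.inv_mem _ hh₁)⟩
  rw [(Cfsg.Agent.S1036.result (F := F) D hD).2, Subgroup.mem_bot] at h8
  have h9 : u₁ = h * u₁ * h⁻¹ := (inv_mul_eq_one.1 h8).symm
  have h10 : h * (n * h⁻¹ * n⁻¹) = 1 := by
    rw [h8] at h7
    have : h₁ * (h * (n * h⁻¹ * n⁻¹)) = h₁ := by
      have := h7.symm
      rwa [mul_inv_eq_one] at this
    exact mul_eq_left.1 this
  have h11 : h * n = n * h := by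
    have : h * (n * h⁻¹ * n⁻¹) * n * h = n * h := by rw [h10, one_mul]
    rw [← this]
    group
  refine ⟨u₁, hu₁, h₁ * n, Subgroup.mul_mem _ (diagonal_le_monomial D F hh₁) hn, v, Um_le n hv, by
    rw [mul_assoc u₁], ?_, ?_, ?_⟩
  · nth_rewrite 1 [h9]
    rw [inv_mul_cancel_right]
  · rw [mul_assoc, ← h11, ← mul_assoc, diag_comm hD hh₁ hh, mul_assoc]
  · nth_rewrite 1 [h6]
    rw [inv_mul_cancel_right]

end Cfsg.Agent.OddHalf.Small.ChevCent
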