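import Cfsg.Agent.OddHalf.Small.G23Check
import Cfsg.Agent.OddHalf.Small.ChevCent
import Cfsg.Agent.OddHalf.Small.Crit
import Cfsg.Agent.OddHalf.Small.Generic
import Cfsg.Agent.ChevalleyStructure.FieldIso
import Cfsg.Agent.S1059

/-!
# `G₂(3)` is of characteristic 2 type

Every involution is conjugate to `z = h₆(-1)` (a Sylow 2-subgroup is listed), `C(z)` is read off the Bruhat
decomposition, and no nontrivial element of odd order of `C(z)` centralizes `O₂(C(z)) = Q₈ ∘ Q₈`.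
-/

set_option autoImplicit false
set_option maxRecDepth 10000

namespace Cfsg.Agent.OddHalf.Small.G23

open Cfsg.Lie
open Cfsg.Agent.GTwoThree.Model
open Cfsg.Agent.OddHalf.Small.G23Data Cfsg.Agent.OddHalf.Small.G23Check
open Cfsg.Agent.ChevalleyStructure Cfsg.Agent.ChevalleyStructure.Elts

/-! ### Listed subgroups -/

section listed

variable {G : Type*}

theorem exists_inv {n : ℕ} {f : ℕ → G} {σ : G → G} (hσ : Function.Injective σ)
    (h : ∀ i < n, ∃ j < n, σ (f i) = f j) : ∀ i < n, ∃ j < n, σ (f j) = f i := by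
  have hfin : (f '' {i | i < n}).Finite := (Set.finite_lt_nat n).image f
  have hsub : σ '' (f '' {i | i < n}) ⊆ f '' {i | i < n} := by
    rintro _ ⟨_, ⟨i, hi, rfl⟩, rfl⟩
    obtain ⟨j, hj, e⟩ := h i hi
    exact ⟨j, hj, e.symm⟩
  have heq : σ '' (f '' {i | i < n}) = f '' {i | i < n} :=
    Set.eq_of_subset_of_ncard_le hsub (Set.ncard_image_of_injective _ hσ).ge hfin
  intro i hi
  have h1 : f i ∈ σ '' (f '' {i | i < n}) := by rw [heq]; exact ⟨i, hi, rfl⟩
  obtain ⟨_, ⟨j, hj, rfl⟩, e⟩ := h1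
  exact ⟨j, hj, e⟩

variable [Group G]

/-- the elements whose left multiplication preserves the list -/
def stL (f : ℕ → G) (n : ℕ) : Subgroup G where
  carrier := {g | ∀ i < n, ∃ j < n, g * f i = f j}
  one_mem' := fun i hi => ⟨i, hi, one_mul _⟩
  mul_mem' := by
    intro a b ha hb i hi
    obtain ⟨j, hj, e⟩ := hb i hi
    obtain ⟨k, hk, e'⟩ := ha j hj
    exact ⟨k, hk, by rw [mul_assoc, e, e']⟩
  inv_mem' := by
    intro a ha i hi
    obtain ⟨j, hj, e⟩ := exists_inv (mul_right_injective a) ha i hi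
    exact ⟨j, hj, by rw [← e]; exact inv_mul_cancel_left _ _⟩

/-- the elements whose right multiplication preserves the list -/
def stR (f : ℕ → G) (n : ℕ) : Subgroup G where
  carrier := {g | ∀ i < n, ∃ j < n, f i * g = f j}
  one_mem' := fun i hi => ⟨i, hi, mul_one _⟩
  mul_mem' := by
    intro a b ha hb i hi
    obtain ⟨j, hj, e⟩ := ha i hi
    obtain ⟨k, hk, e'⟩ := hb j hj
    exact ⟨k, hk, by rw [← mul_assoc, e, e']⟩
  inv_mem' := by
    intro a ha i hi
    obtain ⟨j, hj, e⟩ := exists_inv (mul_left_injective a) ha i hi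
    exact ⟨j, hj, by rw [← e]; exact mul_inv_cancel_right _ _⟩

theorem exists_of_stL {f : ℕ → G} {n : ℕ} (h0 : 0 < n) (hf : f 0 = 1) {g : G} (hg : g ∈ stL f n) :
    ∃ i < n, g = f i := by
  obtain ⟨j, hj, e⟩ := hg 0 h0
  exact ⟨j, hj, by rw [← e, hf, mul_one]⟩

theorem exists_of_stR {f : ℕ → G} {n : ℕ} (h0 : 0 < n) (hf : f 0 = 1) {g : G} (hg : g ∈ stR f n) :
    ∃ i < n, g = f i := by
  obtain ⟨j, hj, e⟩ := hg 0 h0
  exact ⟨j, hj, by rw [← e, hf, one_mul]⟩

theorem norm_closure {S : Set G} {g : G} (h : ∀ s ∈ S, g * s * g⁻¹ ∈ Subgroup.closure S) :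
    ∀ x ∈ Subgroup.closure S, g * x * g⁻¹ ∈ Subgroup.closure S := by
  have : Subgroup.closure S ≤ (Subgroup.closure S).comap (MulAut.conj g).toMonoidHom :=
    (Subgroup.closure_le _).2 h
  intro x hx
  exact this hx

end listed

/-! ### Words in root elements -/

theorem hD : InList chevG2 := List.mem_cons_self ..

/-- the value of a word in the general linear group -/
def gv (w : List ℕ) : GL I14 (ZMod 3) := θ (ev X w)

theorem gv_append (u v : List ℕ) : gv (u ++ v) = gv u * gv v := by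
  unfold gv; rw [ev_append, map_mul]

theorem coe_ev (w : List ℕ) : ((ev y w : ↥Gp) : GL I14 (ZMod 3)) = gv w := ev_y w

theorem gv_eq {w w' : List ℕ} (h : eqc w w' = true) : gv w = gv w' := by
  rw [← coe_ev, ← coe_ev, eq_of_eqc h]

theorem coe_word (l : List (ℕ × Fin 3)) (hl : ∀ p ∈ l, p.1 < 12) :
    ((gv (l.flatMap fun p => wx p.1 p.2.val) : GL I14 (ZMod 3)) : Matrix I14 I14 (ZMod 3)) =
      chevG2.wordMat (ZMod 3) (l.map fun p => (p.1, ((p.2.val : ℕ) : ZMod 3))) := by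
  induction l with
  | nil => unfold gv; rw [List.flatMap_nil, ev_nil, map_one]; rfl
  | cons p l ih =>
    have h1 : p.1 < 12 := hl p (List.mem_cons_self ..)
    rw [List.flatMap_cons, gv_append, Units.val_mul, ih fun q hq => hl q (List.mem_cons_of_mem _ hq)]
    have h2 := θ_x ⟨p.1, h1⟩ p.2
    have h3 : ((gv (wx p.1 p.2.val) : GL I14 (ZMod 3)) : Matrix I14 I14 (ZMod 3)) =
        chevG2.x (ZMod 3) p.1 ((p.2.val : ℕ) : ZMod 3) := by
      have h4 : chevG2.x (ZMod 3) p.1 ((p.2.val : ℕ) : ZMod 3) = xm ⟨p.1, h1⟩ ((p.2.val : ℕ) : ZMod 3) := by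
        unfold ChevalleyDatum.x
        exact dif_pos h1
      rw [h4]
      exact h2
    rw [h3, List.map_cons]
    rfl

theorem eq_gv {g : GL I14 (ZMod 3)} (l : List (ℕ × Fin 3)) (hl : ∀ p ∈ l, p.1 < 12) {m : List (ℕ × ZMod 3)}
    (hm : m = l.map fun p => (p.1, ((p.2.val : ℕ) : ZMod 3)))
    (hg : (g : Matrix I14 I14 (ZMod 3)) = chevG2.wordMat (ZMod 3) m) :
    g = gv (l.flatMap fun p => wx p.1 p.2.val) := by
  apply Units.ext
  rw [hg, hm]
  exact (coe_word l hl).symm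

theorem zmod_cases (t : ZMod 3) : ∃ s : Fin 3, t = ((s.val : ℕ) : ZMod 3) := by
  revert t; decide

/-! ### The monomial group -/

theorem gv_NL_zero : gv (NL.getD 0 []) = 1 := by
  rw [NL_zero]; unfold gv; rw [ev_nil, map_one]

theorem gen_mem (k : ℕ) (hk : k < 4) : gv ([na, nb, ha, wz].getD k []) ∈ stL (fun i => gv (NL.getD i [])) 48 := by
  intro i hi
  obtain ⟨h1, h2⟩ := NT_check i hi k hk
  refine ⟨_, h1, ?_⟩
  show gv _ * gv _ = gv _
  rw [← gv_append]
  exact gv_eq h2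

theorem diagonal_le : chevG2.diagonalSubgroup (ZMod 3) ≤ stL (fun i => gv (NL.getD i [])) 48 := by
  intro g hg
  obtain ⟨c, hc, e⟩ := Cfsg.Agent.S1034.result chevG2 hD g hg
  have h0 : c 0 = 1 ∨ c 0 = 2 := by
    have := hc 0 (by decide)
    revert this
    generalize c 0 = t
    revert t; decide
  have h1 : c 1 = 1 ∨ c 1 = 2 := by
    have := hc 1 (by decide)
    revert this
    generalize c 1 = t
    revert t; decide
  have e2 : ((List.range chevG2.rank).flatMap fun i => chevG2.hWord (chevG2.simple i) (c i)) =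
      chevG2.hWord 7 (c 0) ++ chevG2.hWord 6 (c 1) := by
    have : List.range chevG2.rank = [0, 1] := by decide
    rw [this, List.flatMap_cons, List.flatMap_cons, List.flatMap_nil, List.append_nil]
    rfl
  rw [e2] at e
  have key : ∃ u v : List ℕ, g = gv (u ++ v) ∧ (gv u = gv ha ∨ gv u = 1) ∧ (gv v = gv wz ∨ gv v = 1) := by
    rcases h0 with h0 | h0 <;> rcases h1 with h1 | h1 <;> rw [h0, h1] at e
    · have e3 := eq_gv [(7, 1), (4, 2), (7, 1), (7, 2), (4, 1), (7, 2), (6, 1), (5, 2), (6, 1), (6, 2), (5, 1), (6, 2)]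
        (by decide) (by decide +kernel) e
      refine ⟨[14, 9, 14, 15, 8, 15], [12, 11, 12, 13, 10, 13], e3, Or.inr ?_, Or.inr ?_⟩
      · rw [gv_eq (w' := []) (by decide +kernel)]; exact gv_NL_zero
      · rw [gv_eq (w' := []) (by decide +kernel)]; exact gv_NL_zero
    · have e3 := eq_gv [(7, 1), (4, 2), (7, 1), (7, 2), (4, 1), (7, 2), (6, 2), (5, 1), (6, 2), (6, 2), (5, 1), (6, 2)]
        (by decide) (by decide +kernel) e
      refine ⟨[14, 9, 14, 15, 8, 15], [13, 10, 13, 13, 10, 13], e3, Or.inr ?_, Or.inl rfl⟩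
      · rw [gv_eq (w' := []) (by decide +kernel)]; exact gv_NL_zero
    · have e3 := eq_gv [(7, 2), (4, 1), (7, 2), (7, 2), (4, 1), (7, 2), (6, 1), (5, 2), (6, 1), (6, 2), (5, 1), (6, 2)]
        (by decide) (by decide +kernel) e
      refine ⟨[15, 8, 15, 15, 8, 15], [12, 11, 12, 13, 10, 13], e3, Or.inl rfl, Or.inr ?_⟩
      · rw [gv_eq (w' := []) (by decide +kernel)]; exact gv_NL_zero
    · have e3 := eq_gv [(7, 2), (4, 1), (7, 2), (7, 2), (4, 1), (7, 2), (6, 2), (5, 1), (6, 2), (6, 2), (5, 1), (6, 2)]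
        (by decide) (by decide +kernel) e
      exact ⟨[15, 8, 15, 15, 8, 15], [13, 10, 13, 13, 10, 13], e3, Or.inl rfl, Or.inl rfl⟩
  obtain ⟨u, v, e3, hu, hv⟩ := key
  rw [e3, gv_append]
  refine Subgroup.mul_mem _ ?_ ?_
  · rcases hu with hu | hu <;> rw [hu]
    · exact gen_mem 2 (by norm_num)
    · exact Subgroup.one_mem _
  · rcases hv with hv | hv <;> rw [hv]
    · exact gen_mem 3 (by norm_num)
    · exact Subgroup.one_mem _

theorem nS_zero : NConj.nS hD (ZMod 3) 0 = gv na := by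
  have e1 : chevG2.nWord 7 (1 : ZMod 3) =
      [(7, 1), (4, 2), (7, 1)].map fun p : ℕ × Fin 3 => (p.1, ((p.2.val : ℕ) : ZMod 3)) := by decide +kernel
  have h7 : chevG2.simple 0 = 7 := by decide
  have e2 : ((NConj.nS hD (ZMod 3) 0 : GL chevG2.Idx (ZMod 3)) : Matrix chevG2.Idx chevG2.Idx (ZMod 3)) =
      chevG2.nMat (ZMod 3) (chevG2.simple 0) 1 := coe_nG hD _ _
  rw [h7] at e2
  unfold ChevalleyDatum.nMat at e2
  exact eq_gv [(7, 1), (4, 2), (7, 1)] (by decide) e1 e2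

theorem nS_one : NConj.nS hD (ZMod 3) 1 = gv nb := by
  have e1 : chevG2.nWord 6 (1 : ZMod 3) =
      [(6, 1), (5, 2), (6, 1)].map fun p : ℕ × Fin 3 => (p.1, ((p.2.val : ℕ) : ZMod 3)) := by decide +kernel
  have h6 : chevG2.simple 1 = 6 := by decide
  have e2 : ((NConj.nS hD (ZMod 3) 1 : GL chevG2.Idx (ZMod 3)) : Matrix chevG2.Idx chevG2.Idx (ZMod 3)) =
      chevG2.nMat (ZMod 3) (chevG2.simple 1) 1 := coe_nG hD _ _
  rw [h6] at e2
  unfold ChevalleyDatum.nMat at e2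
  exact eq_gv [(6, 1), (5, 2), (6, 1)] (by decide) e1 e2

theorem exists_mono {n : GL I14 (ZMod 3)} (hn : n ∈ chevG2.monomialSubgroup (ZMod 3)) :
    ∃ i < 48, n = gv (NL.getD i []) := by
  refine exists_of_stL (f := fun i => gv (NL.getD i [])) (by norm_num) gv_NL_zero ?_
  refine NConj.monomial_le_of hD diagonal_le ?_ hn
  intro i hi
  have hi' : i = 0 ∨ i = 1 := by
    have : i < 2 := hi
    omega
  rcases hi' with rfl | rfl
  · rw [nS_zero]
    exact gen_mem 0 (by norm_num)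
  · rw [nS_one]
    exact gen_mem 1 (by norm_num)

/-! ### The centralizer of `z` -/

theorem z_mem_diagonal : gv wz ∈ chevG2.diagonalSubgroup (ZMod 3) := by
  refine Subgroup.subset_closure ⟨6, 2, by decide, by decide, ?_⟩
  have e1 : chevG2.hWord 6 (2 : ZMod 3) = [(6, 2), (5, 1), (6, 2), (6, 2), (5, 1), (6, 2)].map
      fun p : ℕ × Fin 3 => (p.1, ((p.2.val : ℕ) : ZMod 3)) := by decide +kernel
  unfold ChevalleyDatum.hMat
  rw [e1]
  exact coe_word [(6, 2), (5, 1), (6, 2), (6, 2), (5, 1), (6, 2)] (by decide)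

theorem exists_pos {u : GL I14 (ZMod 3)} (hu : u ∈ chevG2.posUnipotent (ZMod 3)) :
    ∃ a b c d e f : Fin 3, u = gv (uw a.val b.val c.val d.val e.val f.val) := by
  obtain ⟨t, ⟨-, ht⟩, -⟩ := (Cfsg.Agent.S1026.result (F := ZMod 3) chevG2 hD).1 u hu
  have hp : chevG2.posRoots = [6, 7, 8, 9, 10, 11] := by decide +kernel
  rw [hp] at ht
  obtain ⟨a, ha⟩ := zmod_cases (t 6)
  obtain ⟨b, hb⟩ := zmod_cases (t 7)
  obtain ⟨c, hc⟩ := zmod_cases (t 8)
  obtain ⟨d, hd⟩ := zmod_cases (t 9)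
  obtain ⟨e, he⟩ := zmod_cases (t 10)
  obtain ⟨f, hf⟩ := zmod_cases (t 11)
  have e1 : ([6, 7, 8, 9, 10, 11].map fun r => (r, t r)) = [(6, a), (7, b), (8, c), (9, d), (10, e), (11, f)].map
      fun p : ℕ × Fin 3 => (p.1, ((p.2.val : ℕ) : ZMod 3)) := by
    simp only [List.map_cons, List.map_nil, ha, hb, hc, hd, he, hf]
  have h2 := eq_gv [(6, a), (7, b), (8, c), (9, d), (10, e), (11, f)] (by simp) e1 ht
  refine ⟨a, b, c, d, e, f, h2.trans ?_⟩
  simp only [List.flatMap_cons, List.flatMap_nil, List.append_nil, uw]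

theorem ev_of_gv {w w' : List ℕ} (h : gv w = gv w') : ev y w = ev y w' := by
  apply Subtype.ext
  rw [coe_ev, coe_ev, h]

theorem pos_cent {u : GL I14 (ZMod 3)} (hu : u ∈ chevG2.posUnipotent (ZMod 3)) (hc : u * gv wz = gv wz * u) :
    ∃ a d : Fin 3, u = gv (wx 6 a.val ++ wx 9 d.val) := by
  obtain ⟨a, b, c, d, e, f, rfl⟩ := exists_pos hu
  rw [← gv_append, ← gv_append] at hc
  rcases U_check' a.2 b.2 c.2 d.2 e.2 f.2 with ⟨hb, hc', he, hf⟩ | h
  · refine ⟨a, d, ?_⟩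
    rw [hb, hc', he, hf]
    congr 1
    show wx 6 a.val ++ ([] ++ ([] ++ (wx 9 d.val ++ ([] ++ [])))) = _
    simp
  · exact absurd (ev_of_gv hc) (ne_of_nec h)

theorem mono_cent {n : GL I14 (ZMod 3)} (hn : n ∈ chevG2.monomialSubgroup (ZMod 3))
    (hc : n * gv wz = gv wz * n) : ∃ i ∈ NZ, n = gv (NL.getD i []) := by
  obtain ⟨i, hi, rfl⟩ := exists_mono hn
  rw [← gv_append, ← gv_append] at hc
  rcases NZ_check i hi with h | h
  · exact ⟨i, h, rfl⟩
  · exact absurd (ev_of_gv hc) (ne_of_nec h)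

/-- the involution -/
def z : ↥Gp := ev y wz

theorem z_val : (z : GL I14 (ZMod 3)) = gv wz := coe_ev wz

theorem comm_val {g h : ↥Gp} (e : g * h = h * g) : (g : GL I14 (ZMod 3)) * (h : GL I14 (ZMod 3)) = h * g :=
  congrArg Subtype.val e

theorem ext_gv {g : ↥Gp} {w : List ℕ} (h : (g : GL I14 (ZMod 3)) = gv w) : g = ev y w := by
  apply Subtype.ext
  exact h.trans (coe_ev w).symm

theorem cent_aux {g : GL I14 (ZMod 3)} (hg : g ∈ Gp) (hc : g * gv wz = gv wz * g) :
    ∃ u n v : GL I14 (ZMod 3), u ∈ chevG2.posUnipotent (ZMod 3) ∧ n ∈ chevG2.monomialSubgroup (ZMod 3) ∧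
      v ∈ chevG2.posUnipotent (ZMod 3) ∧
      g = u * n * v ∧ u * gv wz = gv wz * u ∧ n * gv wz = gv wz * n ∧ v * gv wz = gv wz * v := by
  obtain ⟨u, hu, n, hn, v, hv, h⟩ := ChevCent.exists_cent hD z_mem_diagonal hg hc
  exact ⟨u, n, v, hu, hn, hv, h⟩

theorem cent {g : ↥Gp} (hg : g * z = z * g) : ∃ a d : Fin 3, ∃ i ∈ NZ, ∃ a' d' a'' d'' : Fin 3,
    g = ev y (wx 6 a.val ++ wx 9 d.val) * ev y (NL.getD i []) * ev y (wx 6 a'.val ++ wx 9 d'.val) ∧
    ev y (wx 6 a'.val ++ wx 9 d'.val) * ev y (wx 6 a.val ++ wx 9 d.val) = ev y (wx 6 a''.val ++ wx 9 d''.val) := by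
  have hg' : (g : GL I14 (ZMod 3)) * gv wz = gv wz * g := by
    rw [← z_val]
    exact comm_val hg
  obtain ⟨u, n, v, hu, hn, hv, e, h1, h2, h3⟩ := cent_aux g.2 hg'
  have h5 : v * u * gv wz = gv wz * (v * u) := by
    rw [mul_assoc, h1, ← mul_assoc, h3, mul_assoc]
  obtain ⟨a'', d'', h4⟩ := pos_cent (Subgroup.mul_mem _ hv hu) h5
  obtain ⟨a, d, rfl⟩ := pos_cent hu h1
  obtain ⟨i, hi, rfl⟩ := mono_cent hn h2
  obtain ⟨a', d', rfl⟩ := pos_cent hv h3
  refine ⟨a, d, i, hi, a', d', a'', d'', ?_, ?_⟩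
  · rw [← ev_append, ← ev_append]
    apply ext_gv
    rw [gv_append, gv_append]
    exact e
  · rw [← ev_append]
    apply ev_of_gv
    rw [gv_append]
    exact h4

/-! ### The 2-subgroups -/

/-- the subgroup generated by the first `m` generators -/
def PS (m : ℕ) : Subgroup ↥Gp := Subgroup.closure {x | ∃ k < m, x = ev y (PG.getD k [])}

/-- the listed elements -/
def pe (i : ℕ) : ↥Gp := ev y (ex (PW.getD i []))

theorem pe_zero : pe 0 = 1 := by
  unfold pe
  rw [PW_zero]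
  rfl

theorem ex_mem {m : ℕ} (w : List ℕ) (h : ∀ k ∈ w, k < m) : ev y (ex w) ∈ PS m := by
  induction w with
  | nil => exact Subgroup.one_mem _
  | cons k w ih =>
    have : ex (k :: w) = PG.getD k [] ++ ex w := List.flatMap_cons ..
    rw [this, ev_append]
    refine Subgroup.mul_mem _ ?_ (ih fun j hj => h j (List.mem_cons_of_mem _ hj))
    exact Subgroup.subset_closure ⟨k, h k (List.mem_cons_self ..), rfl⟩

theorem exists_P {x : ↥Gp} (hx : x ∈ PS 5) : ∃ i < 64, x = pe i := by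
  refine exists_of_stR (by norm_num) pe_zero ?_
  refine (Subgroup.closure_le _).2 ?_ hx
  rintro _ ⟨k, hk, rfl⟩ i hi
  obtain ⟨h1, h2⟩ := PT_check i hi k hk
  refine ⟨_, h1, ?_⟩
  show ev y _ * ev y _ = ev y _
  rw [← ev_append]
  exact eq_of_eqc h2

theorem exists_Q {x : ↥Gp} (hx : x ∈ PS 4) : ∃ i < 32, x = pe i := by
  refine exists_of_stR (by norm_num) pe_zero ?_
  refine (Subgroup.closure_le _).2 ?_ hx
  rintro _ ⟨k, hk, rfl⟩ i hi
  obtain ⟨-, h2⟩ := PT_check i (by omega) k (by omega)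
  refine ⟨_, PT_check4 i hi k hk, ?_⟩
  show ev y _ * ev y _ = ev y _
  rw [← ev_append]
  exact eq_of_eqc h2

theorem pe_pow {i : ℕ} (hi : i < 64) : pe i ^ 2 ^ 3 = 1 := by
  have h := eq_of_eqc (PW_eight i hi)
  simp only [ev_append, ev_nil] at h
  calc pe i ^ 2 ^ 3 = pe i * (pe i * (pe i * (pe i * (pe i * (pe i * (pe i * pe i)))))) := by
        rw [show (2 : ℕ) ^ 3 = 8 by norm_num]
        simp only [pow_succ, pow_zero, one_mul, mul_assoc]
    _ = 1 := h

theorem isPGroup_P : IsPGroup 2 ↥(PS 5) := by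
  rintro ⟨x, hx⟩
  obtain ⟨i, hi, rfl⟩ := exists_P hx
  exact ⟨3, Subtype.ext (pe_pow hi)⟩

theorem isPGroup_Q : IsPGroup 2 ↥(PS 4) := by
  rintro ⟨x, hx⟩
  obtain ⟨i, hi, rfl⟩ := exists_Q hx
  exact ⟨3, Subtype.ext (pe_pow (by omega))⟩

theorem pe_inj {i j : ℕ} (hi : i < 64) (hj : j < 64) (h : pe i = pe j) : i = j := by
  have h1 : PR.getD i 0 = PR.getD j 0 := by
    rw [← PW_rr i hi, ← PW_rr j hj]
    exact rr_congr h
  rcases lt_trichotomy i j with h2 | h2 | h2
  · exact absurd h1.symm (PR_inj j hj i h2)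
  · exact h2
  · exact absurd h1 (PR_inj i hi j h2)

instance : Finite ↥Gp := Finite.of_injective (fun g : ↥Gp => ((g : GL I14 (ZMod 3)) : Matrix I14 I14 (ZMod 3)))
  (fun _ _ h => Subtype.ext (Units.ext h))

theorem card_P : 64 ≤ Nat.card ↥(PS 5) := by
  have h : Nat.card (Fin 64) ≤ Nat.card ↥(PS 5) := by
    refine Nat.card_le_card_of_injective
      (fun i : Fin 64 => (⟨pe i.val, ex_mem _ (PW_lt i.val i.2)⟩ : ↥(PS 5))) ?_
    intro i j h
    exact Fin.ext (pe_inj i.2 j.2 (congrArg Subtype.val h))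
  simpa using h

theorem card_G : Nat.card ↥Gp = 2 ^ 6 * 66339 := by
  have h := Cfsg.Agent.S1059.result (F := ZMod 3) (q := 3) (by decide)
  exact h.trans (by norm_num)

/-- Every involution is conjugate to `z`. -/
theorem exists_conj {t : ↥Gp} (ht : orderOf t = 2) : ∃ c : ↥Gp, c * t * c⁻¹ = z := by
  have hf : Fact (Nat.Prime 2) := ⟨Nat.prime_two⟩
  obtain ⟨S, hS⟩ := isPGroup_P.exists_le_sylow
  have hcS : Nat.card ↥(S : Subgroup ↥Gp) ≤ 64 := by
    obtain ⟨k, hk⟩ := IsPGroup.iff_card.mp S.isPGroup'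
    have h1 : Nat.card ↥(S : Subgroup ↥Gp) ∣ 2 ^ 6 * 66339 := card_G ▸ Subgroup.card_subgroup_dvd_card _
    have hk' : Nat.card ↥(S : Subgroup ↥Gp) = 2 ^ k := hk
    rw [hk'] at h1 ⊢
    have h2 : 2 ^ k ∣ 2 ^ 6 := by
      refine Nat.Coprime.dvd_of_dvd_mul_right ?_ h1
      exact Nat.Coprime.pow_left _ (by decide)
    exact Nat.le_of_dvd (by norm_num) h2
  have hPS : PS 5 = (S : Subgroup ↥Gp) := Subgroup.eq_of_le_of_card_ge hS (hcS.trans card_P)
  have ht2 : IsPGroup 2 ↥(Subgroup.zpowers t) := by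
    refine IsPGroup.of_card (n := 1) ?_
    rw [Nat.card_zpowers, ht, pow_one]
  obtain ⟨T, hT⟩ := ht2.exists_le_sylow
  obtain ⟨g, hg⟩ := MulAction.exists_smul_eq ↥Gp T S
  have h1 : g * t * g⁻¹ ∈ PS 5 := by
    rw [hPS, ← hg]
    have : t ∈ (T : Subgroup ↥Gp) := hT (Subgroup.mem_zpowers t)
    exact Subgroup.smul_mem_pointwise_smul t (MulAut.conj g) _ this
  obtain ⟨i, hi, e⟩ := exists_P h1
  have h2 : g * t * g⁻¹ ≠ 1 := by
    intro h
    rw [conj_eq_one_iff] at h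
    rw [h, orderOf_one] at ht
    omega
  have h3 : (g * t * g⁻¹) * (g * t * g⁻¹) = 1 := by
    have h5 : t * t = 1 := by
      have := pow_orderOf_eq_one t
      rwa [ht, pow_two] at this
    calc (g * t * g⁻¹) * (g * t * g⁻¹) = g * (t * t) * g⁻¹ := by group
      _ = 1 := by rw [h5, mul_one, mul_inv_cancel]
  rcases PW_inv i hi with rfl | h | h
  · exact absurd (e.trans pe_zero) h2
  · refine absurd ?_ (ne_of_nec h)
    rw [ev_append]
    rw [e] at h3
    exact h3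
  · refine ⟨ev y (PC.getD i []) * g, ?_⟩
    have h4 := eq_of_eqc h
    rw [ev_append, ev_append] at h4
    have h5 : ev y (ex (PW.getD i [])) = g * t * g⁻¹ := e.symm
    rw [h5] at h4
    calc ev y (PC.getD i []) * g * t * (ev y (PC.getD i []) * g)⁻¹
        = (ev y (PC.getD i []) * (g * t * g⁻¹)) * (ev y (PC.getD i []))⁻¹ := by group
      _ = z := by rw [h4, mul_inv_cancel_right]; rfl

/-! ### `z` is good -/

/-- the elements normalising `O₂(C(z))` -/
def Norm (g : ↥Gp) : Prop := ∀ x ∈ PS 4, g * x * g⁻¹ ∈ PS 4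

theorem norm_mul {g h : ↥Gp} (hg : Norm g) (hh : Norm h) : Norm (g * h) := by
  intro x hx
  have := hg _ (hh x hx)
  have e : g * (h * x * h⁻¹) * g⁻¹ = g * h * x * (g * h)⁻¹ := by group
  rwa [e] at this

theorem norm_one : Norm (1 : ↥Gp) := by
  intro x hx
  rwa [one_mul, inv_one, mul_one]

theorem norm_NG {i : ℕ} (hi : i < 20) : Norm (ev y (NG.getD i [])) := by
  refine norm_closure ?_
  rintro _ ⟨k, hk, rfl⟩
  obtain ⟨h1, h2⟩ := QT_check i hi k hk
  have h3 := eq_of_eqc h2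
  rw [ev_append, ev_append] at h3
  rw [h3, mul_inv_cancel_right]
  exact ex_mem _ (PW_lt4 _ h1)

theorem norm_pos (a d : Fin 3) : Norm (ev y (wx 6 a.val ++ wx 9 d.val)) := by
  rw [ev_append]
  refine norm_mul ?_ ?_
  · rcases NG_wx6 a.val a.2 with h | ⟨k, hk, h⟩ <;> rw [h]
    · rw [ev_nil]; exact norm_one
    · exact norm_NG hk
  · rcases NG_wx9 d.val d.2 with h | ⟨k, hk, h⟩ <;> rw [h]
    · rw [ev_nil]; exact norm_one
    · exact norm_NG hk

theorem norm_NL {i : ℕ} (hi : i ∈ NZ) : Norm (ev y (NL.getD i [])) := by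
  obtain ⟨k, hk, e⟩ := NG_check i hi
  rw [e]
  exact norm_NG hk

theorem good_z : Crit.Good z := by
  refine ⟨PS 4, isPGroup_Q, ?_, ?_⟩
  · intro g hg
    obtain ⟨a, d, i, hi, a', d', -, -, rfl, -⟩ := cent hg
    exact norm_mul (norm_mul (norm_pos a d) (norm_NL hi)) (norm_pos a' d')
  · intro g hg hgQ hodd
    obtain ⟨a, d, i, hi, a', d', a'', d'', rfl, e⟩ := cent hg
    set u := ev y (wx 6 a.val ++ wx 9 d.val) with hu
    set n := ev y (NL.getD i []) with hn
    set v := ev y (wx 6 a'.val ++ wx 9 d'.val) with hv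
    have e1 : u⁻¹ * (u * n * v) * u = ev y (NL.getD i [] ++ (wx 6 a''.val ++ wx 9 d''.val)) := by
      rw [ev_append, ← e, ← hn]
      group
    have hodd' : Odd (orderOf (u⁻¹ * (u * n * v) * u)) := by
      have e2 : u⁻¹ * (u * n * v) * u = MulAut.conj u⁻¹ (u * n * v) := by
        show _ = u⁻¹ * (u * n * v) * u⁻¹⁻¹
        rw [inv_inv]
      rw [e2, MulEquiv.orderOf_eq]
      exact hodd
    have hcomm : ∀ k < 4, (u⁻¹ * (u * n * v) * u) * ev y (PG.getD k []) =
        ev y (PG.getD k []) * (u⁻¹ * (u * n * v) * u) := by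
      intro k hk
      have h1 : ev y (PG.getD k []) ∈ PS 4 := Subgroup.subset_closure ⟨k, hk, rfl⟩
      have h2 := hgQ _ (norm_pos a d _ h1)
      rw [← hu] at h2
      calc (u⁻¹ * (u * n * v) * u) * ev y (PG.getD k [])
          = u⁻¹ * (u * n * v * (u * ev y (PG.getD k []) * u⁻¹)) * u := by group
        _ = u⁻¹ * (u * ev y (PG.getD k []) * u⁻¹ * (u * n * v)) * u := by rw [h2]
        _ = _ := by group
    have h1 : u⁻¹ * (u * n * v) * u = 1 := by
      rw [e1] at hcomm hodd' ⊢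
      rcases C_check i hi a''.val a''.2 d''.val d''.2 with ⟨k, hk, h⟩ | h
      · refine absurd ?_ (ne_of_nec h)
        rw [ev_append, ev_append y (PG.getD k [])]
        exact hcomm k hk
      · have h2 := eq_of_eqc h
        rw [ev_append, ev_nil] at h2
        have h3 : orderOf (ev y (NL.getD i [] ++ (wx 6 a''.val ++ wx 9 d''.val))) ∣ 2 :=
          orderOf_dvd_of_pow_eq_one (by rw [pow_two]; exact h2)
        rcases (Nat.dvd_prime Nat.prime_two).mp h3 with h4 | h4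
        · exact orderOf_eq_one_iff.mp h4
        · rw [h4] at hodd'
          exact absurd hodd' (by decide)
    have h2 : u * n * v = u * (u⁻¹ * (u * n * v) * u) * u⁻¹ := by group
    rw [h2, h1, mul_one, mul_inv_cancel]

theorem isCharacteristicTwoType : IsCharacteristicTwoType ↥Gp := by
  refine Crit.isCharacteristicTwoType ?_ fun t ht => ?_
  · rw [card_G]; decide
  · obtain ⟨c, hc⟩ := exists_conj ht
    have h := Crit.good_conj good_z c⁻¹
    have e : c⁻¹ * z * c⁻¹⁻¹ = t := by rw [← hc]; group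
    rwa [e] at h

/-- **`G₂(3)` is of characteristic 2 type.** -/
theorem g23 (F : Type) [Field F] [Fintype F] (hF : Fintype.card F = 3) :
    IsCharacteristicTwoType ↥(chevG2.group F) := by
  have h3 : Fintype.card (ZMod 3) = Fintype.card F := by rw [hF]; rfl
  let φ : ZMod 3 ≃+* F := FiniteField.ringEquivOfCardEq h3
  exact Generic.isCharacteristicTwoType_congr (FieldIso.groupEquiv chevG2 φ) isCharacteristicTwoType

end Cfsg.Agent.OddHalf.Small.G23
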