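import Cfsg.Agent.OddHalf.Small.Crit
import Cfsg.Agent.KFacts.J3

/-!
# `J3` is of characteristic 2 type

One class of involutions, `C(z) = 2^{1+4}_-.A₅` (helper206's `KFacts.J3.exists_facts`).
-/

set_option autoImplicit false

namespace Cfsg.Agent.OddHalf.Small.J3

open Subgroup Cfsg Cfsg.Agent.OddHalf.Small.Crit Cfsg.Agent.J2Type.Model Cfsg.Agent.J3Type.OneClass

theorem good {K : Type*} [Group K] {z : K} {Q : Subgroup (centralizer ({z} : Set K))}
    {v : Fin 5 → centralizer ({z} : Set K)} {ρ : centralizer ({z} : Set K) →* SP} (M : IsModel Q (zc z) v ρ) :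
    Good z := by
  have hC : ∀ {g : K}, g * z = z * g → g ∈ centralizer ({z} : Set K) := fun h => mem_centralizer_singleton_iff.2 h
  have hz2 : z * z = 1 := congrArg Subtype.val M.z_sq
  refine ⟨Q.map (centralizer ({z} : Set K)).subtype, ?_, ?_, ?_⟩
  · refine IsPGroup.map ?_ _
    intro q
    refine ⟨2, Subtype.ext ?_⟩
    have h1 : (ρ (q : centralizer ({z} : Set K))).σ = 1 := (M.mem_Q _).1 q.2
    have h2 : ρ ((q : centralizer ({z} : Set K)) * q) = 1 := by
      rw [map_mul]
      apply SP.ext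
      · rw [mul_σ, h1, mul_one, one_σ]
      · funext i
        rw [mul_s, h1, one_s]
        exact CharTwo.add_self_eq_zero _
    have h3 : (q : centralizer ({z} : Set K)) ^ 2 = 1 ∨ (q : centralizer ({z} : Set K)) ^ 2 = zc z := by
      rw [pow_two]; exact (M.ker _).1 h2
    show ((q : centralizer ({z} : Set K)) ^ 2 ^ 2) = 1
    rw [show (2 : ℕ) ^ 2 = 2 * 2 by norm_num, pow_mul]
    rcases h3 with h | h
    · rw [h, one_pow]
    · rw [h, pow_two]; exact M.z_sq
  · rintro g hg _ ⟨x, hx, rfl⟩
    refine ⟨⟨g, hC hg⟩ * x * ⟨g, hC hg⟩⁻¹, ?_, rfl⟩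
    show _ ∈ Q
    rw [M.mem_Q, map_mul, map_mul, mul_σ, mul_σ, (M.mem_Q _).1 hx, mul_one, ← mul_σ, ← map_mul, mul_inv_cancel,
      map_one, one_σ]
  · intro y hy hyQ ho
    set c : centralizer ({z} : Set K) := ⟨y, hC hy⟩ with hc
    have h1 : ∀ i, 0 = (ρ c).s i ∧ i = (ρ c).σ i := by
      intro i
      have e : c * v i = v i * c := Subtype.ext (hyQ _ ⟨v i, M.v_mem i, rfl⟩)
      have e2 := M.conj c i
      rw [e, mul_inv_cancel_right] at e2
      refine M.v_inj 0 _ i _ ?_
      rw [zp_zero, one_mul]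
      exact e2
    have h2 : ρ c = 1 := by
      apply SP.ext
      · ext i
        rw [← (h1 i).2]; rfl
      · funext i
        exact (h1 i).1.symm
    rcases (M.ker c).1 h2 with h | h
    · exact congrArg Subtype.val h
    · exfalso
      have h3 : y = z := congrArg Subtype.val h
      have h4 : z ≠ 1 := fun e => M.z_ne (Subtype.ext e)
      have h5 : orderOf y = 2 := by
        rw [h3]
        exact orderOf_eq_prime (by rw [pow_two, hz2]) h4
      rw [h5] at ho
      exact absurd ho (by decide)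

/-- **`J3` is of characteristic 2 type.** -/
theorem j3 (G : Type*) [Group G] [Finite G] (h : Spor.IsoJ3 G) : IsCharacteristicTwoType G := by
  obtain ⟨-, z, Q, v, ρ, n, u, F⟩ := KFacts.J3.exists_facts h
  refine isCharacteristicTwoType ?_ fun t ht => ?_
  · rw [F.card_K]; decide
  · have ht1 : t ≠ 1 := by
      rintro rfl
      simp at ht
    have ht2 : t * t = 1 := by
      rw [← pow_two, ← ht]; exact pow_orderOf_eq_one t
    obtain ⟨g, hg⟩ := F.one t ht1 ht2
    rw [← hg]
    exact good_conj (good F.model) g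

end Cfsg.Agent.OddHalf.Small.J3
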