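import Mathlib
import Cfsg.Prelude.Def_Spor_Mathieu
import Cfsg.Prelude.Def_CaseTheorems
import Cfsg.Agent.OddHalf.Small.Transport
import Cfsg.Agent.SporadicA.OctadFix
import Cfsg.Agent.J4.M24Invol

/-!
# `M₂₂` and `M₂₃` are of characteristic 2 type

An involution `t` of `M₂₄` with a fixed point fixes exactly the points of an octad `O`. The pointwise stabilizer
`Q` of `O` has order 16, is elementary abelian and regular on the 16 other points, and it is normalized by `C(t)`; an
element of odd order of `C(t)` that centralizes `Q` fixes the 16 points outside of `O`, so it is trivial.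
-/

set_option autoImplicit false

open scoped Pointwise

namespace Cfsg.Agent.OddHalf.Small.Mathieu

open Subgroup Cfsg Crit
open Cfsg.Agent.SporadicA.GolayBase Cfsg.Agent.SporadicA.GolayPerm
open Cfsg.Agent.SporadicA.OctadStab Cfsg.Agent.SporadicA.OctadFix
open Cfsg.Agent.SporadicStructure.M24El
open Cfsg.Agent.J4.M24InvolData (P1 P2)
open Cfsg.Agent.J4.M24Invol (ok_P1 ok_P2 invol_conj)

/-! ### the fixed points of an involution -/

theorem fix_P1_chk : ∀ i < 24, (Nat.beq (papp P1 i) i) = Nat.testBit 1327290 i := by decide +kernel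

theorem fix_P2_chk : ∀ i < 24, (Nat.beq (papp P2 i) i) = false := by decide +kernel

theorem fix_P1_oct : isCode 1327290 = true ∧ popcount 1327290 = 8 := by decide +kernel

theorem fix_P1 (p : GolayPt) : el P1 • p = p ↔ p ∈ fin 1327290 := by
  rw [mem_fin, ← fix_P1_chk _ (idx_lt p), Nat.beq_eq, ← idx_el_smul ok_P1]
  exact ⟨fun h => by rw [h], fun h => idx_injective h⟩

theorem fix_P2 (p : GolayPt) : el P2 • p ≠ p := by
  intro h
  have h1 := fix_P2_chk _ (idx_lt p)
  rw [← idx_el_smul ok_P2, h] at h1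
  rw [Nat.beq_refl] at h1
  exact Bool.noConfusion h1

/-- An involution of `M₂₄` with a fixed point fixes exactly an octad. -/
theorem exists_fix_octad {t : Equiv.Perm GolayPt} (ht : t ∈ M24) (h2 : t * t = 1) (h1 : t ≠ 1)
    {p : GolayPt} (hp : t p = p) : ∃ o ∈ octads, ∀ x, t x = x ↔ x ∈ o := by
  obtain ⟨g, hg⟩ := invol_conj ⟨t, ht⟩ (Subtype.ext h2) (fun e => h1 (congrArg Subtype.val e))
  have hs : ∀ x : GolayPt, t x = x ↔ (g * ⟨t, ht⟩ * g⁻¹) • (g • x) = g • x := by
    intro x
    rw [smul_smul, mul_assoc, inv_mul_cancel, mul_one, mul_smul, smul_left_cancel_iff]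
    exact Iff.rfl
  rcases hg with hg | hg
  · refine ⟨g⁻¹ • fin 1327290, ?_, fun x => ?_⟩
    · exact (smul_mem_octads (inv_mem g.2)).2 ((fin_mem_octads_iff (by norm_num)).2 fix_P1_oct)
    · rw [hs, hg, fix_P1, Finset.mem_inv_smul_finset_iff]
  · exact absurd ((hs p).1 hp) (by rw [hg]; exact fix_P2 _)

/-! ### disjoint octads -/

theorem oct1_chk : isCode 6889680 = true ∧ popcount 6889680 = 8 := by decide +kernel

theorem oct1_disj : ∀ i < 24, Nat.testBit 6889680 i = true → Nat.testBit 8536111 i = false := by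
  decide +kernel

theorem exists_disj {o : Finset GolayPt} (ho : o ∈ octads) :
    ∃ o' ∈ octads, (∀ x ∈ o', x ∉ o) ∧ ∃ p, p ∉ o ∧ p ∉ o' := by
  obtain ⟨k, hk, h⟩ := exists_smul_eq_oct0 ho
  refine ⟨k⁻¹ • fin 6889680, ?_, ?_, k⁻¹ (pt 8), ?_, ?_⟩
  · exact (smul_mem_octads (inv_mem hk)).2 ((fin_mem_octads_iff (by norm_num)).2 oct1_chk)
  · intro x hx hxo
    rw [Finset.mem_inv_smul_finset_iff] at hx
    have h1 : k • x ∈ oct0 := by rw [← h]; exact Finset.smul_mem_smul_finset hxo
    rw [mem_fin] at hx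
    rw [mem_oct0, oct1_disj _ (idx_lt _) hx] at h1
    exact Bool.noConfusion h1
  · intro hx
    have h1 : k • (k⁻¹ (pt 8)) ∈ oct0 := by rw [← h]; exact Finset.smul_mem_smul_finset hx
    rw [show k • (k⁻¹ (pt 8)) = pt 8 from Equiv.apply_symm_apply k _, mem_oct0, idx_pt (by norm_num)] at h1
    revert h1
    decide +kernel
  · intro hx
    rw [Finset.mem_inv_smul_finset_iff, show k • (k⁻¹ (pt 8)) = pt 8 from Equiv.apply_symm_apply k _, mem_fin,
      idx_pt (by norm_num)] at hx
    revert hx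
    decide +kernel

/-- An element of `M₂₄` fixing every point outside of an octad is trivial. -/
theorem eq_one_of_fix_compl {o : Finset GolayPt} (ho : o ∈ octads) {y : Equiv.Perm GolayPt} (hy : y ∈ M24)
    (h : ∀ x, x ∉ o → y x = x) : y = 1 := by
  obtain ⟨o', ho', hd, p, hp, hp'⟩ := exists_disj ho
  exact (existsUnique_fixOct ho' hp' hp').unique ⟨mem_fixOct.2 ⟨hy, fun x hx => h x (hd x hx)⟩, h p hp⟩
    ⟨one_mem _, rfl⟩

/-! ### the criterion -/

/-- An involution is good in every subgroup that contains the pointwise stabilizer of its fixed octad. -/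
theorem good {H : Subgroup (Equiv.Perm GolayPt)} (hH : H ≤ M24) {t : H} {o : Finset GolayPt}
    (ho : o ∈ octads) (hto : ∀ x, (t : Equiv.Perm GolayPt) x = x ↔ x ∈ o) (hQ : fixOct o ≤ H) : Good t := by
  -- elements of `C(t)` preserve `o`
  have hcen : ∀ g : H, g * t = t * g → ∀ x, (g : Equiv.Perm GolayPt) x ∈ o ↔ x ∈ o := by
    intro g hg x
    have h1 : ∀ x, (g : Equiv.Perm GolayPt) ((t : Equiv.Perm GolayPt) x) =
        (t : Equiv.Perm GolayPt) ((g : Equiv.Perm GolayPt) x) :=
      fun x => congrArg (fun k : H => (k : Equiv.Perm GolayPt) x) hg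
    rw [← hto, ← hto, ← h1]
    exact (g : Equiv.Perm GolayPt).injective.eq_iff
  have hsq : ∀ a ∈ fixOct o, a * a = 1 := fun a ha => fixOct_sq ho ha
  have hcomm : ∀ a ∈ fixOct o, ∀ b ∈ fixOct o, a * b = b * a := by
    intro a ha b hb
    have h1 := hsq (a * b) (mul_mem ha hb)
    have h2 : a * b = b⁻¹ * a⁻¹ := by rw [← mul_inv_rev]; exact eq_inv_of_mul_eq_one_left h1
    rw [h2, inv_eq_of_mul_eq_one_left (hsq a ha), inv_eq_of_mul_eq_one_left (hsq b hb)]
  refine ⟨(fixOct o).subgroupOf H, ?_, ?_, ?_⟩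
  · intro a
    refine ⟨1, ?_⟩
    rw [pow_one, pow_two]
    refine Subtype.ext (Subtype.ext ?_)
    exact hsq _ a.2
  · intro g hg x hx
    rw [mem_subgroupOf] at hx ⊢
    have h1 : (g : Equiv.Perm GolayPt) • o = o := by
      ext x
      obtain ⟨x, rfl⟩ := (g : Equiv.Perm GolayPt).surjective x
      rw [mem_smul_iff, hcen g hg]
    have h2 := (conj_mem_fixOct (o := o) (hH g.2)).2 hx
    rw [h1] at h2
    exact h2
  · intro y hy hyQ hodd
    set y' : Equiv.Perm GolayPt := (y : Equiv.Perm GolayPt) with hy'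
    have hyM : y' ∈ M24 := hH y.2
    -- the square of `y` fixes the points outside of `o`
    have hfix2 : ∀ x, x ∉ o → y' (y' x) = x := by
      intro x hx
      have hyx : y' x ∉ o := fun h => hx ((hcen y hy x).1 h)
      obtain ⟨q, ⟨hq, hqx⟩, -⟩ := existsUnique_fixOct ho hx hyx
      have hcq : ∀ z, y' (q z) = q (y' z) := by
        intro z
        have h1 := hyQ ⟨q, hQ hq⟩ (mem_subgroupOf.2 hq)
        exact congrArg (fun k : H => (k : Equiv.Perm GolayPt) z) h1
      have h2 : q (q x) = x := by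
        rw [← Equiv.Perm.mul_apply, hsq q hq, Equiv.Perm.one_apply]
      rw [← hqx, hcq, ← hqx, h2]
    have h2 : y' * y' = 1 := eq_one_of_fix_compl ho (mul_mem hyM hyM) hfix2
    have h3 : y ^ 2 = 1 := by
      rw [pow_two]
      exact Subtype.ext h2
    have h4 : orderOf y ∣ 2 := orderOf_dvd_of_pow_eq_one h3
    have h5 : orderOf y = 1 := by
      rcases (Nat.dvd_prime Nat.prime_two).1 h4 with h | h
      · exact h
      · rw [h] at hodd
        exact absurd hodd (by decide)
    exact orderOf_eq_one_iff.1 h5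

theorem sq_of_order {G : Type*} [Group G] {t : G} (h : orderOf t = 2) : t * t = 1 ∧ t ≠ 1 := by
  refine ⟨?_, ?_⟩
  · rw [← pow_two, ← h, pow_orderOf_eq_one]
  · rintro rfl
    rw [orderOf_one] at h
    omega

theorem fixOct_oct0_le : fixOct oct0 ≤ Cfsg.Spor.M22 := by
  intro q hq
  rw [mem_fixOct] at hq
  refine ⟨⟨hq.1, hq.2 _ ?_⟩, hq.2 _ ?_⟩
  · rw [mem_oct0]
    decide +kernel
  · rw [mem_oct0]
    decide +kernel

theorem even_of_le {H : Subgroup (Equiv.Perm GolayPt)} (h : fixOct oct0 ≤ H) : Even (Nat.card H) := by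
  have h1 := Subgroup.card_dvd_of_le h
  rw [card_fixOct_oct0] at h1
  exact (Nat.even_iff.2 (by norm_num : 16 % 2 = 0)).trans_dvd h1

/-- **`M₂₃` is of characteristic 2 type.** -/
theorem charTwo_M23 : IsCharacteristicTwoType Cfsg.Spor.M23 := by
  have hc : Even (Nat.card Cfsg.Spor.M23) := even_of_le (fixOct_oct0_le.trans inf_le_left)
  refine isCharacteristicTwoType hc fun t ht => ?_
  obtain ⟨h2, h1⟩ := sq_of_order ht
  have hfix : (t : Equiv.Perm GolayPt) none = none := t.2.2
  obtain ⟨o, ho, hto⟩ := exists_fix_octad (t := (t : Equiv.Perm GolayPt)) t.2.1 (congrArg Subtype.val h2)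
    (fun e => h1 (Subtype.ext e)) hfix
  refine good inf_le_left ho hto ?_
  rintro q hq
  rw [mem_fixOct] at hq
  exact ⟨hq.1, hq.2 _ ((hto _).1 hfix)⟩

/-- **`M₂₂` is of characteristic 2 type.** -/
theorem charTwo_M22 : IsCharacteristicTwoType Cfsg.Spor.M22 := by
  have hc : Even (Nat.card Cfsg.Spor.M22) := even_of_le fixOct_oct0_le
  refine isCharacteristicTwoType hc fun t ht => ?_
  obtain ⟨h2, h1⟩ := sq_of_order ht
  have hfix : (t : Equiv.Perm GolayPt) none = none := t.2.1.2
  have hfix0 : (t : Equiv.Perm GolayPt) (some 0) = some 0 := t.2.2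
  obtain ⟨o, ho, hto⟩ := exists_fix_octad (t := (t : Equiv.Perm GolayPt)) t.2.1.1 (congrArg Subtype.val h2)
    (fun e => h1 (Subtype.ext e)) hfix
  refine good (inf_le_left.trans inf_le_left) ho hto ?_
  rintro q hq
  rw [mem_fixOct] at hq
  exact ⟨⟨hq.1, hq.2 _ ((hto _).1 hfix)⟩, hq.2 _ ((hto _).1 hfix0)⟩

theorem m22 {G : Type*} [Group G] (h : Cfsg.Spor.IsoM22 G) : IsCharacteristicTwoType G := by
  obtain ⟨e⟩ := h
  exact Transport.isCharacteristicTwoType e.symm charTwo_M22

theorem m23 {G : Type*} [Group G] (h : Cfsg.Spor.IsoM23 G) : IsCharacteristicTwoType G := by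
  obtain ⟨e⟩ := h
  exact Transport.isCharacteristicTwoType e.symm charTwo_M23

end Cfsg.Agent.OddHalf.Small.Mathieu
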