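import Cfsg.Agent.OddHalf.Small.Generic
import Cfsg.Agent.S0144
import Mathlib.GroupTheory.Perm.Centralizer
import Mathlib.GroupTheory.SpecificGroups.Alternating

/-!
# `A₅`, `A₆` and `A₈` are of characteristic `2` type
-/

set_option autoImplicit false
set_option linter.style.haveILetI false

namespace Cfsg.Agent.OddHalf.Small.Alt

open Subgroup Cfsg Equiv Equiv.Perm
open Cfsg.Agent.OddHalf.Small.Generic
open Cfsg.Agent.Lib.Cores (le_pPrimeCore pPrimeCore_coprime pPrimeCore_normal)

/-! ### A criterion for groups of order `2 ^ a * 3` -/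

/-- A finite group whose order divides `2 ^ a * 3` and with two non-commuting elements of order `3` is of
characteristic `2`. -/
theorem isOfCharacteristicTwo_of_card {H : Type*} [Group H] [Finite H] {a : ℕ}
    (h : Nat.card H ∣ 2 ^ a * 3) {x y : H} (hx : x ^ 3 = 1) (hy : y ^ 3 = 1) (hxy : x * y ≠ y * x) :
    IsOfCharacteristicTwo H := by
  haveI : Fact (Nat.Prime 2) := ⟨Nat.prime_two⟩
  -- solvability
  haveI hsolv : Group.IsSolvable H := by
    obtain ⟨d, e, hd, he, hde⟩ := (Nat.dvd_mul).mp h
    obtain ⟨b, -, rfl⟩ := (Nat.dvd_prime_pow Nat.prime_two).mp hd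
    obtain ⟨c, -, rfl⟩ := (Nat.dvd_prime_pow (i := e) (m := 1) Nat.prime_three).mp (by simpa using he)
    exact Cfsg.Agent.S0144.result 2 3 b c Nat.prime_two Nat.prime_three hde.symm
  refine Cfsg.Agent.Classification.LocalCore.centralizer_pCore_le 2 ?_
  by_contra hW
  set W : Subgroup H := pPrimeCore 2 H with hWdef
  haveI : W.Normal := pPrimeCore_normal (G := H) 2
  have hWc : (Nat.card W).Coprime 2 := pPrimeCore_coprime 2
  have hW3 : Nat.card W ∣ 3 :=
    (hWc.pow_right a).dvd_of_dvd_mul_left ((card_subgroup_dvd_card W).trans h)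
  have hW3' : Nat.card W = 3 := by
    rcases (Nat.dvd_prime Nat.prime_three).mp hW3 with h1 | h1
    · exact absurd (eq_bot_of_card_eq _ h1) hW
    · exact h1
  -- the index is a power of two
  have hidx : W.index ∣ 2 ^ a := by
    have h1 : Nat.card W * W.index ∣ 2 ^ a * 3 := (W.card_mul_index).symm ▸ h
    rw [hW3', mul_comm] at h1
    exact Nat.dvd_of_mul_dvd_mul_right (by norm_num) h1
  have hmem : ∀ z : H, z ^ 3 = 1 → z ∈ W := by
    intro z hz
    have h1 : (QuotientGroup.mk z : H ⧸ W) ^ 3 = 1 := by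
      rw [← QuotientGroup.mk_pow, hz, QuotientGroup.mk_one]
    have h2 : orderOf (QuotientGroup.mk z : H ⧸ W) ∣ 3 := orderOf_dvd_of_pow_eq_one h1
    have h3 : orderOf (QuotientGroup.mk z : H ⧸ W) ∣ 2 ^ a :=
      (_root_.orderOf_dvd_natCard _).trans hidx
    have h4 : orderOf (QuotientGroup.mk z : H ⧸ W) ∣ 1 := by
      have h5 : Nat.gcd 3 (2 ^ a) = 1 := Nat.Coprime.pow_right a (by norm_num)
      rw [← h5]
      exact Nat.dvd_gcd h2 h3
    rw [Nat.dvd_one, orderOf_eq_one_iff, QuotientGroup.eq_one_iff] at h4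
    exact h4
  haveI : Fact (Nat.Prime 3) := ⟨Nat.prime_three⟩
  haveI : IsCyclic W := isCyclic_of_prime_card hW3'
  have h5 : (⟨x, hmem x hx⟩ : W) * ⟨y, hmem y hy⟩ = ⟨y, hmem y hy⟩ * ⟨x, hmem x hx⟩ := by
    letI := IsCyclic.commGroup (α := W)
    exact mul_comm _ _
  exact hxy (congrArg Subtype.val h5)

/-! ### Involutions of the alternating groups -/

/-- The centralizer in the alternating group embeds in the one in the symmetric group. -/
theorem card_centralizer_dvd {n : ℕ} (t : alternatingGroup (Fin n)) :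
    Nat.card (centralizer ({t} : Set (alternatingGroup (Fin n)))) ∣
      Nat.card (centralizer ({(t : Perm (Fin n))} : Set (Perm (Fin n)))) := by
  have h1 : (centralizer ({t} : Set (alternatingGroup (Fin n)))).map (alternatingGroup (Fin n)).subtype
      ≤ centralizer ({(t : Perm (Fin n))} : Set (Perm (Fin n))) := by
    rintro _ ⟨x, hx, rfl⟩
    have hx' : x * t = t * x := mem_centralizer_singleton_iff.mp hx
    rw [mem_centralizer_singleton_iff]
    exact congrArg Subtype.val hx'
  have h2 := card_dvd_of_le h1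
  rwa [card_map_of_injective (subtype_injective _)] at h2

/-- The cycle type of an involution of the alternating group. -/
theorem cycleType_of_involution {n : ℕ} (t : alternatingGroup (Fin n)) (ht : orderOf t = 2) :
    ∃ m : ℕ, 1 ≤ m ∧ 4 * m ≤ n ∧ (t : Perm (Fin n)).cycleType = Multiset.replicate (2 * m) 2 := by
  have ho : orderOf (t : Perm (Fin n)) = 2 := by rw [orderOf_coe, ht]
  obtain ⟨k, hk⟩ := cycleType_prime_order (σ := (t : Perm (Fin n))) (by rw [ho]; exact Nat.prime_two)
  rw [ho] at hk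
  have hs : sign (t : Perm (Fin n)) = 1 := mem_alternatingGroup.mp t.2
  rw [sign_of_cycleType, hk] at hs
  simp only [Multiset.sum_replicate, Multiset.card_replicate, smul_eq_mul] at hs
  have hev : Even (k + 1) := by
    by_contra hodd
    rw [Nat.not_even_iff_odd] at hodd
    have h1 : Odd ((k + 1) * 2 + (k + 1)) := (even_two.mul_left _).add_odd hodd
    rw [h1.neg_one_pow] at hs
    exact absurd hs (by decide)
  obtain ⟨m, hm⟩ := hev
  refine ⟨m, by omega, ?_, ?_⟩
  · have h1 := sum_cycleType_le (t : Perm (Fin n))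
    rw [hk, Multiset.sum_replicate, smul_eq_mul, Fintype.card_fin] at h1
    omega
  · rw [hk, hm, two_mul]

/-- Orders of the centralizers of involutions. -/
theorem card_centralizer_perm {n k : ℕ} (g : Perm (Fin n)) (hk : 1 ≤ k)
    (h : g.cycleType = Multiset.replicate k 2) :
    Nat.card (centralizer ({g} : Set (Perm (Fin n)))) =
      (n - 2 * k).factorial * 2 ^ k * k.factorial := by
  rw [nat_card_centralizer, h]
  have h1 : (Multiset.replicate k 2).toFinset = {2} := by
    rw [Multiset.toFinset_replicate, if_neg (by omega)]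
  rw [h1]
  simp [Multiset.sum_replicate, mul_comm]

theorem even_card_alternatingGroup {n : ℕ} (hn : 4 ≤ n) :
    Even (Nat.card (alternatingGroup (Fin n))) := by
  haveI : Nontrivial (Fin n) := Fin.nontrivial_iff_two_le.mpr (by omega)
  have h1 := nat_card_alternatingGroup (α := Fin n)
  rw [Nat.card_eq_fintype_card (α := Fin n), Fintype.card_fin] at h1
  have h2 : (4 : ℕ) ∣ n.factorial :=
    Dvd.dvd.trans (by decide) (Nat.factorial_dvd_factorial hn)
  rw [h1]
  obtain ⟨k, hk⟩ := h2
  refine ⟨k, ?_⟩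
  omega

/-- `A₅` and `A₆` are of characteristic `2` type. -/
theorem of_le_six {n : ℕ} (hn : 4 ≤ n) (hn6 : n ≤ 6) :
    IsCharacteristicTwoType (alternatingGroup (Fin n)) := by
  refine isCharacteristicTwoType_of_isPGroup (even_card_alternatingGroup hn) fun t ht => ?_
  obtain ⟨m, hm1, hmn, hc⟩ := cycleType_of_involution t ht
  have hm : m = 1 := by omega
  subst hm
  have h1 := card_centralizer_dvd t
  rw [card_centralizer_perm _ (by norm_num) hc] at h1
  have h2 : Nat.card (centralizer ({t} : Set (alternatingGroup (Fin n)))) ∣ 2 ^ 4 := by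
    refine h1.trans ?_
    interval_cases n <;> decide
  obtain ⟨k, -, hk⟩ := (Nat.dvd_prime_pow Nat.prime_two).mp h2
  haveI : Fact (Nat.Prime 2) := ⟨Nat.prime_two⟩
  exact IsPGroup.of_card hk

/-- Transport of a pair of non-commuting elements of order `3` centralizing an involution. -/
theorem exists_pair {n m : ℕ} (t₀ x₀ y₀ : alternatingGroup (Fin n)) (ht₀ : t₀ ^ 2 = 1) (ht₁ : t₀ ≠ 1)
    (hs : (support (t₀ : Perm (Fin n))).card = 4 * m) (hx : x₀ * t₀ = t₀ * x₀)
    (hy : y₀ * t₀ = t₀ * y₀) (hx3 : x₀ ^ 3 = 1) (hy3 : y₀ ^ 3 = 1) (hxy : x₀ * y₀ ≠ y₀ * x₀)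
    (t : alternatingGroup (Fin n)) (hc : (t : Perm (Fin n)).cycleType = Multiset.replicate (2 * m) 2) :
    ∃ x y : centralizer ({t} : Set (alternatingGroup (Fin n))),
      x ^ 3 = 1 ∧ y ^ 3 = 1 ∧ x * y ≠ y * x := by
  haveI : Fact (Nat.Prime 2) := ⟨Nat.prime_two⟩
  obtain ⟨m', -, -, hm'⟩ := cycleType_of_involution t₀ (orderOf_eq_prime ht₀ ht₁)
  have hm : m' = m := by
    have h1 := sum_cycleType (t₀ : Perm (Fin n))
    rw [hm', hs, Multiset.sum_replicate, smul_eq_mul] at h1
    omega
  rw [hm, ← hc, ← isConj_iff_cycleType_eq, isConj_iff] at hm'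
  obtain ⟨g, hg⟩ := hm'
  -- conjugation by `g` on the alternating group
  set φ : alternatingGroup (Fin n) ≃* alternatingGroup (Fin n) := MulAut.conjNormal g with hφ
  have hφt : φ t₀ = t := Subtype.ext (by rw [hφ, MulAut.conjNormal_apply]; exact hg)
  refine ⟨⟨φ x₀, ?_⟩, ⟨φ y₀, ?_⟩, ?_, ?_, ?_⟩
  · rw [mem_centralizer_singleton_iff, ← hφt, ← map_mul, hx, map_mul]
  · rw [mem_centralizer_singleton_iff, ← hφt, ← map_mul, hy, map_mul]
  · exact Subtype.ext (by show (φ x₀) ^ 3 = 1; rw [← map_pow, hx3, map_one])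
  · exact Subtype.ext (by show (φ y₀) ^ 3 = 1; rw [← map_pow, hy3, map_one])
  · intro h
    have h1 : φ x₀ * φ y₀ = φ y₀ * φ x₀ := congrArg Subtype.val h
    rw [← map_mul, ← map_mul] at h1
    exact hxy (φ.injective h1)

/-- An element of the alternating group given as a product of an even number of transpositions. -/
abbrev mkA {n : ℕ} (g : Perm (Fin n)) (h : sign g = 1) : alternatingGroup (Fin n) :=
  ⟨g, mem_alternatingGroup.mpr h⟩

theorem ne_of_apply {n : ℕ} {x y : alternatingGroup (Fin n)} (i : Fin n)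
    (h : (x : Perm (Fin n)) i ≠ (y : Perm (Fin n)) i) : x ≠ y :=
  fun hxy => h (by rw [hxy])

theorem eq_of_apply {n : ℕ} {x y : alternatingGroup (Fin n)}
    (h : ∀ i, (x : Perm (Fin n)) i = (y : Perm (Fin n)) i) : x = y :=
  Subtype.ext (Equiv.ext h)

/-- `A₈` is of characteristic `2` type. -/
theorem eight : IsCharacteristicTwoType (alternatingGroup (Fin 8)) := by
  refine isCharacteristicTwoType_of_centralizers (even_card_alternatingGroup (by norm_num))
    fun t ht => ?_
  obtain ⟨m, hm1, hmn, hc⟩ := cycleType_of_involution t ht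
  have hm : m = 1 ∨ m = 2 := by omega
  have h1 := card_centralizer_dvd t
  rw [card_centralizer_perm _ (by omega) hc] at h1
  rcases hm with rfl | rfl
  · obtain ⟨x, y, hx, hy, hxy⟩ := exists_pair (m := 1)
      (mkA (swap (0 : Fin 8) 1 * swap 2 3) (by decide))
      (mkA (swap (4 : Fin 8) 5 * swap 5 6) (by decide))
      (mkA (swap (4 : Fin 8) 5 * swap 5 7) (by decide))
      (eq_of_apply (by decide)) (ne_of_apply 0 (by decide)) (by decide)
      (eq_of_apply (by decide)) (eq_of_apply (by decide)) (eq_of_apply (by decide))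
      (eq_of_apply (by decide)) (ne_of_apply 5 (by decide)) t hc
    exact isOfCharacteristicTwo_of_card (a := 10) (h1.trans (by decide)) hx hy hxy
  · obtain ⟨x, y, hx, hy, hxy⟩ := exists_pair (m := 2)
      (mkA (swap (0 : Fin 8) 1 * swap 2 3 * swap 4 5 * swap 6 7) (by decide))
      (mkA (swap (0 : Fin 8) 2 * swap 2 4 * (swap 1 3 * swap 3 5)) (by decide))
      (mkA (swap (0 : Fin 8) 2 * swap 2 6 * (swap 1 3 * swap 3 7)) (by decide))
      (eq_of_apply (by decide)) (ne_of_apply 0 (by decide)) (by decide)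
      (eq_of_apply (by decide)) (eq_of_apply (by decide)) (eq_of_apply (by decide))
      (eq_of_apply (by decide)) (ne_of_apply 2 (by decide)) t hc
    exact isOfCharacteristicTwo_of_card (a := 10) (h1.trans (by decide)) hx hy hxy

/-- The alternating groups of degrees `5`, `6` and `8` are of characteristic `2` type. -/
theorem result {G : Type*} [Group G] {n : ℕ} (hn : n = 5 ∨ n = 6 ∨ n = 8)
    (e : Nonempty (G ≃* alternatingGroup (Fin n))) : IsCharacteristicTwoType G := by
  obtain ⟨e⟩ := e
  refine isCharacteristicTwoType_congr e.symm ?_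
  rcases hn with rfl | rfl | rfl
  · exact of_le_six (by norm_num) (by norm_num)
  · exact of_le_six (by norm_num) (by norm_num)
  · exact eight

end Cfsg.Agent.OddHalf.Small.Alt
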