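import Mathlib
import Cfsg.Prelude.Def_CaseTheorems
import Cfsg.Agent.OddHalf.Small.Crit
import Cfsg.Agent.LThreeFour.Exists
import Cfsg.Agent.LThreeFour.Inv

/-!
# `L₃(4)` is of characteristic 2 type

Involution centralizers are Sylow 2-subgroups.
-/

set_option autoImplicit false

namespace Cfsg.Agent.OddHalf.Small.L34

open Subgroup Cfsg Cfsg.Agent.LThreeFour Crit

theorem good_x02 {L : Type*} [Group L] (A : Dat L) : Good (A.x 0 2 1) := by
  refine good_of_two fun y hy ho => ?_
  have h1 : y ∈ A.T := by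
    obtain ⟨p, hp⟩ := A.cent y hy
    exact ⟨p, hp.symm⟩
  have h2 : (⟨y, h1⟩ : A.T) ^ 64 = 1 := by
    rw [← A.card_T]; exact pow_card_eq_one'
  have h3 : y ^ 64 = 1 := congrArg Subtype.val h2
  have h4 : orderOf y ∣ 2 ^ 6 := orderOf_dvd_of_pow_eq_one h3
  have h5 : Nat.Coprime (orderOf y) (2 ^ 6) := (Nat.coprime_two_right.mpr ho).pow_right 6
  exact orderOf_eq_one_iff.mp (Nat.Coprime.eq_one_of_dvd h5 h4)

theorem charTwo {L : Type*} [Group L] {F : Type*} [Field F] [Fintype F]
    (hF : Fintype.card F = 4) (e : L ≃* Matrix.ProjectiveSpecialLinearGroup (Fin 3) F) :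
    IsCharacteristicTwoType L := by
  obtain ⟨A⟩ := exists_dat hF e
  have hfin : Finite L := Nat.finite_of_card_ne_zero (by rw [A.card]; norm_num)
  refine isCharacteristicTwoType ?_ fun t ht => ?_
  · rw [A.card]; decide
  · obtain ⟨g, hg⟩ := A.invol_conj t (by rintro rfl; simp at ht)
      (by rw [← pow_two, ← ht]; exact pow_orderOf_eq_one t)
    exact good_iff_of_isConj (isConj_iff.mpr ⟨g, hg⟩).symm (good_x02 A)

/-- **`PSL₃(4)` is of characteristic 2 type.** -/
theorem charTwo_L34 (F : Type*) [Field F] [Fintype F] (hF : Fintype.card F = 4) :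
    IsCharacteristicTwoType (Matrix.ProjectiveSpecialLinearGroup (Fin 3) F) :=
  charTwo hF (MulEquiv.refl _)

end Cfsg.Agent.OddHalf.Small.L34
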