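import Mathlib
import Cfsg.Prelude.Def_CaseTheorems
import Cfsg.Agent.OddHalf.Small.Transport
import Cfsg.Agent.OddHalf.Small.GLTwoThree
import Cfsg.Agent.Schreier.MEleven
import Cfsg.Agent.SporadicA.M11Iso
import Cfsg.Agent.S1603

/-!
# `M₁₁` is of characteristic 2 type

Involution centralizers are isomorphic to `GL₂(3)`.
-/

set_option autoImplicit false

open scoped Pointwise

namespace Cfsg.Agent.OddHalf.Small.M11

open Subgroup Cfsg Crit

/-- The joint stabilizer of a dodecad and one of its points. -/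
theorem charTwo_stab (d : Finset GolayPt) (hd : d ∈ dodecads) (p : GolayPt) (hp : p ∈ d) :
    IsCharacteristicTwoType
      ↥(MulAction.stabilizer Cfsg.M24 d ⊓ MulAction.stabilizer Cfsg.M24 p) := by
  have hc := Cfsg.Agent.S0387.result d hd p hp
  have hfin : Finite ↥(MulAction.stabilizer Cfsg.M24 d ⊓ MulAction.stabilizer Cfsg.M24 p) :=
    Nat.finite_of_card_ne_zero (by rw [hc]; norm_num)
  refine isCharacteristicTwoType ?_ fun t ht => ?_
  · rw [hc]; decide
  · obtain ⟨e⟩ := Cfsg.Agent.S1603.result d hd p hp t ht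
    exact GLTwoThree.good_of_gl e

/-- **`M₁₁` is of characteristic 2 type.** -/
theorem charTwo_M11 : IsCharacteristicTwoType Cfsg.Spor.M11 :=
  Transport.isCharacteristicTwoType Cfsg.Agent.Schreier.MEleven.equiv
    (charTwo_stab _ Cfsg.Agent.Schreier.MEleven.squareDodecad_mem _
      Cfsg.Agent.Schreier.MEleven.zero_mem)

theorem charTwo_of_iso {G : Type*} [Group G] (h : Cfsg.Spor.IsoM11 G) :
    IsCharacteristicTwoType G := by
  obtain ⟨e⟩ := h
  exact Transport.isCharacteristicTwoType e.symm charTwo_M11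

/-- A simple group of order 7920 is of characteristic 2 type. -/
theorem charTwo_of_isM11 {G : Type*} [Group G] [Finite G] (h : Cfsg.IsM11 G) :
    IsCharacteristicTwoType G := by
  obtain ⟨X, i1, i2, i3, hX, h4⟩ := Cfsg.Agent.SectRankFour.AutM11.exists_sharp4 h
  obtain ⟨e⟩ := Cfsg.Agent.SporadicA.M11Iso.nonempty_mulEquiv_dodecad_point hX h4 _
    Cfsg.Agent.Schreier.MEleven.squareDodecad_mem _ Cfsg.Agent.Schreier.MEleven.zero_mem
  exact Transport.isCharacteristicTwoType e.symm
    (charTwo_stab _ Cfsg.Agent.Schreier.MEleven.squareDodecad_mem _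
      Cfsg.Agent.Schreier.MEleven.zero_mem)

end Cfsg.Agent.OddHalf.Small.M11
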