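import Mathlib
import Cfsg.Agent.OddHalf.Small.Crit

/-!
# Good involutions from the stabilizer of a flag `0 ≤ W ≤ P ≤ V` (characteristic two)
-/

set_option autoImplicit false

namespace Cfsg.Agent.OddHalf.Small.Flag

open Subgroup Cfsg Cfsg.Agent.OddHalf.Small.Crit

variable {G : Type*} [Group G] {V : Type*} [AddCommGroup V]

/-- The elements acting trivially on `W`, `P / W`, `V / P`. -/
def stab (ρ : G →* (AddMonoid.End V)) (W P : AddSubgroup V) (hWP : W ≤ P) : Subgroup G where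
  carrier := {g | (∀ x ∈ W, ρ g x = x) ∧ (∀ x ∈ P, ρ g x - x ∈ W) ∧ ∀ x, ρ g x - x ∈ P}
  one_mem' := by
    refine ⟨fun x _ => by rw [map_one]; rfl, fun x _ => ?_, fun x => ?_⟩
    · rw [map_one]
      show x - x ∈ W
      rw [sub_self]; exact W.zero_mem
    · rw [map_one]
      show x - x ∈ P
      rw [sub_self]; exact P.zero_mem
  mul_mem' := by
    rintro a b ⟨a1, a2, a3⟩ ⟨b1, b2, b3⟩
    refine ⟨fun x hx => ?_, fun x hx => ?_, fun x => ?_⟩
    · rw [map_mul]
      show ρ a (ρ b x) = x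
      rw [b1 x hx, a1 x hx]
    · rw [map_mul]
      show ρ a (ρ b x) - x ∈ W
      have h1 := b2 x hx
      have h2 : ρ a (ρ b x) = ρ a (ρ b x - x) + ρ a x := by
        rw [← map_add, sub_add_cancel]
      rw [h2, a1 _ h1]
      have h3 := a2 x hx
      have e : ρ b x - x + ρ a x - x = (ρ b x - x) + (ρ a x - x) := by abel
      rw [e]
      exact W.add_mem h1 h3
    · rw [map_mul]
      show ρ a (ρ b x) - x ∈ P
      have e : ρ a (ρ b x) - x = (ρ a (ρ b x) - ρ b x) + (ρ b x - x) := by abel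
      rw [e]
      exact P.add_mem (a3 _) (b3 _)
  inv_mem' := by
    rintro a ⟨a1, a2, a3⟩
    have hinv : ∀ x, ρ a⁻¹ (ρ a x) = x := by
      intro x
      have : (ρ a⁻¹ * ρ a) x = x := by rw [← map_mul, inv_mul_cancel, map_one]; rfl
      exact this
    have hinv' : ∀ x, ρ a (ρ a⁻¹ x) = x := by
      intro x
      have : (ρ a * ρ a⁻¹) x = x := by rw [← map_mul, mul_inv_cancel, map_one]; rfl
      exact this
    have i1 : ∀ x ∈ W, ρ a⁻¹ x = x := by
      intro x hx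
      have h1 := hinv x
      rwa [a1 x hx] at h1
    have i2 : ∀ x ∈ P, ρ a⁻¹ x - x ∈ W := by
      intro x hx
      have h1 := a2 x hx
      have h2 := i1 _ h1
      rw [map_sub, hinv] at h2
      -- x - ρ a⁻¹ x = ρ a x - x
      have e : ρ a⁻¹ x - x = -(ρ a x - x) := by
        rw [← h2]; abel
      rw [e]
      exact W.neg_mem h1
    refine ⟨i1, i2, fun x => ?_⟩
    have h1 := a3 x
    have h2 := i2 _ h1
    rw [map_sub, hinv] at h2
    have h3 := P.sub_mem h1 (P.neg_mem (hWP h2))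
    have h4 := P.add_mem (hWP h2) h1
    have e : ρ a⁻¹ x - x = -((x - ρ a⁻¹ x - (ρ a x - x)) + (ρ a x - x)) := by abel
    rw [e]
    exact P.neg_mem h4

theorem mem_stab {ρ : G →* (AddMonoid.End V)} {W P : AddSubgroup V} {hWP : W ≤ P} {g : G} :
    g ∈ stab ρ W P hWP ↔ (∀ x ∈ W, ρ g x = x) ∧ (∀ x ∈ P, ρ g x - x ∈ W) ∧ ∀ x, ρ g x - x ∈ P := Iff.rfl

/-- In characteristic two the elements of `stab` satisfy `g ^ 4 = 1`. -/
theorem pow_four (hV : ∀ x : V, x + x = 0) {ρ : G →* (AddMonoid.End V)} (hρ : Function.Injective ρ)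
    {W P : AddSubgroup V} {hWP : W ≤ P} {g : G} (hg : g ∈ stab ρ W P hWP) : g ^ 4 = 1 := by
  obtain ⟨h1, h2, h3⟩ := hg
  apply hρ
  rw [map_pow, map_one]
  ext v
  have hp : ∀ x, ρ g x = x + (ρ g x - x) := fun x => by abel
  set a := ρ g v - v with ha
  set b := ρ g a - a with hb
  have hb' : ρ g b = b := h1 b (h2 a (h3 v))
  have e1 : ρ g v = v + a := by rw [ha]; abel
  have e2 : ρ g a = a + b := by rw [hb]; abel
  have s1 : ρ g (ρ g v) = v + b := by
    rw [e1, map_add, e1, e2]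
    have : v + a + (a + b) = v + b + (a + a) := by abel
    rw [this, hV, add_zero]
  have s2 : ρ g (ρ g (v + b)) = v + b + b := by
    rw [map_add, map_add, s1, hb', hb']
  have : (ρ g ^ 4) v = ρ g (ρ g (ρ g (ρ g v))) := rfl
  rw [this, s1, s2, add_assoc, hV, add_zero]
  rfl

theorem isPGroup_stab (hV : ∀ x : V, x + x = 0) {ρ : G →* (AddMonoid.End V)} (hρ : Function.Injective ρ)
    {W P : AddSubgroup V} {hWP : W ≤ P} : IsPGroup 2 (stab ρ W P hWP) := by
  rintro ⟨g, hg⟩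
  refine ⟨2, Subtype.ext ?_⟩
  exact pow_four hV hρ hg

/-- The criterion: `W ≤ P` invariant under `C(t)`, and the elements of `C(t)` centralizing `stab` lie in `stab`. -/
theorem good (hV : ∀ x : V, x + x = 0) (ρ : G →* (AddMonoid.End V)) (hρ : Function.Injective ρ)
    (W P : AddSubgroup V) (hWP : W ≤ P) {t : G}
    (hW : ∀ g, g * t = t * g → ∀ x ∈ W, ρ g x ∈ W) (hP : ∀ g, g * t = t * g → ∀ x ∈ P, ρ g x ∈ P)
    (h : ∀ y, y * t = t * y → (∀ x ∈ stab ρ W P hWP, y * x = x * y) → y ∈ stab ρ W P hWP) : Good t := by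
  refine ⟨stab ρ W P hWP, isPGroup_stab hV hρ, ?_, ?_⟩
  · intro g hg x hx
    have hg' : g⁻¹ * t = t * g⁻¹ := by
      have : g⁻¹ * (g * t) * g⁻¹ = g⁻¹ * (t * g) * g⁻¹ := by rw [hg]
      have e1 : g⁻¹ * (g * t) * g⁻¹ = t * g⁻¹ := by group
      have e2 : g⁻¹ * (t * g) * g⁻¹ = g⁻¹ * t := by group
      rw [e1, e2] at this
      exact this.symm
    have hinv' : ∀ x, ρ g (ρ g⁻¹ x) = x := by
      intro x
      have : (ρ g * ρ g⁻¹) x = x := by rw [← map_mul, mul_inv_cancel, map_one]; rfl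
      exact this
    obtain ⟨x1, x2, x3⟩ := hx
    have e : ∀ v, ρ (g * x * g⁻¹) v - v = ρ g (ρ x (ρ g⁻¹ v) - ρ g⁻¹ v) := by
      intro v
      rw [map_sub, hinv', map_mul, map_mul]
      rfl
    refine ⟨fun v hv => ?_, fun v hv => ?_, fun v => ?_⟩
    · rw [← sub_eq_zero, e, x1 _ (hW _ hg' v hv), sub_self, map_zero]
    · rw [e]
      exact hW _ hg _ (x2 _ (hP _ hg' v hv))
    · rw [e]
      exact hP _ hg _ (x3 _)
  · intro y hyt hyx ho
    have h4 := pow_four hV hρ (h y hyt hyx)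
    have h5 : orderOf y ∣ 4 := orderOf_dvd_of_pow_eq_one h4
    have h6 : orderOf y ∣ 2 ^ 2 := by simpa using h5
    obtain ⟨k, hk, hk'⟩ := (Nat.dvd_prime_pow Nat.prime_two).1 h6
    rcases Nat.eq_zero_or_pos k with rfl | hk0
    · rw [pow_zero] at hk'
      exact orderOf_eq_one_iff.1 hk'
    · rw [hk'] at ho
      exact absurd ho (by rw [Nat.not_odd_iff_even]; exact (Nat.even_pow.2 ⟨even_two, hk0.ne'⟩))

end Cfsg.Agent.OddHalf.Small.Flag
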