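import Mathlib
import Cfsg.Prelude.Def_Classical
import Cfsg.Agent.OddHalf.Small.Flag
import Cfsg.Agent.OddHalf.Small.Generic
import Cfsg.Agent.ClassicalGeometry.OrthDickson
import Cfsg.Agent.ClassicalGeometry.Eichler
import Cfsg.Agent.LieClassical.OrthCenter
import Cfsg.Agent.LieClassical.QuadForms

/-!
# Orthogonal groups over the field with two elements are of characteristic 2 type
-/

set_option autoImplicit false
set_option linter.unusedSectionVars false

namespace Cfsg.Agent.OddHalf.Small.Orth

open Subgroup Cfsg Cfsg.Agent.OddHalf.Small.Crit Cfsg.Agent.OddHalf.Small.Flag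
open QuadraticMap Matrix Module
open Cfsg.Agent.ClassicalGeometry.Reflection
open Cfsg.Agent.ClassicalGeometry.OrthCharTwo Cfsg.Agent.ClassicalGeometry.OrthDickson
open Cfsg.Agent.ClassicalGeometry.Eichler

variable {ι : Type} [Fintype ι] [DecidableEq ι] {F : Type*} [Field F]
variable (Q : QuadraticForm F (ι → F))

/-- The Eichler transformations of a form in characteristic two lie in `Omega`. -/
theorem exists_eichler [Finite F] (h2 : (2 : F) = 0) (hQ : (polarBilin Q).Nondegenerate)
    (hn : 5 ≤ Fintype.card ι) (u w : ι → F) (hu : Q u = 0) (huw : polar (⇑Q) u w = 0) :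
    ∃ E ∈ commutator (Cfsg.isometryGroup F (⇑Q)), ∀ x,
      act E x = x + (polar (⇑Q) u x • w + polar (⇑Q) w x • u + (Q w * polar (⇑Q) u x) • u) := by
  have hn4 : Fintype.card ι ≠ 4 := by omega
  have hneg : ∀ c : F, -c = c := fun c => by linear_combination -c * h2
  by_cases hw : Q w = 0
  · refine ⟨eichlerIso Q u w hu huw, ?_, ?_⟩
    · rw [commutator_eq_closure]
      apply Subgroup.subset_closure
      refine siegel_mem_commutatorSet Q hQ hn u w hu hw huw 1 _ ?_
      rw [coe_eichlerIso, siegelMatrix_eq Q u w 1 hw, one_smul]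
    · intro x
      rw [act_def, coe_eichlerIso, eichlerMatrix_mulVec, hw, sub_eq_add_neg, sub_eq_add_neg, ← neg_smul, ← neg_smul,
        hneg, hneg]
  · have hw' : Q (w + Q w • u) ≠ 0 := by
      rw [map_add', QuadraticMap.map_smul, hu, polar_smul_right, polar_comm (⇑Q) w u, huw]
      simpa using hw
    refine ⟨reflIso Q w hw * reflIso Q (w + Q w • u) hw',
      refl_mul_refl_mem_two Q h2 hQ (Or.inr hn4) _ _ hw hw', fun x => ?_⟩
    rw [act_refl_refl Q u w hu huw hw hw' x, sub_eq_add_neg, sub_eq_add_neg, ← neg_smul, ← neg_smul, hneg, hneg]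
    abel

/-- The natural representation of `Omega`. -/
def rep : Cfsg.Omega F (⇑Q) →* AddMonoid.End (ι → F) where
  toFun g := (Matrix.mulVecLin (((g : Cfsg.isometryGroup F (⇑Q)) : Matrix.GeneralLinearGroup ι F) :
    Matrix ι ι F)).toAddMonoidHom
  map_one' := by
    ext v : 1
    exact act_one (Q := ⇑Q) v
  map_mul' a b := by
    ext v : 1
    exact act_mul (a : Cfsg.isometryGroup F (⇑Q)) b v

theorem rep_apply (g : Cfsg.Omega F (⇑Q)) (v : ι → F) : rep Q g v = act (g : Cfsg.isometryGroup F (⇑Q)) v := rfl

theorem rep_injective : Function.Injective (rep Q) := by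
  intro a b h
  apply Subtype.ext
  apply act_ext
  intro x
  exact congrArg (fun f : AddMonoid.End (ι → F) => f x) h

theorem rep_mul (g h : Cfsg.Omega F (⇑Q)) (v : ι → F) : rep Q (g * h) v = rep Q g (rep Q h v) := by
  rw [map_mul]; rfl

theorem rep_smul (g : Cfsg.Omega F (⇑Q)) (c : F) (v : ι → F) : rep Q g (c • v) = c • rep Q g v :=
  act_smul _ c v

theorem polar_rep (g : Cfsg.Omega F (⇑Q)) (x y : ι → F) :
    polar (⇑Q) (rep Q g x) (rep Q g y) = polar (⇑Q) x y := polar_act _ x y

theorem Q_rep (g : Cfsg.Omega F (⇑Q)) (x : ι → F) : Q (rep Q g x) = Q x := Q_act _ x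

/-- Every involution of `Omega` over the field with two elements is good (dimension at least six). -/
theorem good_of_sq [Fintype F] (hF : Fintype.card F = 2) (hQ : (polarBilin Q).Nondegenerate)
    (hn : 6 ≤ Fintype.card ι) {t : Cfsg.Omega F (⇑Q)} (ht : t * t = 1) (ht1 : t ≠ 1) : Good t := by
  classical
  have h01 : ∀ c : F, c = 0 ∨ c = 1 := by
    intro c
    by_contra hcon
    push Not at hcon
    have h3 : ({0, 1, c} : Finset F).card = 3 := by
      rw [Finset.card_eq_three]
      exact ⟨0, 1, c, zero_ne_one, hcon.1.symm, hcon.2.symm, rfl⟩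
    have := Finset.card_le_univ ({0, 1, c} : Finset F)
    omega
  have h2 : (2 : F) = 0 := by
    have hone : (1 : F) + 1 = 0 := by
      rcases h01 (1 + 1) with h | h
      · exact h
      · exact absurd (add_eq_left.1 h) one_ne_zero
    rw [← one_add_one_eq_two]; exact hone
  have hneg : ∀ c : F, -c = c := fun c => by linear_combination -c * h2
  have hV : ∀ x : ι → F, x + x = 0 := fun x => by
    rw [← two_smul F x, h2, zero_smul]
  have hnegv : ∀ x : ι → F, -x = x := fun x => neg_eq_of_add_eq_zero_left (hV x)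
  have hself : ∀ x, polar (⇑Q) x x = 0 := fun x => by rw [polar_self', h2, zero_mul]
  have hn4 : Fintype.card ι ≠ 4 := by omega
  have htt : ∀ v, rep Q t (rep Q t v) = v := fun v => by
    rw [← rep_mul, ht, map_one]; rfl
  -- `W = [V, t]` is totally isotropic of dimension at least two
  set τ : Cfsg.isometryGroup F (⇑Q) := (t : Cfsg.isometryGroup F (⇑Q)) with hτ
  set W : Submodule F (ι → F) := resSp τ with hW
  have hWiso : ∀ w ∈ W, ∀ w' ∈ W, polar (⇑Q) w w' = 0 := by
    rintro _ ⟨v, rfl⟩ _ ⟨v', rfl⟩
    have e1 : polar (⇑Q) (act τ v) (act τ v') = polar (⇑Q) v v' := polar_act _ v v'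
    have e2 : polar (⇑Q) (act τ v) v' = polar (⇑Q) v (act τ v') := by
      have := polar_act τ v (act τ v')
      rw [← this]
      congr 1
      exact (htt v').symm
    rw [polar_sub_left, polar_sub_right, polar_sub_right, e1, e2]
    have : polar (⇑Q) v v' - polar (⇑Q) v (act τ v') - (polar (⇑Q) v (act τ v') - polar (⇑Q) v v')
        = 2 * (polar (⇑Q) v v' - polar (⇑Q) v (act τ v')) := by ring
    rw [this, h2, zero_mul]
  have hdimW : 2 ≤ finrank F W := by
    have h3 : dsign Q τ = 1 := dsign_eq_one_of_mem_commutator Q hQ (Or.inr hn4) τ t.2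
    rw [dsign_def] at h3
    have h4 : Even (finrank F (fixSp τ) + Fintype.card ι) := by
      rcases Nat.even_or_odd (finrank F (fixSp τ) + Fintype.card ι) with h | h
      · exact h
      · rw [h.neg_one_pow] at h3
        exact absurd h3 (by decide)
    have h5 : finrank F W + finrank F (fixSp τ) = Fintype.card ι := by
      have h6 := LinearMap.BilinForm.finrank_orthogonal hQ W
      rw [hW, orthogonal_resSp Q hQ τ, finrank_fintype_fun_eq_card] at h6
      have h7 : finrank F (resSp τ) ≤ Fintype.card ι := by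
        have := Submodule.finrank_le (resSp τ)
        rwa [finrank_fintype_fun_eq_card] at this
      rw [hW]
      omega
    have h6 : finrank F W ≠ 0 := by
      intro h0
      have h7 : fixSp τ = ⊤ := by
        apply Submodule.eq_top_of_finrank_eq
        rw [finrank_fintype_fun_eq_card]
        omega
      have h8 := fixSp_eq_top_iff.1 h7
      exact ht1 (Subtype.ext h8)
    rw [Nat.even_iff] at h4
    omega
  -- a nonzero singular vector of `W`
  obtain ⟨w₀, hw₀, hw₀0, hw₀q⟩ : ∃ w ∈ W, w ≠ 0 ∧ Q w = 0 := by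
    by_contra hcon
    push Not at hcon
    have hq1 : ∀ w ∈ W, w ≠ 0 → Q w = 1 := fun w hw hw0 => (h01 (Q w)).resolve_left (hcon w hw hw0)
    have hWne : W ≠ ⊥ := by
      intro h; rw [h, finrank_bot] at hdimW; omega
    obtain ⟨a, ha, ha0⟩ := (Submodule.ne_bot_iff _).1 hWne
    have hle : W ≤ Submodule.span F {a} := by
      intro b hb
      by_contra hba
      have hb0 : b ≠ 0 := by
        rintro rfl
        exact hba (Submodule.zero_mem _)
      have hab : a + b ≠ 0 := by
        intro h
        apply hba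
        have : b = a := by
          have h3 : a + b + b = b := by rw [h, zero_add]
          rw [add_assoc, hV, add_zero] at h3
          exact h3.symm
        rw [this]
        exact Submodule.mem_span_singleton_self a
      have h3 := hq1 _ (W.add_mem ha hb) hab
      rw [map_add', hq1 a ha ha0, hq1 b hb hb0, hWiso a ha b hb, add_zero] at h3
      exact one_ne_zero (add_eq_left.1 h3)
    have h3 := Submodule.finrank_mono hle
    have h4 : finrank F (Submodule.span F {a}) = 1 := finrank_span_singleton ha0
    omega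
  -- the totally singular subspace `W0`
  let W0 : Submodule F (ι → F) :=
    { carrier := {w | w ∈ W ∧ Q w = 0}
      add_mem' := by
        rintro a b ⟨ha, ha'⟩ ⟨hb, hb'⟩
        exact ⟨W.add_mem ha hb, by rw [map_add', ha', hb', hWiso a ha b hb, add_zero, add_zero]⟩
      zero_mem' := ⟨W.zero_mem, QuadraticMap.map_zero Q⟩
      smul_mem' := by
        rintro c a ⟨ha, ha'⟩
        exact ⟨W.smul_mem c ha, by rw [QuadraticMap.map_smul, ha', smul_zero]⟩ }
  have mW0 : ∀ w, w ∈ W0 ↔ w ∈ W ∧ Q w = 0 := fun w => Iff.rfl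
  let P : Submodule F (ι → F) := LinearMap.BilinForm.orthogonal (polarBilin Q) W0
  have mP : ∀ x, x ∈ P ↔ ∀ w ∈ W0, polar (⇑Q) w x = 0 := fun x => by
    rw [LinearMap.BilinForm.mem_orthogonal_iff]
    rfl
  have hPP : LinearMap.BilinForm.orthogonal (polarBilin Q) P = W0 :=
    LinearMap.BilinForm.orthogonal_orthogonal hQ (polarBilin_isRefl Q) _
  have hWP : W0 ≤ P := fun w hw => (mP w).2 fun w' hw' => hWiso w' hw'.1 w hw.1
  have hw₀W : w₀ ∈ W0 := ⟨hw₀, hw₀q⟩
  have hcW : ∀ g : Cfsg.Omega F (⇑Q), g * t = t * g → ∀ x ∈ W0, rep Q g x ∈ W0 := by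
    rintro g hg x ⟨⟨v, rfl⟩, hx⟩
    refine ⟨⟨rep Q g v, ?_⟩, ?_⟩
    · show rep Q t (rep Q g v) - rep Q g v = rep Q g (rep Q t v - v)
      rw [map_sub, ← rep_mul, ← rep_mul, hg]
    · show Q (rep Q g (act τ v - v)) = 0
      rw [Q_rep]; exact hx
  have hinvc : ∀ g : Cfsg.Omega F (⇑Q), g * t = t * g → g⁻¹ * t = t * g⁻¹ := by
    intro g hg
    have : g⁻¹ * (g * t) * g⁻¹ = g⁻¹ * (t * g) * g⁻¹ := by rw [hg]
    have e1 : g⁻¹ * (g * t) * g⁻¹ = t * g⁻¹ := by group
    have e2 : g⁻¹ * (t * g) * g⁻¹ = g⁻¹ * t := by group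
    rw [e1, e2] at this
    exact this.symm
  have hcP : ∀ g : Cfsg.Omega F (⇑Q), g * t = t * g → ∀ x ∈ P, rep Q g x ∈ P := by
    intro g hg x hx
    rw [mP] at hx ⊢
    intro w hw
    have h3 := hx _ (hcW _ (hinvc g hg) w hw)
    rw [← polar_rep Q g, ← rep_mul, mul_inv_cancel, map_one] at h3
    exact h3
  refine good hV (rep Q) (rep_injective Q) W0.toAddSubgroup P.toAddSubgroup hWP hcW hcP ?_
  intro y hyt hy
  -- Eichler elements commute with `y`
  have hE : ∀ w ∈ W0, ∀ u ∈ P, ∀ v : ι → F,
      polar (⇑Q) w v • rep Q y u + polar (⇑Q) u v • rep Q y w + (Q u * polar (⇑Q) w v) • rep Q y w =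
      polar (⇑Q) w (rep Q y v) • u + polar (⇑Q) u (rep Q y v) • w +
        (Q u * polar (⇑Q) w (rep Q y v)) • w := by
    intro w hw u hu v
    have hwu : polar (⇑Q) w u = 0 := (mP u).1 hu w hw
    obtain ⟨E, hEm, hEa⟩ := exists_eichler Q h2 hQ (by omega) w u hw.2 hwu
    have hmem : (⟨E, hEm⟩ : Cfsg.Omega F (⇑Q)) ∈ stab (rep Q) W0.toAddSubgroup P.toAddSubgroup hWP := by
      refine ⟨fun x hx => ?_, fun x hx => ?_, fun x => ?_⟩
      · show act E x = x
        rw [hEa, hWiso w hw.1 x hx.1]
        have h3 : polar (⇑Q) u x = 0 := by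
          rw [polar_comm]; exact (mP u).1 hu x hx
        rw [h3, mul_zero, zero_smul, zero_smul, add_zero, add_zero, add_zero]
      · show act E x - x ∈ W0
        rw [hEa, (mP x).1 hx w hw, mul_zero, zero_smul, zero_smul, zero_add, add_zero, add_sub_cancel_left]
        exact W0.smul_mem _ hw
      · show act E x - x ∈ P
        rw [hEa, add_sub_cancel_left]
        exact P.add_mem (P.add_mem (P.smul_mem _ hu) (P.smul_mem _ (hWP hw))) (P.smul_mem _ (hWP hw))
    have hc := hy _ hmem
    have h3 := congrArg (fun g => rep Q g v) hc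
    simp only [rep_mul] at h3
    have e1 : rep Q (⟨E, hEm⟩ : Cfsg.Omega F (⇑Q)) v =
      v + (polar (⇑Q) w v • u + polar (⇑Q) u v • w + (Q u * polar (⇑Q) w v) • w) := hEa v
    have e2 : rep Q (⟨E, hEm⟩ : Cfsg.Omega F (⇑Q)) (rep Q y v) = rep Q y v + (polar (⇑Q) w (rep Q y v) • u +
      polar (⇑Q) u (rep Q y v) • w + (Q u * polar (⇑Q) w (rep Q y v)) • w) := hEa _
    rw [e1, e2, map_add, map_add, map_add, rep_smul, rep_smul, rep_smul] at h3
    exact add_left_cancel h3
  have hne : ∀ x, x ≠ 0 → rep Q y x ≠ 0 := by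
    intro x hx h
    apply hx
    have h3 : rep Q y⁻¹ (rep Q y x) = x := by
      rw [← rep_mul, inv_mul_cancel, map_one]; rfl
    rw [← h3, h, map_zero]
  -- `y` fixes `W0` pointwise
  have hA : ∀ w ∈ W0, rep Q y w = w := by
    intro w hw
    by_cases hw0 : w = 0
    · rw [hw0, map_zero]
    by_cases hcase : P ≤ W0
    · -- `W0` is a maximal totally singular subspace of dimension at least three
      have hPeq : P = W0 := le_antisymm hcase hWP
      have hdim : 3 ≤ finrank F W0 := by
        have h6 := LinearMap.BilinForm.finrank_orthogonal hQ W0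
        have h6' : finrank F P = finrank F (ι → F) - finrank F W0 := h6
        rw [hPeq, finrank_fintype_fun_eq_card] at h6'
        omega
      have hsp : ∀ w' ∈ W0, w' ≠ 0 → w' ≠ w → rep Q y w = w ∨ rep Q y w = w' ∨ rep Q y w = w + w' := by
        intro w' hw' hw'0 hww'
        have hli : ∀ a b : F, a • w + b • w' = 0 → a = 0 ∧ b = 0 := by
          intro a b hab
          rcases h01 a with rfl | rfl <;> rcases h01 b with rfl | rfl
          · exact ⟨rfl, rfl⟩
          · exact absurd (by simpa using hab) hw'0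
          · exact absurd (by simpa using hab) hw0
          · exfalso
            apply hww'
            rw [one_smul, one_smul] at hab
            have h3 : w + w' + w = w := by rw [hab, zero_add]
            have h4 : w + w' + w = w' := by
              have : w + w' + w = w' + (w + w) := by abel
              rw [this, hV, add_zero]
            rw [← h4, h3]
        obtain ⟨v, hv1, hv2⟩ := exists_dual_pair Q hQ hli
        have h3 := hE w hw w' (hWP hw') v
        rw [hv1, hv2, hw'.2] at h3
        simp only [zero_mul, zero_smul, one_smul, zero_add, add_zero] at h3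
        rw [h3]
        rcases h01 (polar (⇑Q) w (rep Q y v)) with h4 | h4 <;> rcases h01 (polar (⇑Q) w' (rep Q y v)) with h5 | h5
        · exfalso
          rw [h4, h5, zero_smul, zero_smul, add_zero] at h3
          exact hne w hw0 h3
        · left; rw [h4, h5, zero_smul, one_smul, zero_add]
        · right; left; rw [h4, h5, one_smul, zero_smul, add_zero]
        · right; right; rw [h4, h5, one_smul, one_smul, add_comm]
      by_contra hyw
      -- `w' = y w` and `w''` outside the span of `w, w'`
      set w' := rep Q y w with hw'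
      have hw'W : w' ∈ W0 := hcW y hyt w hw
      have hw'0 : w' ≠ 0 := hne w hw0
      obtain ⟨w'', hw''W, hw''⟩ : ∃ w'' ∈ W0, w'' ∉ Submodule.span F ({w, w'} : Set (ι → F)) := by
        by_contra hcon
        push Not at hcon
        have h3 : finrank F W0 ≤ finrank F (Submodule.span F ({w, w'} : Set (ι → F))) :=
          Submodule.finrank_mono hcon
        have h4 : finrank F (Submodule.span F ({w, w'} : Set (ι → F))) ≤ 2 := by
          have h5 := finrank_span_finset_le_card (R := F) ({w, w'} : Finset (ι → F))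
          have h6 : ({w, w'} : Finset (ι → F)).card ≤ 2 := Finset.card_le_two
          rw [Finset.coe_pair] at h5
          exact h5.trans h6
        omega
      have hs1 : w ∈ Submodule.span F ({w, w'} : Set (ι → F)) := Submodule.subset_span (by simp)
      have hs2 : w' ∈ Submodule.span F ({w, w'} : Set (ι → F)) := Submodule.subset_span (by simp)
      have h30 : w'' ≠ 0 := by
        rintro rfl; exact hw'' (Submodule.zero_mem _)
      have h31 : w'' ≠ w := by
        rintro rfl; exact hw'' hs1
      rcases hsp w'' hw''W h30 h31 with h | h | h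
      · exact hyw h
      · apply hw''; rw [← h]; exact hs2
      · apply hw''
        have : w'' = w' + w := by
          have h3 : w' + w = w + w'' + w := by rw [h]
          have h4 : w + w'' + w = w'' + (w + w) := by abel
          rw [h3, h4, hV, add_zero]
        rw [this]
        exact Submodule.add_mem _ hs2 hs1
    · -- there is `u ∈ P` outside `W0`
      obtain ⟨u, huP, huW⟩ := Set.not_subset.1 hcase
      obtain ⟨v, hvP, hv⟩ : ∃ v ∈ P, polar (⇑Q) u v ≠ 0 := by
        by_contra hcon
        push Not at hcon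
        apply huW
        show u ∈ W0
        rw [← hPP, LinearMap.BilinForm.mem_orthogonal_iff]
        intro v hv
        show polar (⇑Q) v u = 0
        rw [polar_comm]
        exact hcon v hv
      have h3 := hE w hw u huP v
      rw [(mP v).1 hvP w hw, (mP _).1 (hcP y hyt v hvP) w hw] at h3
      simp only [mul_zero, zero_smul, zero_add, add_zero] at h3
      rw [(h01 _).resolve_left hv, one_smul] at h3
      rcases h01 (polar (⇑Q) u (rep Q y v)) with h4 | h4
      · rw [h4, zero_smul] at h3
        exact absurd h3 (hne w hw0)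
      · rw [h3, h4, one_smul]
  refine ⟨hA, fun u hu => ?_, fun x => ?_⟩
  · obtain ⟨v, hv⟩ := exists_polar_ne_zero Q hQ hw₀0
    have hv1 : polar (⇑Q) w₀ v = 1 := (h01 _).resolve_left hv
    have h3 := hE w₀ hw₀W u hu v
    have h4 : polar (⇑Q) w₀ (rep Q y v) = 1 := by
      have h5 := polar_rep Q y w₀ v
      rw [hA w₀ hw₀W] at h5
      rw [h5, hv1]
    rw [hA w₀ hw₀W, h4, hv1, one_smul, one_smul] at h3
    have h5 : rep Q y u + polar (⇑Q) u v • w₀ = u + polar (⇑Q) u (rep Q y v) • w₀ := add_right_cancel h3
    have h6 : rep Q y u - u = (polar (⇑Q) u (rep Q y v) - polar (⇑Q) u v) • w₀ := by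
      rw [sub_smul, sub_eq_sub_iff_add_eq_add, h5]
      abel
    show rep Q y u - u ∈ W0
    rw [h6]
    exact W0.smul_mem _ hw₀W
  · show rep Q y x - x ∈ P
    rw [mP]
    intro w hw
    rw [polar_sub_right, sub_eq_zero]
    nth_rewrite 1 [← hA w hw]
    exact polar_rep Q y w x

/-- `Omega` over the field with two elements in dimension at least six. -/
theorem charTwo_Omega [Fintype F] (hF : Fintype.card F = 2) (hQ : (polarBilin Q).Nondegenerate)
    (hn : 6 ≤ Fintype.card ι) (hs : ∃ u : ι → F, u ≠ 0 ∧ Q u = 0) :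
    IsCharacteristicTwoType (Cfsg.Omega F (⇑Q)) := by
  classical
  have h01 : ∀ c : F, c = 0 ∨ c = 1 := by
    intro c
    by_contra hcon
    push Not at hcon
    have h3 : ({0, 1, c} : Finset F).card = 3 := by
      rw [Finset.card_eq_three]
      exact ⟨0, 1, c, zero_ne_one, hcon.1.symm, hcon.2.symm, rfl⟩
    have := Finset.card_le_univ ({0, 1, c} : Finset F)
    omega
  have h2 : (2 : F) = 0 := by
    have hone : (1 : F) + 1 = 0 := by
      rcases h01 (1 + 1) with h | h
      · exact h
      · exact absurd (add_eq_left.1 h) one_ne_zero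
    rw [← one_add_one_eq_two]; exact hone
  have hV : ∀ x : ι → F, x + x = 0 := fun x => by
    rw [← two_smul F x, h2, zero_smul]
  refine isCharacteristicTwoType ?_ ?_
  · -- an Eichler transformation is an involution
    obtain ⟨u, hu0, hu⟩ := hs
    have huu : polar (⇑Q) u u = 0 := by rw [polar_self', h2, zero_mul]
    -- `w ∈ u^⊥` outside `⟨u⟩`
    obtain ⟨w, hw, hwu⟩ : ∃ w, polar (⇑Q) u w = 0 ∧ w ∉ Submodule.span F {u} := by
      by_contra hcon
      push Not at hcon
      have h3 : finrank F (LinearMap.ker (polarBilin Q u)) ≤ finrank F (Submodule.span F {u}) :=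
        Submodule.finrank_mono fun w hw => hcon w hw
      rw [finrank_span_singleton hu0] at h3
      have h4 := LinearMap.finrank_range_add_finrank_ker (polarBilin Q u)
      have h5 : finrank F (LinearMap.range (polarBilin Q u)) ≤ 1 := by
        have := Submodule.finrank_le (LinearMap.range (polarBilin Q u))
        rwa [finrank_self] at this
      rw [finrank_fintype_fun_eq_card] at h4
      omega
    obtain ⟨E, hEm, hEa⟩ := exists_eichler Q h2 hQ (by omega) u w hu hw
    have hwu' : polar (⇑Q) w u = 0 := by rw [polar_comm]; exact hw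
    have hww : polar (⇑Q) w w = 0 := by rw [polar_self', h2, zero_mul]
    have h1 : E * E = 1 := by
      apply act_ext
      intro x
      rw [act_mul, act_one, hEa x]
      rw [hEa]
      simp only [polar_add_right, polar_smul_right, huu, hwu', hw, hww, smul_zero, add_zero]
      have e : ∀ z : ι → F, x + z + z = x := fun z => by rw [add_assoc, hV, add_zero]
      exact e _
    have hne : E ≠ 1 := by
      intro h
      obtain ⟨v, hv⟩ := exists_polar_ne_zero Q hQ hu0
      have hv1 : polar (⇑Q) u v = 1 := (h01 _).resolve_left hv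
      have h3 := hEa v
      rw [h, act_one, hv1, one_smul, mul_one] at h3
      have h4 : w + polar (⇑Q) w v • u + Q w • u = 0 := by
        have h5 : v + 0 = v + (w + polar (⇑Q) w v • u + Q w • u) := by rw [add_zero]; exact h3
        exact (add_left_cancel h5).symm
      apply hwu
      rw [Submodule.mem_span_singleton]
      refine ⟨-(polar (⇑Q) w v + Q w), ?_⟩
      rw [neg_smul, add_smul, neg_eq_iff_add_eq_zero, ← h4]
      abel
    have h3 : orderOf (⟨E, hEm⟩ : Cfsg.Omega F (⇑Q)) = 2 := by
      refine orderOf_eq_prime ?_ ?_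
      · rw [_root_.sq]; exact Subtype.ext h1
      · intro h; exact hne (congrArg Subtype.val h)
    rw [even_iff_two_dvd, ← h3]
    exact orderOf_dvd_natCard _
  · intro t ht
    refine good_of_sq Q hF hQ hn ?_ ?_
    · rw [← _root_.sq, ← ht]; exact pow_orderOf_eq_one t
    · intro h; rw [h, orderOf_one] at ht; exact absurd ht (by decide)

/-- `PΩ` over the field with two elements in dimension at least six. -/
theorem charTwo_POmega [Fintype F] (hF : Fintype.card F = 2) (hQ : (polarBilin Q).Nondegenerate)
    (hn : 6 ≤ Fintype.card ι) (hs : ∃ u : ι → F, u ≠ 0 ∧ Q u = 0) :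
    IsCharacteristicTwoType (Cfsg.POmega F (⇑Q)) := by
  have h2 : (2 : F) = 0 := by
    have h3 : ((Fintype.card F : ℕ) : F) = 0 := Nat.cast_card_eq_zero F
    rw [hF] at h3
    exact_mod_cast h3
  have hc : Subgroup.center (Cfsg.Omega F (⇑Q)) = ⊥ :=
    Cfsg.Agent.LieClassical.OrthCenter.center_omega_eq_bot_char_two h2 hQ (by omega) hs
  have hinj : Function.Injective (QuotientGroup.mk' (Subgroup.center (Cfsg.Omega F (⇑Q)))) := by
    rw [← MonoidHom.ker_eq_bot_iff, QuotientGroup.ker_mk']
    exact hc
  let e : Cfsg.Omega F (⇑Q) ≃* Cfsg.POmega F (⇑Q) :=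
    MulEquiv.ofBijective (QuotientGroup.mk' _) ⟨hinj, QuotientGroup.mk'_surjective _⟩
  exact Generic.isCharacteristicTwoType_congr e (charTwo_Omega Q hF hQ hn hs)

/-- `PΩ⁺(2m, 2)`, `m ≥ 3`. -/
theorem charTwo_POmegaPlus [Fintype F] (hF : Fintype.card F = 2) {m : ℕ} (hm : 3 ≤ m) :
    IsCharacteristicTwoType (Cfsg.POmega F (Cfsg.quadFormPlus m F)) := by
  classical
  have hQ : (polarBilin (Cfsg.Agent.LieClassical.QuadForms.plusForm m F)).Nondegenerate := by
    have hl := Cfsg.Agent.LieClassical.QuadForms.polar_plusForm_nondeg (F := F) m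
    refine ⟨fun x hx => hl x hx, fun x hx => hl x fun y => ?_⟩
    rw [polar_comm]
    exact hx y
  have h := charTwo_POmega (Cfsg.Agent.LieClassical.QuadForms.plusForm m F) hF hQ (by
    rw [Fintype.card_sum, Fintype.card_fin]; omega) (by
    refine ⟨Pi.single (Sum.inl ⟨0, by omega⟩) 1, ?_, ?_⟩
    · intro h
      have := congrFun h (Sum.inl ⟨0, by omega⟩)
      rw [Pi.single_eq_same] at this
      exact one_ne_zero this
    · rw [Cfsg.Agent.LieClassical.QuadForms.plusForm_apply]
      apply Finset.sum_eq_zero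
      intro i _
      have : (Pi.single (Sum.inl ⟨0, by omega⟩) 1 : Fin m ⊕ Fin m → F) (Sum.inr i) = 0 := by
        rw [Pi.single_eq_of_ne]
        exact Sum.inr_ne_inl
      rw [this, mul_zero])
  rw [Cfsg.Agent.LieClassical.QuadForms.coe_plusForm] at h
  exact h

end Cfsg.Agent.OddHalf.Small.Orth
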