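import Mathlib
import Cfsg.Prelude.Def_Classical
import Cfsg.Agent.OddHalf.Small.Flag
import Cfsg.Agent.OddHalf.Small.Generic
import Cfsg.Agent.ClassicalGeometry.SympBasic
import Cfsg.Agent.ClassicalGeometry.Sp4GraphAut

/-!
# Symplectic groups in characteristic two are of characteristic 2 type
-/

set_option autoImplicit false

namespace Cfsg.Agent.OddHalf.Small.Sp

open Subgroup Cfsg Cfsg.Agent.OddHalf.Small.Crit Cfsg.Agent.OddHalf.Small.Flag
open Cfsg.Agent.ClassicalGeometry.SympBasic
open scoped Matrix

variable {F : Type*} [Field F] {m : ℕ}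

/-- The natural representation. -/
def rep (m : ℕ) (F : Type*) [Field F] :
    Matrix.symplecticGroup (Fin m) F →* AddMonoid.End (Fin m ⊕ Fin m → F) where
  toFun g := (Matrix.mulVecLin (g : Matrix (Fin m ⊕ Fin m) (Fin m ⊕ Fin m) F)).toAddMonoidHom
  map_one' := by
    ext v : 1
    show ((1 : Matrix.symplecticGroup (Fin m) F) : Matrix (Fin m ⊕ Fin m) (Fin m ⊕ Fin m) F) *ᵥ v = v
    rw [Submonoid.coe_one, Matrix.one_mulVec]
  map_mul' a b := by
    ext v : 1
    exact coe_mul_mulVec a b v

theorem rep_apply (g : Matrix.symplecticGroup (Fin m) F) (v : Fin m ⊕ Fin m → F) :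
    rep m F g v = (g : Matrix (Fin m ⊕ Fin m) (Fin m ⊕ Fin m) F) *ᵥ v := rfl

theorem rep_injective : Function.Injective (rep m F) := by
  intro a b h
  apply Subtype.ext
  apply Matrix.mulVec_injective
  funext v
  exact congrArg (fun f : AddMonoid.End (Fin m ⊕ Fin m → F) => f v) h

theorem rep_smul (g : Matrix.symplecticGroup (Fin m) F) (c : F) (v : Fin m ⊕ Fin m → F) :
    rep m F g (c • v) = c • rep m F g v := by
  rw [rep_apply, rep_apply, Matrix.mulVec_smul]

theorem rep_mul (g h : Matrix.symplecticGroup (Fin m) F) (v : Fin m ⊕ Fin m → F) :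
    rep m F (g * h) v = rep m F g (rep m F h v) := by
  rw [map_mul]; rfl

theorem rep_transv (v x : Fin m ⊕ Fin m → F) (c : F) :
    rep m F (transv v c) x = x + (c * sympForm m F x v) • v := by
  rw [rep_apply, coe_transv, sympTransvection_mulVec]

theorem form_rep (g : Matrix.symplecticGroup (Fin m) F) (u v : Fin m ⊕ Fin m → F) :
    sympForm m F (rep m F g u) (rep m F g v) = sympForm m F u v := sympForm_mulVec g.2 u v

section Two

variable [CharP F 2]

theorem add_self_vec (x : Fin m ⊕ Fin m → F) : x + x = 0 := by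
  ext i
  exact CharTwo.add_self_eq_zero (x i)

/-- Every involution of a symplectic group in characteristic two is good. -/
theorem good_of_sq {t : Matrix.symplecticGroup (Fin m) F} (ht : t * t = 1) (ht1 : t ≠ 1) : Good t := by
  have hV : ∀ x : Fin m ⊕ Fin m → F, x + x = 0 := add_self_vec
  have hneg : ∀ x : Fin m ⊕ Fin m → F, -x = x := fun x => neg_eq_of_add_eq_zero_left (hV x)
  have hF : ∀ x : F, x + x = 0 := CharTwo.add_self_eq_zero
  have hFn : ∀ x : F, -x = x := CharTwo.neg_eq
  have hsw : ∀ u v : Fin m ⊕ Fin m → F, sympForm m F u v = sympForm m F v u := fun u v => by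
    rw [sympForm_swap, hFn]
  have htt : ∀ v, rep m F t (rep m F t v) = v := fun v => by
    rw [← rep_mul, ht, map_one]; rfl
  -- the flag
  let D : (Fin m ⊕ Fin m → F) →+ (Fin m ⊕ Fin m → F) :=
    (show (Fin m ⊕ Fin m → F) →+ (Fin m ⊕ Fin m → F) from rep m F t) - AddMonoidHom.id _
  have hD : ∀ v, D v = rep m F t v - v := fun v => rfl
  set W : AddSubgroup (Fin m ⊕ Fin m → F) := D.range with hWd
  set P : AddSubgroup (Fin m ⊕ Fin m → F) := D.ker with hPd
  have mW : ∀ x, x ∈ W ↔ ∃ v, rep m F t v - v = x := fun x => Iff.rfl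
  have mP : ∀ x, x ∈ P ↔ rep m F t x = x := fun x => by
    rw [hPd, AddMonoidHom.mem_ker, hD, sub_eq_zero]
  have hWP : W ≤ P := by
    intro x hx
    obtain ⟨v, rfl⟩ := (mW x).1 hx
    rw [mP, map_sub, htt]
    rw [← hneg (v - rep m F t v), neg_sub]
  -- `P = W^⊥`
  have hperp : ∀ x, x ∈ P ↔ ∀ w ∈ W, sympForm m F x w = 0 := by
    intro x
    constructor
    · intro hx w hw
      obtain ⟨v, rfl⟩ := (mW w).1 hw
      rw [sympForm_sub_right, sub_eq_zero]
      rw [mP] at hx
      nth_rewrite 1 [← hx]
      exact form_rep t x v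
    · intro hx
      rw [mP]
      apply eq_of_forall_sympForm_left
      intro v
      have h1 := hx (rep m F t v - v) ⟨v, rfl⟩
      rw [sympForm_sub_right, sub_eq_zero, hsw, hsw x v] at h1
      rw [← h1]
      have h2 := form_rep t v (rep m F t x)
      rw [htt] at h2
      exact h2.symm
  have hWs : ∀ x ∈ W, ∀ c : F, c • x ∈ W := by
    intro x hx c
    obtain ⟨v, rfl⟩ := (mW x).1 hx
    exact (mW _).2 ⟨c • v, by rw [rep_smul, smul_sub]⟩
  have hPs : ∀ x ∈ P, ∀ c : F, c • x ∈ P := by
    intro x hx c
    rw [mP] at hx ⊢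
    rw [rep_smul, hx]
  obtain ⟨w₀, hw₀, hw₀0⟩ : ∃ w ∈ W, w ≠ 0 := by
    by_contra hcon
    push Not at hcon
    apply ht1
    apply rep_injective
    ext v : 1
    have h1 := hcon _ ((mW _).2 ⟨v, rfl⟩)
    rw [sub_eq_zero] at h1
    rw [h1, map_one]; rfl
  refine good hV (rep m F) rep_injective W P hWP ?_ ?_ ?_
  · intro g hg x hx
    obtain ⟨v, rfl⟩ := (mW x).1 hx
    refine (mW _).2 ⟨rep m F g v, ?_⟩
    rw [map_sub, ← rep_mul, ← rep_mul, hg]
  · intro g hg x hx
    rw [mP] at hx ⊢
    rw [← rep_mul, ← hg, rep_mul, hx]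
  · intro y hyt hy
    -- transvections
    have h1 : ∀ w ∈ W, rep m F y w = w := by
      intro w hw
      by_cases hw0 : w = 0
      · rw [hw0, map_zero]
      have hT : transv w (1 : F) ∈ stab (rep m F) W P hWP := by
        refine ⟨fun x hx => ?_, fun x hx => ?_, fun x => ?_⟩
        · rw [rep_transv, (hperp x).1 (hWP hx) w hw, mul_zero, zero_smul, add_zero]
        · rw [rep_transv, (hperp x).1 hx w hw, mul_zero, zero_smul, add_zero, sub_self]
          exact W.zero_mem
        · rw [rep_transv, add_sub_cancel_left]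
          exact hPs _ (hWP hw) _
      have hc := hy _ hT
      have hv : ∀ v, sympForm m F v w • rep m F y w = sympForm m F (rep m F y v) w • w := by
        intro v
        have h2 := congrArg (fun g => rep m F g v) hc
        simp only [rep_mul, rep_transv, map_add, one_mul] at h2
        have h3 := add_left_cancel h2
        rwa [rep_smul] at h3
      obtain ⟨v, hv1⟩ : ∃ v, sympForm m F v w ≠ 0 := by
        by_contra hcon
        push Not at hcon
        exact hw0 (eq_zero_of_forall_sympForm_left hcon)
      set a := sympForm m F v w with ha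
      set b := sympForm m F (rep m F y v) w with hb
      have h2 : rep m F y w = (a⁻¹ * b) • w := by
        rw [mul_smul, ← hv v, smul_smul, inv_mul_cancel₀ hv1, one_smul]
      have h3 : a = (a⁻¹ * b) * b := by
        have := form_rep y v w
        rw [h2, sympForm_smul_right] at this
        exact this.symm
      have h4 : (a⁻¹ * b) ^ 2 = 1 ^ 2 := by
        have h5 : a * a = b * b := by
          calc a * a = a * ((a⁻¹ * b) * b) := by rw [← h3]
            _ = (a * a⁻¹) * (b * b) := by ring
            _ = b * b := by rw [mul_inv_cancel₀ hv1, one_mul]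
        calc (a⁻¹ * b) ^ 2 = a⁻¹ * a⁻¹ * (b * b) := by ring
          _ = a⁻¹ * a⁻¹ * (a * a) := by rw [h5]
          _ = (a⁻¹ * a) * (a⁻¹ * a) := by ring
          _ = 1 ^ 2 := by rw [inv_mul_cancel₀ hv1]; ring
      have h5 : a⁻¹ * b = 1 := CharTwo.sq_injective h4
      rw [h2, h5, one_smul]
    have h3 : ∀ x, rep m F y x - x ∈ P := by
      intro x
      rw [hperp]
      intro w hw
      rw [sympForm_sub_left, sub_eq_zero]
      nth_rewrite 1 [← h1 w hw]
      exact form_rep y x w
    refine ⟨h1, fun u hu => ?_, h3⟩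
    -- the product of three transvections
    set X := transv (w₀ + u) (1 : F) * transv w₀ (1 : F) * transv u (1 : F) with hX
    have hwu : sympForm m F u w₀ = 0 := (hperp u).1 hu w₀ hw₀
    have hwu' : sympForm m F w₀ u = 0 := by rw [hsw]; exact hwu
    have hXv : ∀ v, rep m F X v = v + (sympForm m F v w₀ • u + sympForm m F v u • w₀) := by
      intro v
      rw [hX, rep_mul, rep_mul, rep_transv, rep_transv, rep_transv]
      simp only [one_mul, sympForm_add_left, sympForm_add_right, sympForm_smul_left, sympForm_self, hwu, hwu',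
        mul_zero, add_zero, zero_add]
      have e : v + sympForm m F v u • u + sympForm m F v w₀ • w₀ +
          (sympForm m F v w₀ + sympForm m F v u) • (w₀ + u) =
          v + (sympForm m F v w₀ • u + sympForm m F v u • w₀) +
            (sympForm m F v u • u + sympForm m F v u • u) +
            (sympForm m F v w₀ • w₀ + sympForm m F v w₀ • w₀) := by
        rw [smul_add, add_smul, add_smul]
        abel
      rw [e, hV, hV, add_zero, add_zero]
    have hXs : X ∈ stab (rep m F) W P hWP := by
      refine ⟨fun x hx => ?_, fun x hx => ?_, fun x => ?_⟩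
      · rw [hXv, (hperp x).1 (hWP hx) w₀ hw₀]
        have h4 : sympForm m F x u = 0 := by
          rw [hsw]; exact (hperp u).1 hu x hx
        rw [h4, zero_smul, zero_smul, add_zero, add_zero]
      · rw [hXv, (hperp x).1 hx w₀ hw₀, zero_smul, zero_add, add_sub_cancel_left]
        exact hWs _ hw₀ _
      · rw [hXv, add_sub_cancel_left]
        exact P.add_mem (hPs _ hu _) (hPs _ (hWP hw₀) _)
    have hc := hy _ hXs
    obtain ⟨v, hv1⟩ : ∃ v, sympForm m F v w₀ ≠ 0 := by
      by_contra hcon
      push Not at hcon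
      exact hw₀0 (eq_zero_of_forall_sympForm_left hcon)
    have h2 := congrArg (fun g => rep m F g v) hc
    simp only [rep_mul, hXv, map_add, rep_smul] at h2
    have h5 := add_left_cancel h2
    rw [h1 w₀ hw₀] at h5
    have h6 : sympForm m F (rep m F y v) w₀ = sympForm m F v w₀ := by
      nth_rewrite 1 [← h1 w₀ hw₀]
      exact form_rep y v w₀
    rw [h6] at h5
    set a := sympForm m F v w₀ with ha
    set b := sympForm m F v u with hb
    set c := sympForm m F (rep m F y v) u with hc'
    have h7 : a • (rep m F y u - u) = (c - b) • w₀ := by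
      rw [smul_sub, sub_smul, sub_eq_sub_iff_add_eq_add, h5]
      abel
    have h8 : rep m F y u - u = (a⁻¹ * (c - b)) • w₀ := by
      rw [mul_smul, ← h7, smul_smul, inv_mul_cancel₀ hv1, one_smul]
    rw [h8]
    exact hWs _ hw₀ _

/-- `Sp(2m, F)`, `F` finite of characteristic two, is of characteristic 2 type. -/
theorem charTwo_symplecticGroup [Finite F] (hm : 1 ≤ m) :
    IsCharacteristicTwoType (Matrix.symplecticGroup (Fin m) F) := by
  have hfin : Finite (Matrix.symplecticGroup (Fin m) F) :=
    Finite.of_injective (fun g => (g : Matrix (Fin m ⊕ Fin m) (Fin m ⊕ Fin m) F)) Subtype.val_injective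
  refine isCharacteristicTwoType ?_ ?_
  · -- a transvection is an involution
    set e : Fin m ⊕ Fin m → F := Pi.single (Sum.inl ⟨0, hm⟩) 1 with he
    have he0 : e ≠ 0 := by
      intro h
      have := congrFun h (Sum.inl ⟨0, hm⟩)
      rw [he, Pi.single_eq_same] at this
      exact one_ne_zero this
    have h1 : transv e (1 : F) * transv e (1 : F) = 1 := by
      apply Subtype.ext
      rw [Submonoid.coe_mul, coe_transv, sympTransvection_mul, CharTwo.add_self_eq_zero, sympTransvection_zero]
      rfl
    have h2 : transv e (1 : F) ≠ 1 := by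
      intro h
      obtain ⟨v, hv1⟩ : ∃ v, sympForm m F v e ≠ 0 := by
        by_contra hcon
        push Not at hcon
        exact he0 (eq_zero_of_forall_sympForm_left hcon)
      have h3 := congrArg (fun g => rep m F g v) h
      simp only [rep_transv, map_one, one_mul] at h3
      have h4 : sympForm m F v e • e = 0 := by
        have h5 : v + sympForm m F v e • e = v + 0 := by rw [h3, add_zero]; rfl
        exact add_left_cancel h5
      rcases smul_eq_zero.1 h4 with h6 | h6
      · exact hv1 h6
      · exact he0 h6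
    have h3 : orderOf (transv e (1 : F)) = 2 := orderOf_eq_prime (by rw [sq]; exact h1) h2
    rw [even_iff_two_dvd, ← h3]
    exact orderOf_dvd_natCard _
  · intro t ht
    refine good_of_sq ?_ ?_
    · rw [← sq, ← ht]; exact pow_orderOf_eq_one t
    · intro h; rw [h, orderOf_one] at ht; exact absurd ht (by decide)

/-- `PSp(2m, F)`, `F` finite of characteristic two, is of characteristic 2 type. -/
theorem charTwo_PSp [Finite F] (hm : 1 ≤ m) : IsCharacteristicTwoType (Cfsg.PSp m F) := by
  have hfin : Finite (Matrix.symplecticGroup (Fin m) F) :=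
    Finite.of_injective (fun g => (g : Matrix (Fin m ⊕ Fin m) (Fin m ⊕ Fin m) F)) Subtype.val_injective
  have hinj : Function.Injective (QuotientGroup.mk' (Subgroup.center (Matrix.symplecticGroup (Fin m) F))) := by
    intro a b h
    exact Cfsg.Agent.ClassicalGeometry.Sp4GraphAut.mk_injective hm h
  let e : Matrix.symplecticGroup (Fin m) F ≃* Cfsg.PSp m F :=
    MulEquiv.ofBijective (QuotientGroup.mk' _) ⟨hinj, QuotientGroup.mk'_surjective _⟩
  exact Generic.isCharacteristicTwoType_congr e (charTwo_symplecticGroup hm)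

end Two

end Cfsg.Agent.OddHalf.Small.Sp
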