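import Mathlib
import Cfsg.Prelude.Def_Classification2
import Cfsg.Prelude.Def_LieTypeChar
import Cfsg.Prelude.Def_CaseTheorems
import Cfsg.Agent.GH.AltOut
import Cfsg.Agent.OddHalf.Small.Excl
import Cfsg.Agent.OddHalf.Small.Alt
import Cfsg.Agent.OddHalf.Small.L34
import Cfsg.Agent.OddHalf.Small.M11
import Cfsg.Agent.OddHalf.Small.Sp
import Cfsg.Agent.OddHalf.Small.Orth
import Cfsg.Agent.S0282

/-!
# From the conclusions of S1309, S1310, S1311, S1728 and from the list `K4` to the conclusion of S1765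
-/

set_option autoImplicit false

namespace Cfsg.Agent.OddHalf.Small.Plug

open Subgroup Cfsg
open Cfsg.Agent.GH.Defs Cfsg.Agent.OddHalf.Small.Excl

universe u

/-- Further groups of characteristic 2 type. -/
structure RowsTwo : Prop where
  u3 : ∀ (G : Type u) [Group G] [Finite G] (F : Type) [Field F] [Fintype F] (n : ℕ), 2 ≤ n →
    Fintype.card F = (2 ^ n) ^ 2 → Nonempty (G ≃* PSU 3 F (2 ^ n)) → IsCharacteristicTwoType G
  sz : ∀ (G : Type u) [Group G] [Finite G], Lie.IsoSuzuki G → IsCharacteristicTwoType G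
  m22 : ∀ (G : Type u) [Group G] [Finite G], Spor.IsoM22 G → IsCharacteristicTwoType G
  m23 : ∀ (G : Type u) [Group G] [Finite G], Spor.IsoM23 G → IsCharacteristicTwoType G
  j3 : ∀ (G : Type u) [Group G] [Finite G], Spor.IsoJ3 G → IsCharacteristicTwoType G

/-- Lie type in odd characteristic. -/
def LieOdd (X : Type*) [Group X] : Prop := ∃ p : ℕ, p.Prime ∧ p ≠ 2 ∧ IsLieTypeChar p X

/-! ### Lie type in odd characteristic -/

theorem exists_char (F : Type) [Field F] [Fintype F] (hF : Odd (Fintype.card F)) :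
    ∃ p : ℕ, p.Prime ∧ p ≠ 2 ∧ CharP F p := by
  obtain ⟨p, hp⟩ := CharP.exists F
  have hpr : p.Prime := CharP.char_is_prime F p
  refine ⟨p, hpr, ?_, hp⟩
  rintro rfl
  obtain ⟨n, -, hn⟩ := FiniteField.card F 2
  rw [hn] at hF
  exact (Nat.not_odd_iff_even.2 (Nat.even_pow.2 ⟨even_two, n.ne_zero⟩)) hF

theorem one_lt (F : Type) [Field F] [Fintype F] : 1 < Fintype.card F := Fintype.one_lt_card

section Lie

variable {G : Type*} [Group G]

theorem lieOdd_psl (F : Type) [Field F] [Fintype F] (hF : Odd (Fintype.card F)) {n : ℕ} (hn : 2 ≤ n)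
    (h2 : n = 2 → 4 ≤ Fintype.card F)
    (e : Nonempty (G ≃* Matrix.ProjectiveSpecialLinearGroup (Fin n) F)) : LieOdd G := by
  obtain ⟨p, hp, hp2, hc⟩ := exists_char F hF
  exact ⟨p, hp, hp2, Or.inl ⟨F, _, _, hc, n, hn, h2, e⟩⟩

theorem lieOdd_psp (F : Type) [Field F] [Fintype F] (hF : Odd (Fintype.card F)) {m : ℕ} (hm : 2 ≤ m)
    (e : Nonempty (G ≃* PSp m F)) : LieOdd G := by
  obtain ⟨p, hp, hp2, hc⟩ := exists_char F hF
  have h3 : 3 ≤ Fintype.card F := by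
    have := one_lt F
    obtain ⟨k, hk⟩ := hF
    omega
  exact ⟨p, hp, hp2, Or.inr (Or.inl ⟨F, _, _, hc, m, hm, fun _ => h3, e⟩)⟩

theorem odd_card_of_sq {F : Type} [Field F] [Fintype F] {q k : ℕ} (h : Fintype.card F = q ^ k) (hq : Odd q) :
    Odd (Fintype.card F) := by
  rw [h]; exact hq.pow

theorem lieOdd_psu (F : Type) [Field F] [Fintype F] {n q : ℕ} (hF : Fintype.card F = q ^ 2) (hq : Odd q)
    (hn : 3 ≤ n) (e : Nonempty (G ≃* PSU n F q)) : LieOdd G := by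
  obtain ⟨p, hp, hp2, hc⟩ := exists_char F (odd_card_of_sq hF hq)
  have h3 : ¬ (n = 3 ∧ q = 2) := by
    rintro ⟨-, rfl⟩
    exact absurd hq (by decide)
  exact ⟨p, hp, hp2, Or.inr (Or.inr (Or.inl ⟨F, _, _, hc, n, q, hF, hn, h3, e⟩))⟩

theorem lieOdd_g2 (F : Type) [Field F] [Fintype F] (hF : Odd (Fintype.card F))
    (e : Nonempty (G ≃* ↥(Lie.chevG2.group F))) : LieOdd G := by
  obtain ⟨p, hp, hp2, hc⟩ := exists_char F hF
  refine ⟨p, hp, hp2, ?_⟩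
  have h3 : 3 ≤ Fintype.card F := by
    have := one_lt F
    obtain ⟨k, hk⟩ := hF
    omega
  iterate 6 right
  left
  exact ⟨F, _, _, hc, Or.inl ⟨h3, e⟩⟩

theorem lieOdd_d4 (K : Type) [Field K] [Fintype K] {q : ℕ} (hq : Odd q) (hK : Fintype.card K = q ^ 3)
    (e : Nonempty (G ≃* ↥(Lie.twistedD4 K q))) : LieOdd G := by
  obtain ⟨p, hp, hp2, hc⟩ := exists_char K (odd_card_of_sq hK hq)
  refine ⟨p, hp, hp2, ?_⟩
  iterate 7 right
  left
  suffices hpp : IsPrimePow q from ⟨K, _, _, hc, q, hpp, Or.inr ⟨hK, e⟩⟩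
  -- `q` is a prime power
  have hf : Fact p.Prime := ⟨hp⟩
  obtain ⟨n, -, hn⟩ := FiniteField.card K p
  rw [hK] at hn
  have h1 : q ∣ p ^ (n : ℕ) := hn ▸ dvd_pow_self q (by norm_num)
  obtain ⟨k, hk, hk'⟩ := (Nat.dvd_prime_pow hp).1 h1
  rw [isPrimePow_nat_iff]
  refine ⟨p, k, hp, ?_, hk'.symm⟩
  rcases Nat.eq_zero_or_pos k with rfl | h
  · exfalso
    rw [pow_zero] at hk'
    rw [hk', one_pow] at hK
    have := one_lt K
    omega
  · exact h

theorem lieOdd_ree (h : Lie.IsoRee G) : LieOdd G := by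
  refine ⟨3, Nat.prime_three, by norm_num, ?_⟩
  iterate 10 right
  exact ⟨rfl, h⟩

theorem isLieTypeChar_congr {H : Type*} [Group H] {p : ℕ} (e : G ≃* H) (h : IsLieTypeChar p G) :
    IsLieTypeChar p H := by
  rcases h with ⟨F, i, j, w, n, h1, h2, ⟨f⟩⟩ | ⟨F, i, j, w, n, h1, h2, ⟨f⟩⟩ | ⟨F, i, j, w, n, q, h1, h2, h3, ⟨f⟩⟩ |
    ⟨F, i, j, w, n, h1, h2, ⟨f⟩⟩ | ⟨F, i, j, w, n, h1, ⟨f⟩⟩ | ⟨F, i, j, w, n, a, b, h1, h2, ⟨f⟩⟩ |
    ⟨F, i, j, w, h⟩ | ⟨F, i, j, w, q, h1, h⟩ | ⟨h1, F, i, j, m, h2, h3, ⟨f⟩⟩ | ⟨h1, F, i, j, m, h2, h3, ⟨f⟩⟩ |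
    ⟨h1, F, i, j, m, h2, h3, ⟨f⟩⟩
  · exact Or.inl ⟨F, i, j, w, n, h1, h2, ⟨e.symm.trans f⟩⟩
  · exact Or.inr (Or.inl ⟨F, i, j, w, n, h1, h2, ⟨e.symm.trans f⟩⟩)
  · exact Or.inr (Or.inr (Or.inl ⟨F, i, j, w, n, q, h1, h2, h3, ⟨e.symm.trans f⟩⟩))
  · exact Or.inr (Or.inr (Or.inr (Or.inl ⟨F, i, j, w, n, h1, h2, ⟨e.symm.trans f⟩⟩)))
  · exact Or.inr (Or.inr (Or.inr (Or.inr (Or.inl ⟨F, i, j, w, n, h1, ⟨e.symm.trans f⟩⟩))))
  · exact Or.inr (Or.inr (Or.inr (Or.inr (Or.inr (Or.inl ⟨F, i, j, w, n, a, b, h1, h2, ⟨e.symm.trans f⟩⟩)))))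
  · iterate 6 right
    left
    refine ⟨F, i, j, w, ?_⟩
    rcases h with ⟨h1, ⟨f⟩⟩ | ⟨⟨f⟩⟩ | ⟨⟨f⟩⟩ | ⟨⟨f⟩⟩ | ⟨⟨f⟩⟩
    · exact Or.inl ⟨h1, ⟨e.symm.trans f⟩⟩
    · exact Or.inr (Or.inl ⟨e.symm.trans f⟩)
    · exact Or.inr (Or.inr (Or.inl ⟨e.symm.trans f⟩))
    · exact Or.inr (Or.inr (Or.inr (Or.inl ⟨e.symm.trans f⟩)))
    · exact Or.inr (Or.inr (Or.inr (Or.inr ⟨e.symm.trans f⟩)))
  · iterate 7 right
    left
    refine ⟨F, i, j, w, q, h1, ?_⟩
    rcases h with ⟨h2, ⟨f⟩⟩ | ⟨h2, ⟨f⟩⟩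
    · exact Or.inl ⟨h2, ⟨e.symm.trans f⟩⟩
    · exact Or.inr ⟨h2, ⟨e.symm.trans f⟩⟩
  · iterate 8 right
    left
    exact ⟨h1, F, i, j, m, h2, h3, ⟨e.symm.trans f⟩⟩
  · iterate 9 right
    left
    exact ⟨h1, F, i, j, m, h2, h3, ⟨e.symm.trans f⟩⟩
  · iterate 10 right
    exact ⟨h1, F, i, j, m, h2, h3, ⟨e.symm.trans f⟩⟩

end Lie

/-! ### the groups of the conclusion of S1765 -/

section concl

variable {G : Type u} [Group G]

theorem concl_alt {n : ℕ} (hn : n = 7 ∨ 9 ≤ n) (e : Nonempty (G ≃* ↥(alternatingGroup (Fin n)))) : Concl G :=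
  Or.inr (Or.inl ⟨n, hn, e⟩)

theorem concl_m12 (h : Spor.IsoM12 G) : Concl G := Or.inr (Or.inr (Or.inl h))

theorem concl_j1 (h : Spor.IsoJ1 G) : Concl G := Or.inr (Or.inr (Or.inr (Or.inl h)))

theorem concl_j2 (h : Spor.IsoJ2 G) : Concl G := Or.inr (Or.inr (Or.inr (Or.inr (Or.inl h))))

theorem concl_mcl (h : Spor.IsoMcL G) : Concl G := Or.inr (Or.inr (Or.inr (Or.inr (Or.inr (Or.inl h)))))

theorem concl_ly (h : Spor.IsoLy G) : Concl G := by
  unfold Concl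
  iterate 6 right
  exact Or.inl h

theorem concl_he (h : Spor.IsoHe G) : Concl G := by
  unfold Concl
  iterate 8 right
  exact Or.inl h

end concl

section main

variable {G : Type u} [Group G] [Finite G]

/-- A group of Lie type in odd characteristic. -/
theorem concl_of_lieOdd (R : Rows) (h2 : ¬ IsCharacteristicTwoType G) (h : LieOdd G) : Concl G :=
  concl_of_lie R h2 h

omit [Finite G] in
/-- A finite simple group is not `PSU(3,2)`. -/
theorem psu_three_two_ne [IsSimpleGroup G] (hna : ¬ IsMulCommutative G) {F : Type} [Field F] [Fintype F]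
    (hF : Fintype.card F = 4) (e : G ≃* PSU 3 F 2) : False := by
  have h1 := (S0282.result hF).2
  have h2 : Group.IsSolvable G :=
    Group.isSolvable_of_isSolvable_injective (f := e.toMonoidHom) e.injective
  apply hna
  exact ⟨⟨fun a b => (IsSimpleGroup.comm_iff_isSolvable.2 h2 a b)⟩⟩

/-- **S1728**. -/
theorem of_core (R : Rows) (T : RowsTwo.{u}) [IsSimpleGroup G] (hna : ¬ IsMulCommutative G)
    (h2 : ¬ IsCharacteristicTwoType G)
    (h : (∃ (F : Type) (_ : Field F) (_ : Fintype F), 3 ≤ Fintype.card F ∧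
        Nonempty (G ≃* Matrix.ProjectiveSpecialLinearGroup (Fin 2) F)) ∨
      Cfsg.Lie.IsoSuzuki G ∨
      (∃ (F : Type) (_ : Field F) (_ : Fintype F) (n : ℕ), 1 ≤ n ∧ Fintype.card F = (2 ^ n) ^ 2 ∧
        Nonempty (G ≃* Cfsg.PSU 3 F (2 ^ n))) ∨
      Cfsg.Spor.IsoM11 G ∨ Cfsg.Spor.IsoJ1 G) : Concl G := by
  rcases h with ⟨F, _, _, hF, ⟨e⟩⟩ | h | ⟨F, _, _, n, hn, hF, ⟨e⟩⟩ | h | h
  · rcases Nat.even_or_odd (Fintype.card F) with he | ho
    · exact absurd (L2.psl2_even he e) h2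
    · rcases Nat.lt_or_ge (Fintype.card F) 4 with h4 | h4
      · refine absurd (L2.psl2 (Or.inl ⟨?_, Or.inl ⟨2, ?_⟩⟩) e) h2
        · have h3 : Fintype.card F = 3 := by omega
          rw [h3]; exact Nat.prime_three
        · omega
      · exact concl_of_lieOdd R h2 (lieOdd_psl F ho le_rfl (fun _ => h4) ⟨e⟩)
  · exact absurd (T.sz G h) h2
  · rcases Nat.lt_or_ge n 2 with h1 | h1
    · obtain rfl : n = 1 := by omega
      exact (psu_three_two_ne hna hF e).elim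
    · exact absurd (T.u3 G F n h1 hF ⟨e⟩) h2
  · exact absurd (M11.charTwo_of_iso h) h2
  · exact concl_j1 h

/-- The list of S1310. -/
theorem of_classical (R : Rows) (h2 : ¬ IsCharacteristicTwoType G)
    (h : (∃ p : ℕ, p.Prime ∧ p ≠ 2 ∧ Cfsg.IsLieTypeChar p G) ∨ Cfsg.Spor.IsoM11 G) : Concl G := by
  rcases h with h | h
  · exact concl_of_lie R h2 h
  · exact absurd (M11.charTwo_of_iso h) h2

/-- The list of S1309. -/
theorem of_quat (R : Rows) (h2 : ¬ IsCharacteristicTwoType G)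
    (h : (∃ p : ℕ, p.Prime ∧ p ≠ 2 ∧ Cfsg.IsLieTypeChar p G) ∨ Cfsg.Spor.IsoM11 G ∨ Cfsg.Spor.IsoM12 G ∨
      (∃ (F : Type) (_ : Field F) (_ : Fintype F), Fintype.card F = 2 ∧ (Nonempty (G ≃* Cfsg.PSp 3 F) ∨
        Nonempty (G ≃* Cfsg.POmega F (Cfsg.quadFormPlus 4 F))))) : Concl G := by
  rcases h with h | h | h | ⟨F, _, _, hF, (⟨⟨e⟩⟩ | ⟨⟨e⟩⟩)⟩
  · exact concl_of_lie R h2 h
  · exact absurd (M11.charTwo_of_iso h) h2
  · exact concl_m12 h
  · have : CharP F 2 := by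
      refine CharTwo.of_one_ne_zero_of_two_eq_zero one_ne_zero ?_
      have h3 : ((Fintype.card F : ℕ) : F) = 0 := Nat.cast_card_eq_zero F
      rw [hF] at h3
      exact_mod_cast h3
    exact absurd (Generic.isCharacteristicTwoType_congr e.symm (Sp.charTwo_PSp (by norm_num))) h2
  · exact absurd (Generic.isCharacteristicTwoType_congr e.symm (Orth.charTwo_POmegaPlus hF (by norm_num))) h2

/-- The list of S1311. -/
theorem of_unbalanced (R : Rows) (h2 : ¬ IsCharacteristicTwoType G)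
    (h : (∃ p : ℕ, p.Prime ∧ p ≠ 2 ∧ Cfsg.IsLieTypeChar p G) ∨
      (∃ n : ℕ, Odd n ∧ 7 ≤ n ∧ Nonempty (G ≃* ↥(alternatingGroup (Fin n)))) ∨
      (∃ (F : Type) (_ : Field F) (_ : Fintype F), Fintype.card F = 4 ∧
        Nonempty (G ≃* Matrix.ProjectiveSpecialLinearGroup (Fin 3) F)) ∨ Cfsg.Spor.IsoHe G) : Concl G := by
  rcases h with h | ⟨n, hn, hn7, e⟩ | ⟨F, _, _, hF, ⟨e⟩⟩ | h
  · exact concl_of_lie R h2 h
  · refine concl_alt ?_ e
    obtain ⟨k, rfl⟩ := hn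
    omega
  · exact absurd (L34.charTwo hF e) h2
  · exact concl_he h

/-- The list `K2` of the simple groups of 2-rank at most 2. -/
theorem of_k2 (R : Rows) (T : RowsTwo.{u}) (h2 : ¬ IsCharacteristicTwoType G) (h : K2 G) : Concl G := by
  rcases h with ⟨F, _, _, hF, h5, e⟩ | ⟨F, _, _, hF, e⟩ | ⟨F, _, _, q, hF, hq, e⟩ | ⟨F, _, _, hF, e⟩ | h | h
  · exact concl_of_lieOdd R h2 (lieOdd_psl F hF le_rfl (fun _ => by omega) e)
  · exact concl_of_lieOdd R h2 (lieOdd_psl F hF (by norm_num) (fun h => absurd h (by norm_num)) e)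
  · exact concl_of_lieOdd R h2 (lieOdd_psu F hF hq le_rfl e)
  · exact absurd (T.u3 G F 2 le_rfl (by rw [hF]; norm_num) e) h2
  · exact concl_alt (Or.inl rfl) h
  · exact absurd (M11.charTwo_of_iso h) h2

/-- **The list `K4` of the simple groups of sectional 2-rank at most 4.** -/
theorem of_k4 (R : Rows) (T : RowsTwo.{u}) [IsSimpleGroup G] (hna : ¬ IsMulCommutative G) (hO : oddCore G = ⊥)
    (h1738 : Cfsg.Agent.GH.AltOut.St1738 G) (h2 : ¬ IsCharacteristicTwoType G) (h : K4 G) : Concl G := by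
  rcases h with h | h | ⟨F, _, _, hF, ⟨e⟩⟩ | ⟨F, _, _, hF, ⟨e⟩⟩ | ⟨n, hn8, hn11, e⟩ | ⟨F, _, _, hF, e⟩ |
    ⟨F, _, _, hF, -, e⟩ | ⟨F, _, _, q, hF, hq, -, e⟩ | ⟨F, _, _, hF, e⟩ | ⟨F, _, _, q, hF, hq, e⟩ |
    ⟨⟨F, _, _, hF, e⟩, -⟩ | ⟨⟨K, _, _, q, hq, hK, e⟩, -⟩ | h | h | h | h | h | h
  · exact of_k2 R T h2 h
  · rcases h with ⟨F, _, _, hF, ⟨e⟩⟩ | ⟨F, _, _, hF, e⟩ | h | h
    · exact absurd (L2.psl2_even (by rw [hF]; decide) e) h2
    · exact absurd (T.sz G ⟨F, _, _, 1, le_rfl, by rw [hF]; norm_num, e⟩) h2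
    · exact concl_of_lieOdd R h2 (lieOdd_ree h)
    · exact concl_j1 h
  · exact absurd (L2.psl2_even (by rw [hF]; decide) e) h2
  · exact absurd (L34.charTwo hF e) h2
  · rcases Nat.eq_or_lt_of_le hn8 with rfl | h9
    · exact absurd (Alt.result (Or.inr (Or.inr rfl)) e) h2
    · exact concl_alt (Or.inr h9) e
  · exact concl_of_lieOdd R h2 (lieOdd_psp F hF le_rfl e)
  · exact concl_of_lieOdd R h2 (lieOdd_psl F hF (by norm_num) (fun h => absurd h (by norm_num)) e)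
  · exact concl_of_lieOdd R h2 (lieOdd_psu F hF hq (by norm_num) e)
  · exact concl_of_lieOdd R h2 (lieOdd_psl F (by rw [Nat.odd_iff]; omega) (by norm_num)
      (fun h => absurd h (by norm_num)) e)
  · exact concl_of_lieOdd R h2 (lieOdd_psu F hF (by rw [Nat.odd_iff]; omega) (by norm_num) e)
  · exact concl_of_lieOdd R h2 (lieOdd_g2 F hF e)
  · exact concl_of_lieOdd R h2 (lieOdd_d4 K hq hK e)
  · exact concl_m12 h
  · exact absurd (T.m22 G h) h2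
  · exact absurd (T.m23 G h) h2
  · exact concl_j2 h
  · exact absurd (T.j3 G h) h2
  · rcases Cfsg.Agent.GH.AltOut.mcl_or_ly hna hO h1738 h with h | h
    · exact concl_mcl h
    · exact concl_ly h

end main

end Cfsg.Agent.OddHalf.Small.Plug
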