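import Cfsg.Agent.OddHalf.Small.Crit
import Cfsg.Agent.SuzukiRankOne.SzModel
import Cfsg.Agent.SuzukiRankOne.PSUModel
import Cfsg.Agent.LieRecognition.RankOneBasic

/-!
# Rank-one groups over fields of characteristic 2 are of characteristic 2 type

`charTwo_of_setup`: a faithful rank-one set-up in which `Q` is a 2-group. `sz`, `u3`: the Suzuki groups and `PSU₃(2^n)`.
-/

set_option autoImplicit false

namespace Cfsg.Agent.OddHalf.Small.RankOne

open Subgroup Cfsg MulAction
open Cfsg.Agent.LieRecognition.RankOneBasic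

theorem good_of_setup {G Ω : Type*} [Group G] [Finite G] [MulAction G Ω] [FaithfulSMul G Ω] {a : Ω} {w : G}
    {Q : Subgroup G} (hS : IsRankOneSetup G Ω a w Q) (hQ : IsPGroup 2 Q) {t : G} (ht : orderOf t = 2) :
    Crit.Good t := by
  have ht1 : t ≠ 1 := by
    rintro rfl
    rw [orderOf_one] at ht
    omega
  have ht2 : t * t = 1 := by rw [← pow_two, ← ht, pow_orderOf_eq_one]
  obtain ⟨c, hc⟩ := exists_fixed hS ht2
  obtain ⟨g, hg⟩ := exists_smul_eq' hS c a
  -- the conjugate in `Q`
  set s := g * t * g⁻¹ with hs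
  have hs1 : s ≠ 1 := by
    intro h
    apply ht1
    have : t = g⁻¹ * s * g := by rw [hs]; group
    rw [this, h]; group
  have hs2 : s * s = 1 := by
    have : s * s = g * (t * t) * g⁻¹ := by rw [hs]; group
    rw [this, ht2]; group
  have hsa : s • a = a := by
    rw [hs, ← hg, mul_smul, mul_smul, inv_smul_smul, hc]
  have hgood : Crit.Good s := by
    have hfix : ∀ y, y * s = s * y → y • a = a := by
      intro y hy
      refine fixed_unique hS hs1 hs2 (b := y • a) (c := a) ?_ hsa
      rw [← mul_smul, ← hy, mul_smul, hsa]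
    refine ⟨Q, hQ, ?_, ?_⟩
    · intro y hy x hx
      exact hS.conj_mem y (mem_stabilizer_iff.2 (hfix y hy)) x hx
    · intro y hy hyQ ho
      have hya := hfix y hy
      obtain ⟨q, hq, hqy⟩ := exists_smul_t_smul hS
        (smul_ne_of_mem (mem_stabilizer_iff.2 hya) (t_smul_ne hS))
      -- `y ^ k (w a) = q ^ k (w a)`
      have hk : ∀ k : ℕ, y ^ k • (w • a) = q ^ k • (w • a) := by
        intro k
        induction k with
        | zero => simp
        | succ k ih =>
          have h1 : y * q ^ k = q ^ k * y := by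
            have : Commute y q := hyQ q hq
            exact (this.pow_right k).eq
          rw [pow_succ', mul_smul, ih, ← mul_smul, h1, mul_smul, ← hqy, ← mul_smul, ← pow_succ]
      have h2 : q ^ (orderOf y) = 1 := by
        apply eq_one_of_smul_t_smul hS (pow_mem hq _)
        rw [← hk, pow_orderOf_eq_one, one_smul]
      have hq1 : q = 1 := by
        obtain ⟨k, hk⟩ := hQ ⟨q, hq⟩
        have hk' : q ^ 2 ^ k = 1 := congrArg Subtype.val hk
        have h3 : orderOf q ∣ 2 ^ k := orderOf_dvd_of_pow_eq_one hk'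
        have h4 : orderOf q ∣ orderOf y := orderOf_dvd_of_pow_eq_one h2
        have h5 : Nat.Coprime (orderOf y) (2 ^ k) := (Nat.coprime_two_right.mpr ho).pow_right k
        have h6 : orderOf q = 1 := Nat.eq_one_of_dvd_coprimes h5 h4 h3
        exact orderOf_eq_one_iff.mp h6
      rw [hq1, one_smul] at hqy
      apply FaithfulSMul.eq_of_smul_eq_smul (α := Ω)
      intro b
      rw [one_smul]
      by_cases hb : b = a
      · rw [hb, hya]
      · obtain ⟨x, hx, rfl⟩ := exists_smul_t_smul hS hb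
        rw [← mul_smul, hyQ x hx, mul_smul, ← hqy]
  have h := Crit.good_conj hgood g⁻¹
  have : g⁻¹ * s * g⁻¹⁻¹ = t := by rw [hs]; group
  rwa [this] at h

theorem charTwo_of_setup {G X Ω : Type*} [Group G] [Finite G] [Group X] [Finite X] [MulAction X Ω]
    [FaithfulSMul X Ω] {a : Ω} {w : X} {Q : Subgroup X} (hS : IsRankOneSetup X Ω a w Q) (hQ : IsPGroup 2 Q)
    (e : X ≃* G) : IsCharacteristicTwoType G :=
  Crit.isCharacteristicTwoType_of_equiv e
    (even_iff_two_dvd.mpr (dvd_trans (even_iff_two_dvd.mp hS.even_card) (Subgroup.card_subgroup_dvd_card Q)))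
    fun _ ht => good_of_setup hS hQ ht

theorem u3 {G : Type*} [Group G] [Finite G] (F : Type) [Field F] [Fintype F] (n : ℕ) (hn : 1 ≤ n)
    (hF : Fintype.card F = (2 ^ n) ^ 2) (h : Nonempty (G ≃* PSU 3 F (2 ^ n))) : IsCharacteristicTwoType G := by
  obtain ⟨e⟩ := h
  have : Fact (Nat.Prime 2) := ⟨Nat.prime_two⟩
  have hfin : Finite (PSU 3 F (2 ^ n)) := Finite.of_equiv _ e.toEquiv
  have hF' : Fintype.card F = 2 ^ (n * 2) := by rw [hF, pow_mul]
  have hch : CharP F 2 := charP_of_card_eq_prime_pow hF'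
  have hσ : Fact (∀ x, iterateFrobenius F 2 n (iterateFrobenius F 2 n x) = x) := by
    refine ⟨fun x => ?_⟩
    rw [iterateFrobenius_def, iterateFrobenius_def, ← pow_mul, ← pow_two, ← hF, FiniteField.pow_card]
  have hF2 : Nat.card F = (2 ^ n) ^ 2 := by rw [Nat.card_eq_fintype_card, hF]
  obtain ⟨H, S, w, ψ, hfaith, hsetup, -, -⟩ :=
    Cfsg.Agent.SuzukiRankOne.PSUModel.exists_model (σ := iterateFrobenius F 2 n) hn
      (fun x => iterateFrobenius_def 2 n x) hF2
  have hS : IsPGroup 2 S := by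
    refine IsPGroup.of_card (n := n * 3) ?_
    rw [← Nat.card_congr ψ.toEquiv, Cfsg.Agent.LieRecognition.HermHeis.card_heis
      (Nat.one_lt_two_pow (by omega)) (fun x => iterateFrobenius_def 2 n x) hF2, ← pow_mul]
  exact charTwo_of_setup hsetup hS e.symm

theorem sz {G : Type*} [Group G] [Finite G] (h : Lie.IsoSuzuki G) : IsCharacteristicTwoType G := by
  obtain ⟨F, iF, iFin, m, hm, hF, ⟨e⟩⟩ := h
  have hfin : Finite ↥(Lie.Sz F (2 ^ (m + 1))) := Finite.of_equiv _ e.toEquiv
  have H := Cfsg.Agent.LieRecognition.SzMatrix.good hF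
  have hfaith := Cfsg.Agent.SuzukiRankOne.SzModel.faithful H
  have hS : IsPGroup 2 H.unip := by
    refine IsPGroup.of_card (n := (2 * m + 1) * 2) ?_
    rw [H.card_unip, Nat.card_eq_fintype_card, hF, ← pow_mul]
  exact charTwo_of_setup (Cfsg.Agent.SuzukiRankOne.SzModel.setup H) hS e.symm

end Cfsg.Agent.OddHalf.Small.RankOne
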