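import Mathlib
import Cfsg.Prelude.Def_CaseTheorems
import Cfsg.Agent.OddHalf.Small.Transport
import Cfsg.Agent.OddHalf.Small.GLTwoThree
import Cfsg.Agent.TwoFusion.PSL3Inv
import Cfsg.Agent.LieClassical.FieldTransfer

/-!
# `L₃(3)` is of characteristic 2 type

Involution centralizers are isomorphic to `GL₂(3)`.
-/

set_option autoImplicit false

namespace Cfsg.Agent.OddHalf.Small.L33

open Subgroup Cfsg Crit Cfsg.Agent.TwoFusion.PSL3Inv

theorem phi_injective (P : Matrix.SpecialLinearGroup (Fin 3) (ZMod 3)) :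
    Function.Injective (phi P) := by
  rw [← MonoidHom.ker_eq_bot_iff]
  have h := card_ker_phi P
  rw [ZMod.card] at h
  exact Subgroup.card_eq_one.1 (by rw [h]; decide)

theorem two_ne : (2 : ZMod 3) ≠ 0 := by decide

theorem good (t : Matrix.ProjectiveSpecialLinearGroup (Fin 3) (ZMod 3)) (ht : orderOf t = 2) :
    Good t := by
  obtain ⟨T, P, rfl, hTT, -, hTP⟩ := exists_conj_mk two_ne t ht
  have hr := range_phi two_ne hTT hTP
  refine GLTwoThree.good_of_hom (phi P) (phi_injective P) ?_ GLTwoThree.Q8 GLTwoThree.normal_Q8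
    GLTwoThree.isPGroup_Q8 GLTwoThree.eq_one_of_comm
  intro y hy
  have h1 : y ∈ (phi P).range := by
    rw [hr]
    exact mem_centralizer_singleton_iff.mpr hy
  exact h1

theorem two_dvd : 2 ∣ Nat.card (Matrix.ProjectiveSpecialLinearGroup (Fin 3) (ZMod 3)) := by
  have h1 : orderOf (phi 1 GLTwoThree.iM) = 4 := by
    rw [orderOf_injective _ (phi_injective 1)]
    refine orderOf_eq_prime_pow (p := 2) (n := 1) ?_ ?_
    · intro h
      have := congrArg Units.val h
      revert this
      decide
    · exact Units.ext (by decide)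
  have h2 := orderOf_dvd_natCard (phi 1 GLTwoThree.iM)
  rw [h1] at h2
  exact (by norm_num : 2 ∣ 4).trans h2

theorem charTwo_zmod :
    IsCharacteristicTwoType (Matrix.ProjectiveSpecialLinearGroup (Fin 3) (ZMod 3)) :=
  isCharacteristicTwoType (even_iff_two_dvd.mpr two_dvd) good

/-- **`PSL₃(3)` is of characteristic 2 type.** -/
theorem charTwo_L33 (F : Type*) [Field F] [Fintype F] (hF : Fintype.card F = 3) :
    IsCharacteristicTwoType (Matrix.ProjectiveSpecialLinearGroup (Fin 3) F) := by
  have hcard : Fintype.card (ZMod 3) = Fintype.card F := by rw [hF, ZMod.card]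
  let e : ZMod 3 ≃+* F := FiniteField.ringEquivOfCardEq hcard
  exact Transport.isCharacteristicTwoType (LieClassical.FieldTransfer.pslCongr e) charTwo_zmod

theorem charTwo {G : Type*} [Group G] {F : Type*} [Field F] [Fintype F]
    (hF : Fintype.card F = 3) (e : G ≃* Matrix.ProjectiveSpecialLinearGroup (Fin 3) F) :
    IsCharacteristicTwoType G :=
  Transport.isCharacteristicTwoType e.symm (charTwo_L33 F hF)

end Cfsg.Agent.OddHalf.Small.L33
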