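import Cfsg.Agent.OddHalf.Small.U43Good

/-!
# `PSU₄(3)` is of characteristic 2 type
-/

set_option autoImplicit false

namespace Cfsg.Agent.OddHalf.Small.U43

open Matrix Cfsg Module Cfsg.Agent.OddHalf.Small.U43Mat Cfsg.Agent.OddHalf.Small.U43Good
open Cfsg.Agent.OddHalf.Small.Crit
open Cfsg.Agent.LieClassical.HermSiegel Cfsg.Agent.LieClassical.SUBasic
open Cfsg.Agent.ClassicalGeometry.UnitAutBasic (pr pr_surjective)
open Cfsg.Agent.ClassicalGeometry.HermOrtho Cfsg.Agent.ClassicalGeometry.PSUAutCount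

variable {F : Type*} [Field F] [CharP F 3]

/-- the fixed space -/
def Vp (M : M4 F) : Submodule F (Fin 4 → F) where
  carrier := {v | M *ᵥ v = v}
  add_mem' := by
    intro a b (ha : _ = _) (hb : _ = _)
    show M *ᵥ (a + b) = _
    rw [mulVec_add, ha, hb]
  zero_mem' := mulVec_zero M
  smul_mem' := by
    intro c x (hx : _ = _)
    show M *ᵥ (c • x) = _
    rw [mulVec_smul, hx]

omit [CharP F 3] in
theorem mem_Vp {M : M4 F} {v : Fin 4 → F} : v ∈ Vp M ↔ M *ᵥ v = v := Iff.rfl

section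

variable [Fintype F]

omit [CharP F 3] [Fintype F] in
theorem add_mem_Vp {M : M4 F} (h2 : M * M = 1) (x : Fin 4 → F) : x + M *ᵥ x ∈ Vp M := by
  rw [mem_Vp, mulVec_add, mulVec_mulVec, h2, one_mulVec, add_comm]

theorem Vp_nondeg (hF : Fintype.card F = 3 ^ 2) {M : M4 F}
    (hM : ∀ u v, hermForm 4 F 3 (M *ᵥ u) (M *ᵥ v) = hermForm 4 F 3 u v) (h2 : M * M = 1) :
    ∀ u ∈ Vp M, (∀ v ∈ Vp M, hermForm 4 F 3 u v = 0) → u = 0 := by
  intro u hu h
  refine Cfsg.Agent.LieClassical.HermBasic.herm_nondeg hF fun x => ?_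
  have h1 := h _ (add_mem_Vp h2 x)
  rw [Cfsg.Agent.LieClassical.HermBasic.herm_add_right hF] at h1
  have h3 : hermForm 4 F 3 u (M *ᵥ x) = hermForm 4 F 3 u x := by
    conv_lhs => rw [← mem_Vp.1 hu]
    exact hM u x
  rw [h3] at h1
  have h4 : (2 : F) * hermForm 4 F 3 u x = 0 := by linear_combination h1
  exact (mul_eq_zero.1 h4).resolve_left two_ne

theorem neg_of_perp (hF : Fintype.card F = 3 ^ 2) {M : M4 F}
    (hM : ∀ u v, hermForm 4 F 3 (M *ᵥ u) (M *ᵥ v) = hermForm 4 F 3 u v) (h2 : M * M = 1)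
    {x : Fin 4 → F} (hx : x ∈ hermPerp 3 (Vp M : Set (Fin 4 → F))) : M *ᵥ x = -x := by
  have h1 : x + M *ᵥ x = 0 := by
    refine Vp_nondeg hF hM h2 _ (add_mem_Vp h2 x) fun v hv => ?_
    rw [Cfsg.Agent.LieClassical.HermBasic.herm_add_left, mem_hermPerp.1 hx v hv]
    conv_lhs => rw [← mem_Vp.1 hv]
    rw [hM, mem_hermPerp.1 hx v hv, add_zero]
  rw [eq_neg_iff_add_eq_zero, add_comm]; exact h1

/-- adapted unitary matrix -/
theorem exists_adapted (hF : Fintype.card F = 3 ^ 2) {M : M4 F}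
    (hM : ∀ u v, hermForm 4 F 3 (M *ᵥ u) (M *ᵥ v) = hermForm 4 F 3 u v) (h2 : M * M = 1) :
    ∃ (k m : ℕ) (hkm : k + m = 4) (P : Cfsg.GU 4 F 3),
      M * gm P = gm P * diagonal (fun i => Sum.elim (fun _ => (1 : F)) (fun _ => -1)
        ((finSumFinEquiv (m := k) (n := m)).symm (Fin.cast hkm.symm i))) := by
  have hn := Vp_nondeg hF hM h2
  have hkm := finrank_hermPerp_of_nondeg hF (Vp M) hn
  obtain ⟨k, hk⟩ : ∃ k, finrank F (Vp M) = k := ⟨_, rfl⟩
  obtain ⟨m, hm⟩ : ∃ m, finrank F (hermPerp 3 (Vp M : Set (Fin 4 → F))) = m := ⟨_, rfl⟩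
  obtain ⟨b, hbW, hb⟩ := exists_orthonormal hF (Vp M) hn hk
  obtain ⟨b', hbW', hb'⟩ := exists_orthonormal hF (hermPerp 3 (Vp M : Set (Fin 4 → F)))
    (hermPerp_nondeg hF (Vp M) hn) hm
  rw [hk, hm] at hkm
  refine ⟨_, _, hkm, ?_⟩
  let e : Fin 4 → Fin k ⊕ Fin m := fun i => (finSumFinEquiv (m := k) (n := m)).symm (Fin.cast hkm.symm i)
  have he : Function.Injective e := fun i j hij => by
    have h1 := finSumFinEquiv.symm.injective hij
    exact Fin.cast_injective _ h1
  have hc : ∀ i j, hermForm 4 F 3 (Sum.elim b b' i) (Sum.elim b b' j) = if i = j then 1 else 0 := by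
    intro i j
    rcases i with i | i <;> rcases j with j | j
    · simpa using hb i j
    · simp only [Sum.elim_inl, Sum.elim_inr, reduceCtorEq, if_false]
      exact Cfsg.Agent.LieClassical.HermBasic.herm_eq_zero_swap hF
        (mem_hermPerp.1 (hbW' j) _ (hbW i))
    · simp only [Sum.elim_inl, Sum.elim_inr, reduceCtorEq, if_false]
      exact mem_hermPerp.1 (hbW' i) _ (hbW j)
    · simpa using hb' i j
  obtain ⟨P, hP, hPx⟩ := exists_GU_of_orthonormal hF (b := fun i => Sum.elim b b' (e i)) (by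
    intro i j
    rw [hc]
    by_cases hij : i = j
    · rw [if_pos hij, if_pos (by rw [hij])]
    · rw [if_neg hij, if_neg (fun h => hij (he h))])
  refine ⟨⟨P, hP⟩, ?_⟩
  apply ext_of_mulVec_single
  intro i
  have e1 : ∀ x, gm ⟨P, hP⟩ *ᵥ x = ∑ i, x i • Sum.elim b b' (e i) := hPx
  rw [← mulVec_mulVec, ← mulVec_mulVec, e1, e1]
  have e2 : ∀ j, M *ᵥ (Sum.elim b b' (e j)) =
      (Sum.elim (fun _ => (1 : F)) (fun _ => -1) (e j) : F) • Sum.elim b b' (e j) := by
    intro j
    rcases h : e j with i | i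
    · simp only [Sum.elim_inl, one_smul]
      exact hbW i
    · simp only [Sum.elim_inr, neg_smul, one_smul]
      exact neg_of_perp hF hM h2 (hbW' i)
  rw [mulVec_sum]
  refine Finset.sum_congr rfl fun j _ => ?_
  rw [mulVec_smul, e2, mulVec_diagonal, smul_smul, mul_comm]

omit [CharP F 3] [Fintype F] in
theorem unit_det {P : Cfsg.GU 4 F 3} : (gm P).det ≠ 0 := by
  intro h
  have h1 := congrArg Matrix.det (gm_mul_inv P)
  rw [det_mul, h, zero_mul, det_one] at h1
  exact zero_ne_one h1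

/-- An involution of `SU₄(3)` other than `-1` is conjugate to `diag(1,1,-1,-1)` in `GU₄(3)`. -/
theorem exists_conj (hF : Fintype.card F = 3 ^ 2) (g : SU 4 F 3) (h2 : mat g * mat g = 1)
    (h1 : mat g ≠ 1) (h1' : mat g ≠ -1) : ∃ P : Cfsg.GU 4 F 3, mat g * gm P = gm P * D4 F := by
  obtain ⟨k, m, hkm, P, hP⟩ := exists_adapted hF (M := mat g)
    ((LieClassical.SUBasic.mem_SU_iff _).1 g.2) h2
  have hdet := congrArg Matrix.det hP
  rw [det_mul, det_mul, det_mat, one_mul, det_diagonal] at hdet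
  have hd1 := mul_left_cancel₀ (unit_det (P := P)) ((mul_one _).trans hdet)
  have hcancel : ∀ N : M4 F, mat g * gm P = N * gm P → mat g = N := by
    intro N hN
    have h3 := congrArg (· * gm P⁻¹) hN
    simpa only [mul_assoc, gm_mul_inv, mul_one] using h3
  have hm : m ≤ 4 := by omega
  have hk : k = 4 - m := by omega
  subst hk
  interval_cases m
  · exfalso
    apply h1
    apply hcancel
    rw [hP, one_mul]
    have e1 : (fun i => Sum.elim (fun _ => (1 : F)) (fun _ => -1)
        ((finSumFinEquiv (m := 4) (n := 0)).symm (Fin.cast hkm.symm i))) = fun _ => 1 := by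
      funext i
      fin_cases i <;> rfl
    have e2 := congrArg diagonal e1
    rw [diagonal_one] at e2
    exact (congrArg (gm P * ·) e2).trans (mul_one _)
  · exfalso
    have e1 : (∏ i, (fun i => Sum.elim (fun _ => (1 : F)) (fun _ => -1)
        ((finSumFinEquiv (m := 3) (n := 1)).symm (Fin.cast hkm.symm i))) i) = -1 := by
      rw [Fin.prod_univ_four]
      show (1 : F) * 1 * 1 * (-1) = -1
      ring
    have e2 := hd1.trans e1
    exact two_ne (F := F) (by linear_combination e2)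
  · refine ⟨P, ?_⟩
    rw [hP]
    congr 1
    unfold D4
    congr 1
    funext i
    fin_cases i <;> rfl
  · exfalso
    have e1 : (∏ i, (fun i => Sum.elim (fun _ => (1 : F)) (fun _ => -1)
        ((finSumFinEquiv (m := 1) (n := 3)).symm (Fin.cast hkm.symm i))) i) = -1 := by
      rw [Fin.prod_univ_four]
      show (1 : F) * (-1) * (-1) * (-1) = -1
      ring
    have e2 := hd1.trans e1
    exact two_ne (F := F) (by linear_combination e2)
  · exfalso
    apply h1'
    apply hcancel
    rw [hP]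
    have e1 : (fun i => Sum.elim (fun _ => (1 : F)) (fun _ => -1)
        ((finSumFinEquiv (m := 0) (n := 4)).symm (Fin.cast hkm.symm i))) = fun _ => -1 := by
      funext i
      fin_cases i <;> rfl
    have e2 : diagonal (fun _ : Fin 4 => (-1 : F)) = -1 := by
      rw [← diagonal_one, diagonal_neg]
    have e3 := (congrArg diagonal e1).trans e2
    exact (congrArg (gm P * ·) e3).trans (by rw [mul_neg, mul_one, neg_mul, one_mul])

omit [Fintype F] in
theorem det_two {X : M2 F} (hX : st X * X = 1) {c : F} (hc : c ^ 2 = -1)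
    (h : X * X = c • (1 : M2 F)) : X.det = -c := by
  have e00 := congrFun (congrFun h 0) 0
  have e01 := congrFun (congrFun h 0) 1
  have e10 := congrFun (congrFun h 1) 0
  have f00 := congrFun (congrFun hX 0) 0
  rw [mul_apply, Fin.sum_univ_two] at e00 e01 e10 f00
  simp [st_apply] at e00 e01 e10 f00
  rw [det_fin_two]
  by_cases ht : X 0 0 + X 1 1 = 0
  · linear_combination X 0 0 * ht - e00
  · exfalso
    have g01 : X 0 1 = 0 := by
      have : X 0 1 * (X 0 0 + X 1 1) = 0 := by linear_combination e01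
      exact (mul_eq_zero.1 this).resolve_right ht
    have g10 : X 1 0 = 0 := by
      have : X 1 0 * (X 0 0 + X 1 1) = 0 := by linear_combination e10
      exact (mul_eq_zero.1 this).resolve_right ht
    rw [g10] at f00
    rw [g01] at e00
    have h1 : X 0 0 ^ 4 = 1 := by linear_combination f00
    have h2 : X 0 0 ^ 4 = -1 := by linear_combination (X 0 0 ^ 2 + c) * e00 + hc
    exact two_ne (F := F) (by linear_combination h2 - h1)

omit [CharP F 3] [Fintype F] in
theorem det_blk {N : M4 F} (h21 : b21 N = 0) : N.det = (b11 N).det * (b22 N).det := by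
  rw [← det_fromBlocks_zero₂₁ (b11 N) (b12 N) (b22 N), ← h21,
    ← det_submatrix_equiv_self (finSumFinEquiv : Fin 2 ⊕ Fin 2 ≃ Fin 4) N]
  congr 1
  ext i j
  rcases i with i | i <;> rcases j with j | j <;> rfl

/-- no element of `SU₄(3)` has square a scalar of order 4 -/
theorem no_four (hF : Fintype.card F = 3 ^ 2) (g : SU 4 F 3) {c : F} (hc : c ^ 2 = -1)
    (h : mat g * mat g = c • (1 : M4 F)) : False := by
  have hM : ∀ u v, hermForm 4 F 3 (mat g *ᵥ u) (mat g *ᵥ v) = hermForm 4 F 3 u v :=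
    (LieClassical.SUBasic.mem_SU_iff _).1 g.2
  have hMM : ∀ x, mat g *ᵥ (mat g *ᵥ x) = c • x := by
    intro x
    rw [mulVec_mulVec, h, smul_mulVec, one_mulVec]
  obtain ⟨v, hv⟩ : ∃ v : Fin 4 → F, v = Pi.single 0 1 := ⟨_, rfl⟩
  obtain ⟨w, hw⟩ : ∃ w : Fin 4 → F, w = mat g *ᵥ v := ⟨_, rfl⟩
  have hvv : hermForm 4 F 3 v v = 1 := by
    rw [hv, Cfsg.Agent.LieClassical.HermBasic.herm_single_left, Pi.single_eq_same]; ring
  have hww : hermForm 4 F 3 w w = 1 := by rw [hw, hM, hvv]
  obtain ⟨s, hs⟩ : ∃ s, hermForm 4 F 3 v w = s := ⟨_, rfl⟩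
  have hs' : hermForm 4 F 3 w v = s ^ 3 := by
    rw [Cfsg.Agent.LieClassical.HermBasic.herm_swap hF, hs]
  have hs2 : s = c ^ 3 * s ^ 3 := by
    rw [← hs', ← Cfsg.Agent.LieClassical.HermBasic.herm_smul_right, ← hMM v, ← hs, ← hw, hw, hM, ← hw, hs]
  have hs4 : 1 - s ^ 4 ≠ 0 := by
    intro h4
    have h5 : s * (1 - c ^ 3 * s ^ 2) = 0 := by linear_combination hs2
    rcases mul_eq_zero.1 h5 with h6 | h6
    · rw [h6] at h4; norm_num at h4
    · have h7 : s ^ 2 = c := by linear_combination (-c) * h6 - (c ^ 2 * s ^ 2 - s ^ 2) * hc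
      have h8 : s ^ 4 = -1 := by linear_combination (s ^ 2 + c) * h7 + hc
      exact two_ne (F := F) (by linear_combination h4 + h8)
  -- coordinates
  have hcoord : ∀ a b : F, hermForm 4 F 3 (a • v + b • w) v = 0 → hermForm 4 F 3 (a • v + b • w) w = 0 →
      a = 0 ∧ b = 0 := by
    intro a b h1 h2
    rw [Cfsg.Agent.LieClassical.HermBasic.herm_add_left,
      Cfsg.Agent.LieClassical.HermBasic.herm_smul_left,
      Cfsg.Agent.LieClassical.HermBasic.herm_smul_left, hvv, hs'] at h1
    rw [Cfsg.Agent.LieClassical.HermBasic.herm_add_left,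
      Cfsg.Agent.LieClassical.HermBasic.herm_smul_left,
      Cfsg.Agent.LieClassical.HermBasic.herm_smul_left, hww, hs] at h2
    have h3 : a * (1 - s ^ 4) = 0 := by linear_combination h1 - s ^ 3 * h2
    have ha := (mul_eq_zero.1 h3).resolve_right hs4
    refine ⟨ha, ?_⟩
    rw [ha] at h2
    linear_combination h2
  have hli : LinearIndependent F ![v, w] := by
    rw [LinearIndependent.pair_iff]
    intro a b hab
    refine hcoord a b ?_ ?_ <;> rw [hab, Cfsg.Agent.LieClassical.HermBasic.herm_zero_left]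
  obtain ⟨W, hW⟩ : ∃ W : Submodule F (Fin 4 → F), W = Submodule.span F (Set.range ![v, w]) := ⟨_, rfl⟩
  have hk : finrank F W = 2 := by rw [hW, finrank_span_eq_card hli, Fintype.card_fin]
  have hmem : ∀ x, x ∈ W ↔ ∃ a b : F, a • v + b • w = x := by
    intro x
    rw [hW, Matrix.range_cons, Matrix.range_cons, Matrix.range_empty, Set.union_empty,
      Set.singleton_union, Submodule.mem_span_pair]
  have hvW : v ∈ W := (hmem v).2 ⟨1, 0, by simp⟩
  have hwW : w ∈ W := (hmem w).2 ⟨0, 1, by simp⟩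
  have hMW : ∀ x ∈ W, mat g *ᵥ x ∈ W := by
    intro x hx
    obtain ⟨a, b, rfl⟩ := (hmem x).1 hx
    rw [mulVec_add, mulVec_smul, mulVec_smul, ← hw]
    refine W.add_mem (W.smul_mem _ hwW) (W.smul_mem _ ?_)
    rw [hw, hMM]
    exact W.smul_mem _ hvW
  have hnd : ∀ u ∈ W, (∀ x ∈ W, hermForm 4 F 3 u x = 0) → u = 0 := by
    intro u hu hx
    obtain ⟨a, b, rfl⟩ := (hmem u).1 hu
    obtain ⟨ha, hb⟩ := hcoord a b (hx v hvW) (hx w hwW)
    rw [ha, hb, zero_smul, zero_smul, add_zero]
  obtain ⟨P, hP, hPW⟩ := exists_GU_adapted hF (finSumFinEquiv : Fin 2 ⊕ Fin 2 ≃ Fin 4) W hnd hk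
  obtain ⟨P, rfl⟩ : ∃ P' : Cfsg.GU 4 F 3, (P' : GL (Fin 4) F) = P := ⟨⟨P, hP⟩, rfl⟩
  obtain ⟨N, hN⟩ : ∃ N : SU 4 F 3, N = guConjFun P⁻¹ g := ⟨_, rfl⟩
  have hmN : mat N = gm P⁻¹ * mat g * gm P := by
    rw [hN, mat_guConjFun, inv_inv]
  have hNN : mat N * mat N = c • (1 : M4 F) := by
    calc mat N * mat N = gm P⁻¹ * mat g * (gm P * gm P⁻¹) * mat g * gm P := by
          rw [hmN]; simp only [mul_assoc]
      _ = gm P⁻¹ * (mat g * mat g) * gm P := by rw [gm_mul_inv, mul_one]; simp only [mul_assoc]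
      _ = c • (1 : M4 F) := by
          rw [h, Matrix.mul_smul, Matrix.smul_mul, mul_one, gm_inv_mul]
  have h21 : b21 (mat N) = 0 := by
    ext i j
    have h1 : gm P *ᵥ (Pi.single (Fin.castAdd 2 j) 1) ∈ W := by
      refine (hPW _).2 fun l => ?_
      rw [finSumFinEquiv_apply_right, Pi.single_eq_of_ne]
      intro hl
      have := congrArg Fin.val hl
      simp at this
      omega
    have h2 : gm P *ᵥ (mat N *ᵥ (Pi.single (Fin.castAdd 2 j) 1)) ∈ W := by
      rw [mulVec_mulVec, hmN, ← mul_assoc, ← mul_assoc, gm_mul_inv, one_mul, ← mulVec_mulVec]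
      exact hMW _ h1
    have h3 := (hPW _).1 h2 i
    rw [finSumFinEquiv_apply_right, mulVec_single_one] at h3
    exact h3
  have hu := st_mat N
  have hu11 := u11 hu h21
  have h12 : b12 (mat N) = 0 := by
    have h1 := congrArg b12 hu
    rw [b12_mul, b11_st, b12_st, h21, st_zero', zero_mul, add_zero, b12_one] at h1
    calc b12 (mat N) = b11 (mat N) * st (b11 (mat N)) * b12 (mat N) := by
          rw [mul_st hu11, one_mul]
      _ = 0 := by rw [mul_assoc, h1, mul_zero]
  have hu22 := u22 hu h12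
  have s1 : b11 (mat N) * b11 (mat N) = c • (1 : M2 F) := by
    have h1 := congrArg b11 hNN
    rw [b11_mul, h12, zero_mul, add_zero] at h1
    exact h1.trans ((b11_smul _ _).trans (by rw [b11_one]))
  have s2 : b22 (mat N) * b22 (mat N) = c • (1 : M2 F) := by
    have h1 := congrArg b22 hNN
    rw [b22_mul, h21, zero_mul, zero_add] at h1
    refine h1.trans ?_
    show c • b22 (1 : M4 F) = _
    rw [b22_one]
  have hd := det_mat N
  rw [det_blk h21, det_two hu11 hc s1, det_two hu22 hc s2] at hd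
  exact two_ne (F := F) (by linear_combination hc - hd)

/-- Good involutions. -/
theorem good (hF : Fintype.card F = 9) (t : PSU 4 F 3) (ht : orderOf t = 2) : Good t := by
  have hF' : Fintype.card F = 3 ^ 2 := by rw [hF]; norm_num
  have key : ∀ g : SU 4 F 3, mat g * mat g = 1 → pr 4 F 3 g ≠ 1 → Good (pr 4 F 3 g) := by
    intro g h2 hg
    obtain ⟨P, hP⟩ := exists_conj hF' g h2 (fun h => hg (by
      have : g = 1 := mat_injective (by rw [h, mat_one])
      rw [this, map_one])) (fun h => hg (by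
      rw [← map_one (pr 4 F 3)]
      refine (pr_eq_of_mat (c := -1) ?_).symm
      rw [h, mat_one, neg_smul, one_smul]))
    have h3 : g = guConj P d := by
      apply mat_injective
      show mat g = mat (guConjFun P d)
      rw [mat_guConjFun, mat_d, ← hP, mul_assoc, gm_mul_inv, mul_one]
    have h4 := good_map (toAut P (RingEquiv.refl F)) (good_d (F := F) hF)
    rw [toAut_pr] at h4
    have h5 : semiConj P (RingEquiv.refl F) d = g := by
      rw [h3]
      apply mat_injective
      rfl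
    rw [h5] at h4
    exact h4
  have ht2 : t * t = 1 := by rw [← pow_two, ← ht, pow_orderOf_eq_one]
  have ht1 : t ≠ 1 := by
    intro h; rw [h, orderOf_one] at ht; norm_num at ht
  obtain ⟨g, rfl⟩ := pr_surjective t
  rw [← map_mul, ← map_one (pr 4 F 3)] at ht2
  obtain ⟨c, hc4, hc⟩ := mat_of_pr_eq hF ht2.symm
  rw [mat_mul, mat_one] at hc
  have h1 : (c ^ 2 + 1) * ((c + 1) * (c - 1)) = 0 := by linear_combination hc4
  rcases mul_eq_zero.1 h1 with h2 | h2
  · exact (no_four hF' g (by linear_combination h2) hc).elim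
  rcases mul_eq_zero.1 h2 with h3 | h3
  · -- c = -1
    obtain ⟨a, ha⟩ : ∃ a : F, a ^ 2 = -1 := by
      have h1 : IsSquare (-1 : F) := by
        rw [FiniteField.isSquare_neg_one_iff, hF]; norm_num
      obtain ⟨a, ha⟩ := h1
      exact ⟨a, by rw [pow_two, ← ha]⟩
    have ha4 : a ^ 4 = 1 := by linear_combination (a ^ 2 - 1) * ha
    have hm : mat (suScalar 3 a ha4 ha4 * g) = a • mat g := by
      rw [mat_mul, mat_def, coe_suScalar]
      ext i j
      rw [diagonal_mul, Matrix.smul_apply, smul_eq_mul]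
    have e1 := pr_eq_of_mat hm
    rw [e1]
    refine key _ ?_ (by rw [← e1]; exact ht1)
    rw [hm, Matrix.smul_mul, Matrix.mul_smul, hc, smul_smul, smul_smul]
    have : a * a * c = 1 := by linear_combination c * ha - h3
    rw [this, one_smul]
  · have hc1 : c = 1 := by linear_combination h3
    rw [hc1, one_smul] at hc
    exact key g hc ht1

theorem orderOf_d (hF : Fintype.card F = 9) : orderOf (pr 4 F 3 d) = 2 := by
  rw [orderOf_eq_prime_iff]
  constructor
  · rw [← map_pow, ← map_one (pr 4 F 3)]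
    congr 1
    apply mat_injective
    rw [mat_pow, mat_one, mat_d, D4, diagonal_pow, ← diagonal_one]
    congr 1
    funext i
    fin_cases i <;> simp
  · intro h
    rw [← map_one (pr 4 F 3)] at h
    obtain ⟨c, -, hc⟩ := mat_of_pr_eq hF h.symm
    rw [mat_d, mat_one] at hc
    have h1 := congrFun (congrFun hc 0) 0
    have h2 := congrFun (congrFun hc 2) 2
    simp [D4] at h1 h2
    exact two_ne (F := F) (by linear_combination h1 - h2)

end

theorem charTwo_U43 (F : Type) [Field F] [Fintype F] (hF : Fintype.card F = 9) :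
    IsCharacteristicTwoType (Cfsg.PSU 4 F 3) := by
  have : Fact (Nat.Prime 3) := ⟨Nat.prime_three⟩
  have : CharP F 3 := charP_of_card_eq_prime_pow (f := 2) (by rw [hF]; norm_num)
  have : Finite (Cfsg.PSU 4 F 3) := inferInstance
  refine isCharacteristicTwoType ?_ fun t ht => good hF t ht
  rw [even_iff_two_dvd, ← orderOf_d (F := F) hF]
  exact orderOf_dvd_natCard _

end Cfsg.Agent.OddHalf.Small.U43

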