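import Cfsg.Agent.OddHalf.Small.Excl
import Cfsg.Agent.OddHalf.Small.L33
import Cfsg.Agent.OddHalf.Small.U33
import Cfsg.Agent.OddHalf.Small.U43
import Cfsg.Agent.OddHalf.Small.PSp43
import Cfsg.Agent.OddHalf.Small.G23

/-!
# The five exceptional groups of S1765 over `F₃` and `F₉` are of characteristic 2 type
-/

set_option autoImplicit false

namespace Cfsg.Agent.OddHalf.Small.RowsAll

theorem rows : Excl.Rows where
  l33 F _ _ hF := L33.charTwo_L33 F hF
  sp43 F _ _ hF := PSp43.charTwo_PSp43 hF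
  g23 F _ _ hF := G23.g23 F hF
  u33 F _ _ hF := U33.charTwo_U33 F hF
  u43 F _ _ hF := U43.charTwo_U43 F hF

end Cfsg.Agent.OddHalf.Small.RowsAll
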