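import Cfsg.Agent.OddHalf.D0
import Cfsg.Agent.OddHalf.Small.Plug
import Cfsg.Agent.OddHalf.Small.RowsAll
import Cfsg.Agent.OddHalf.Small.Mathieu
import Cfsg.Agent.OddHalf.Small.J3
import Cfsg.Agent.OddHalf.Small.RankOne

/-!
# All rows of D11: `Plug.RowsTwo` and `D0.Rows0`
-/

set_option autoImplicit false
set_option linter.unusedVariables false

namespace Cfsg.Agent.OddHalf.Small.RowsFull

open Cfsg

universe u

theorem rowsTwo : Plug.RowsTwo.{u} where
  u3 G _ _ F _ _ n hn hF e := RankOne.u3 F n (by omega) hF e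
  sz G _ _ h := RankOne.sz h
  m22 G _ _ h := Mathieu.m22 h
  m23 G _ _ h := Mathieu.m23 h
  j3 G _ _ h := J3.j3 G h

theorem char_two {F : Type} [Field F] [Fintype F] (hF : Fintype.card F = 2) : CharP F 2 := by
  refine CharTwo.of_one_ne_zero_of_two_eq_zero one_ne_zero ?_
  have h3 : ((Fintype.card F : ℕ) : F) = 0 := Nat.cast_card_eq_zero F
  rw [hF] at h3
  exact_mod_cast h3

theorem rows0 : D0.Rows0 where
  l33 := RowsAll.rows.l33
  sp43 := RowsAll.rows.sp43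
  g23 := RowsAll.rows.g23
  u33 := RowsAll.rows.u33
  u43 := RowsAll.rows.u43
  m11 := M11.charTwo_M11
  m22 := Mathieu.charTwo_M22
  m23 := Mathieu.charTwo_M23
  j3 F _ _ ω h1 h2 := by
    have hJ : Spor.IsoJ3 (Spor.J3 F ω) := ⟨F, _, _, ω, h1, h2, ⟨MulEquiv.refl _⟩⟩
    exact J3.j3 _ hJ
  l34 F _ _ hF := L34.charTwo_L34 F hF
  u3 F _ _ n hn hF := RankOne.u3 F n (by omega) hF ⟨MulEquiv.refl _⟩
  sz F _ _ m hm hF := RankOne.sz ⟨F, _, _, m, hm, hF, ⟨MulEquiv.refl _⟩⟩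
  sp6 F _ _ hF := by
    have := char_two hF
    exact Sp.charTwo_PSp (by norm_num)
  o8 F _ _ hF := Orth.charTwo_POmegaPlus hF (by norm_num)

end Cfsg.Agent.OddHalf.Small.RowsFull
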