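import Mathlib
import Cfsg.Agent.OddHalf.Small.Flag

/-!
# `PSL_n(F)` in characteristic two is of characteristic 2 type
-/

set_option autoImplicit false
set_option linter.unusedSectionVars false
set_option linter.style.haveILetI false

namespace Cfsg.Agent.OddHalf.Small.PslChar

open Subgroup Cfsg Cfsg.Agent.OddHalf.Small.Crit Matrix

/-! ### Quotients by central subgroups of odd order -/

section quotient

variable {S : Type*} [Group S] [Finite S]

theorem eq_one_of_pow {N : Subgroup S} (hN : ∀ n ∈ N, n * n = 1 → n = 1) {n : S} (hn : n ∈ N) {k : ℕ}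
    (h : n ^ 2 ^ k = 1) : n = 1 := by
  induction k with
  | zero => simpa using h
  | succ k ih =>
    apply ih
    apply hN _ (N.pow_mem hn _)
    rw [← pow_two, ← pow_mul, ← pow_succ]
    exact h

theorem odd_of_mem {N : Subgroup S} (hN : ∀ n ∈ N, n * n = 1 → n = 1) {n : S} (hn : n ∈ N) :
    Odd (orderOf n) := by
  obtain ⟨k, m, hm, hkm⟩ := Nat.exists_eq_two_pow_mul_odd (orderOf_pos n).ne'
  have h1 : n ^ m = 1 := by
    apply eq_one_of_pow hN (N.pow_mem hn m) (k := k)
    rw [← pow_mul, mul_comm, ← hkm, pow_orderOf_eq_one]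
  have h2 : orderOf n ∣ m := orderOf_dvd_of_pow_eq_one h1
  exact Odd.of_dvd_nat hm h2

/-- An involution modulo a central subgroup of odd order lifts to an involution. -/
theorem exists_lift {N : Subgroup S} (hN : ∀ n ∈ N, n * n = 1 → n = 1)
    (hc : ∀ n ∈ N, ∀ g, n * g = g * n) {s : S} (hs : s * s ∈ N) : ∃ n ∈ N, s * n * (s * n) = 1 := by
  obtain ⟨m, hm⟩ := odd_of_mem hN hs
  refine ⟨(s * s) ^ m, N.pow_mem hs m, ?_⟩
  have h1 : (s * s) ^ (2 * m + 1) = 1 := by rw [← hm]; exact pow_orderOf_eq_one _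
  calc s * (s * s) ^ m * (s * (s * s) ^ m) = s * ((s * s) ^ m * s) * (s * s) ^ m := by group
    _ = s * (s * (s * s) ^ m) * (s * s) ^ m := by rw [hc _ (N.pow_mem hs m) s]
    _ = (s * s) ^ (2 * m + 1) := by
      rw [show s * (s * (s * s) ^ m) * (s * s) ^ m = (s * s) * ((s * s) ^ m * (s * s) ^ m) by group,
        ← pow_add, ← pow_succ']
      congr 1
      omega
    _ = 1 := h1

theorem good_quotient {N : Subgroup S} [N.Normal] (hN : ∀ n ∈ N, n * n = 1 → n = 1)
    (hc : ∀ n ∈ N, ∀ g, n * g = g * n) {t : S} (ht : t * t = 1)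
    {Q : Subgroup S} (hQ : IsPGroup 2 Q) (hn : ∀ g, g * t = t * g → ∀ x ∈ Q, g * x * g⁻¹ ∈ Q)
    (hy : ∀ y, y * t = t * y → (∀ x ∈ Q, y * x = x * y) → Odd (orderOf y) → y ∈ N) :
    Good (QuotientGroup.mk' N t) := by
  -- commuting modulo `N` with a 2-element
  have key : ∀ g x : S, (∃ k : ℕ, x ^ 2 ^ k = 1) →
      QuotientGroup.mk' N g * QuotientGroup.mk' N x = QuotientGroup.mk' N x * QuotientGroup.mk' N g →
      g * x = x * g := by
    rintro g x ⟨k, hk⟩ h
    rw [← map_mul, ← map_mul] at h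
    have h1 : (x * g)⁻¹ * (g * x) ∈ N := by
      have := QuotientGroup.eq.mp h.symm
      exact this
    set n := (x * g)⁻¹ * (g * x) with hn
    have h2 : g * x = x * g * n := by rw [hn]; group
    have h3 : g * x * g⁻¹ = x * n := by
      rw [h2, mul_assoc x g n, ← hc n h1 g]
      group
    have h4 : (x * n) ^ 2 ^ k = 1 := by
      rw [← h3]
      have : (MulAut.conj g) x = g * x * g⁻¹ := rfl
      rw [← this, ← map_pow, hk, map_one]
    have hcomm : Commute x n := (hc n h1 x).symm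
    rw [hcomm.mul_pow, hk, one_mul] at h4
    have h5 := eq_one_of_pow hN h1 h4
    rw [h2, h5, mul_one]
  have ht' : ∃ k : ℕ, t ^ 2 ^ k = 1 := ⟨1, by rw [pow_one, pow_two]; exact ht⟩
  refine ⟨Q.map (QuotientGroup.mk' N), hQ.map _, ?_, ?_⟩
  · intro g hg x hx
    obtain ⟨g, rfl⟩ := QuotientGroup.mk'_surjective N g
    obtain ⟨x, hx, rfl⟩ := hx
    refine ⟨g * x * g⁻¹, hn g (key g t ht' hg) x hx, ?_⟩
    rw [map_mul, map_mul, map_inv]
  · intro y hyt hyx ho
    obtain ⟨y, rfl⟩ := QuotientGroup.mk'_surjective N y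
    have hyt' := key y t ht' hyt
    have hyx' : ∀ x ∈ Q, y * x = x * y := by
      intro x hx
      obtain ⟨k, hk⟩ := hQ ⟨x, hx⟩
      refine key y x ⟨k, ?_⟩ (hyx _ ⟨x, hx, rfl⟩)
      exact congrArg Subtype.val hk
    -- the order of `y` is odd
    have hy0 : Odd (orderOf y) := by
      have h1 : y ^ orderOf (QuotientGroup.mk' N y) ∈ N := by
        have h2 : QuotientGroup.mk' N (y ^ orderOf (QuotientGroup.mk' N y)) = 1 := by
          rw [map_pow, pow_orderOf_eq_one]
        exact (QuotientGroup.eq_one_iff _).mp h2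
      have h2 := odd_of_mem hN h1
      have h3 : y ^ (orderOf (QuotientGroup.mk' N y) * orderOf (y ^ orderOf (QuotientGroup.mk' N y))) = 1 := by
        rw [pow_mul, pow_orderOf_eq_one]
      exact Odd.of_dvd_nat (ho.mul h2) (orderOf_dvd_of_pow_eq_one h3)
    exact (QuotientGroup.eq_one_iff _).mpr (hy y hyt' hyx' hy0)

end quotient

/-! ### The special linear group -/

section SL

variable {ι : Type*} [Fintype ι] [DecidableEq ι] {F : Type*} [Field F]

/-- The natural action of `SL`. -/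
def act : SpecialLinearGroup ι F →* AddMonoid.End (ι → F) where
  toFun g := (Matrix.mulVecLin g.1).toAddMonoidHom
  map_one' := by
    ext v
    show ((1 : SpecialLinearGroup ι F).1 *ᵥ v) _ = v _
    rw [show (1 : SpecialLinearGroup ι F).1 = 1 from rfl, Matrix.one_mulVec]
  map_mul' a b := by
    ext v i
    show ((a * b).1 *ᵥ v) i = (a.1 *ᵥ (b.1 *ᵥ v)) i
    rw [Matrix.mulVec_mulVec]
    rfl

theorem act_apply (g : SpecialLinearGroup ι F) (v : ι → F) : act g v = g.1 *ᵥ v := rfl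

theorem act_mul (a b : SpecialLinearGroup ι F) (v : ι → F) : (a * b).1 *ᵥ v = a.1 *ᵥ (b.1 *ᵥ v) := by
  rw [Matrix.mulVec_mulVec]
  rfl

theorem ext_mulVec {a b : SpecialLinearGroup ι F} (h : ∀ v, a.1 *ᵥ v = b.1 *ᵥ v) : a = b :=
  Subtype.ext (Matrix.mulVec_injective (funext h))

theorem act_injective : Function.Injective (act (ι := ι) (F := F)) := by
  intro a b h
  apply ext_mulVec
  intro v
  exact congrArg (fun f : AddMonoid.End (ι → F) => f v) h

variable [CharP F 2]

theorem add_self_vec (v : ι → F) : v + v = 0 := by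
  ext i
  exact CharTwo.add_self_eq_zero (v i)

/-- The elements `1 + w ⊗ f`. -/
theorem exists_transvection (w : ι → F) (f : (ι → F) →ₗ[F] F) (hf : f w = 0) :
    ∃ g : SpecialLinearGroup ι F, ∀ v, g.1 *ᵥ v = v + f v • w := by
  set L : (ι → F) →ₗ[F] (ι → F) := LinearMap.id + f.smulRight w with hL
  have hLv : ∀ v, L v = v + f v • w := fun v => rfl
  have h1 : LinearMap.toMatrix' L * LinearMap.toMatrix' L = 1 := by
    rw [← LinearMap.toMatrix'_comp, ← LinearMap.toMatrix'_one]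
    congr 1
    apply LinearMap.ext
    intro v
    show L (L v) = v
    rw [hLv, hLv, map_add, map_smul, hf, smul_zero, add_zero, add_assoc, add_self_vec, add_zero]
  have h2 : (LinearMap.toMatrix' L).det = 1 := by
    have h3 := congrArg Matrix.det h1
    rw [Matrix.det_mul, Matrix.det_one] at h3
    have h4 : ((LinearMap.toMatrix' L).det + 1) ^ 2 = 0 := by
      have h5 : (2 : F) = 0 := CharTwo.two_eq_zero
      linear_combination h3 + (LinearMap.toMatrix' L).det * h5 + h5
    have h6 := pow_eq_zero_iff (two_ne_zero) |>.mp h4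
    exact (CharTwo.add_eq_zero).mp h6
  refine ⟨⟨LinearMap.toMatrix' L, h2⟩, fun v => ?_⟩
  show LinearMap.toMatrix' L *ᵥ v = _
  rw [← Matrix.toLin'_apply, Matrix.toLin'_toMatrix', hLv]

/-- The centralizer of the unipotent radical is scalar up to elements of order two. -/
theorem sq_mem_center {t : SpecialLinearGroup ι F} (_ht : t * t = 1) (ht1 : t ≠ 1)
    {W P : AddSubgroup (ι → F)} (hW : ∀ v, v ∈ W ↔ ∃ u, v = t.1 *ᵥ u - u) (hP : ∀ v, v ∈ P ↔ t.1 *ᵥ v = v)
    (hWP : W ≤ P) {y : SpecialLinearGroup ι F}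
    (hy : ∀ x ∈ Flag.stab (act (ι := ι) (F := F)) W P hWP, y * x = x * y) :
    y * y ∈ center (SpecialLinearGroup ι F) := by
  -- `W` as a subspace
  set Wm : Submodule F (ι → F) := LinearMap.range (Matrix.mulVecLin t.1 - LinearMap.id) with hWm
  have hWm' : ∀ v, v ∈ Wm ↔ v ∈ W := by
    intro v
    rw [hW, hWm, LinearMap.mem_range]
    constructor
    · rintro ⟨u, hu⟩
      exact ⟨u, hu.symm⟩
    · rintro ⟨u, hu⟩
      exact ⟨u, hu.symm⟩
  have key : ∀ w ∈ Wm, ∀ f : (ι → F) →ₗ[F] F, (∀ x ∈ Wm, f x = 0) → ∀ v,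
      f v • (y.1 *ᵥ w) = f (y.1 *ᵥ v) • w := by
    intro w hw f hf v
    obtain ⟨g, hg⟩ := exists_transvection w f (hf w hw)
    have hgs : g ∈ Flag.stab (act (ι := ι) (F := F)) W P hWP := by
      have hsm : ∀ x, f x • w ∈ W := fun x => (hWm' _).mp (Wm.smul_mem _ hw)
      refine ⟨fun x hx => ?_, fun x hx => ?_, fun x => ?_⟩
      · show g.1 *ᵥ x = x
        rw [hg, hf x ((hWm' x).mpr hx), zero_smul, add_zero]
      · show g.1 *ᵥ x - x ∈ W
        rw [hg, add_sub_cancel_left]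
        exact hsm x
      · show g.1 *ᵥ x - x ∈ P
        rw [hg, add_sub_cancel_left]
        exact hWP (hsm x)
    have h1 := hy g hgs
    have h2 : (y * g).1 *ᵥ v = (g * y).1 *ᵥ v := by rw [h1]
    rw [act_mul, act_mul, hg, hg, Matrix.mulVec_add, Matrix.mulVec_smul] at h2
    exact add_left_cancel h2
  -- `W ≠ 0`, `W ≠ V`
  obtain ⟨u0, hu0⟩ : ∃ u, t.1 *ᵥ u ≠ u := by
    by_contra hcon
    push Not at hcon
    apply ht1
    apply ext_mulVec
    intro v
    rw [hcon v, show (1 : SpecialLinearGroup ι F).1 = 1 from rfl, Matrix.one_mulVec]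
  set w0 := t.1 *ᵥ u0 - u0 with hw0
  have hw0n : w0 ≠ 0 := sub_ne_zero.mpr hu0
  have hw0W : w0 ∈ Wm := (hWm' _).mpr ((hW _).mpr ⟨u0, rfl⟩)
  have hu0W : u0 ∉ Wm := by
    intro h
    exact hu0 ((hP _).mp (hWP ((hWm' _).mp h)))
  obtain ⟨f0, hf0, hf0W⟩ : ∃ f : (ι → F) →ₗ[F] F, f u0 ≠ 0 ∧ ∀ x ∈ Wm, f x = 0 := by
    obtain ⟨f, hf1, hf2⟩ := Submodule.exists_le_ker_of_notMem hu0W
    exact ⟨f, hf1, fun x hx => LinearMap.mem_ker.mp (hf2 hx)⟩
  set c : F := (f0 u0)⁻¹ * f0 (y.1 *ᵥ u0) with hc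
  have hyW : ∀ w ∈ Wm, y.1 *ᵥ w = c • w := by
    intro w hw
    have h1 := key w hw f0 hf0W u0
    rw [hc, mul_smul, ← h1, smul_smul, inv_mul_cancel₀ hf0, one_smul]
  have hyV : ∀ v, y.1 *ᵥ v - c • v ∈ Wm := by
    intro v
    by_contra hcon
    obtain ⟨f, hf1, hf2⟩ := Submodule.exists_le_ker_of_notMem hcon
    apply hf1
    have h1 := key w0 hw0W f (fun x hx => LinearMap.mem_ker.mp (hf2 hx)) v
    rw [hyW w0 hw0W, smul_smul] at h1
    have h2 : f v * c = f (y.1 *ᵥ v) := by
      have h3 : (f v * c - f (y.1 *ᵥ v)) • w0 = 0 := by rw [sub_smul, h1, sub_self]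
      rcases smul_eq_zero.mp h3 with h4 | h4
      · exact sub_eq_zero.mp h4
      · exact absurd h4 hw0n
    rw [map_sub, map_smul, ← h2, smul_eq_mul, mul_comm, sub_self]
  have hyy : ∀ v, (y * y).1 *ᵥ v = (c * c) • v := by
    intro v
    have h1 := hyW _ (hyV v)
    rw [Matrix.mulVec_sub, Matrix.mulVec_smul] at h1
    rw [act_mul]
    have h2 : y.1 *ᵥ (y.1 *ᵥ v) = c • (y.1 *ᵥ v - c • v) + c • (y.1 *ᵥ v) := by
      rw [← h1]; abel
    rw [h2, smul_sub, smul_smul]
    have h3 : c • y.1 *ᵥ v - (c * c) • v + c • y.1 *ᵥ v = (c • y.1 *ᵥ v + c • y.1 *ᵥ v) - (c * c) • v := by abel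
    rw [h3, add_self_vec, zero_sub]
    ext i
    simp only [Pi.neg_apply]
    exact CharTwo.neg_eq _
  have hM : (y * y).1 = Matrix.scalar ι (c * c) := by
    apply Matrix.mulVec_injective
    funext v
    rw [hyy v]
    ext i
    simp [Matrix.scalar_apply, Matrix.mulVec_diagonal]
  rw [Matrix.SpecialLinearGroup.mem_center_iff]
  refine ⟨c * c, ?_, hM.symm⟩
  have h1 := (y * y).2
  rw [hM] at h1
  simpa [Matrix.scalar_apply, Matrix.det_diagonal] using h1

theorem center_sq {n : SpecialLinearGroup ι F} (hn : n ∈ center (SpecialLinearGroup ι F)) (h : n * n = 1) :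
    n = 1 := by
  obtain ⟨r, hr, hrn⟩ := Matrix.SpecialLinearGroup.mem_center_iff.mp hn
  rcases isEmpty_or_nonempty ι with hι | ⟨⟨i⟩⟩
  · apply Subtype.ext
    ext i
    exact isEmptyElim i
  have h1 : n.1 * n.1 = 1 := congrArg Subtype.val h
  rw [← hrn] at h1
  have h2 : r * r = 1 := by
    have h3 := congrFun (congrFun h1 i) i
    simpa [Matrix.scalar_apply] using h3
  have h4 : (r + 1) ^ 2 = 0 := by
    have h5 : (2 : F) = 0 := CharTwo.two_eq_zero
    linear_combination h2 + r * h5 + h5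
  have h6 := pow_eq_zero_iff (two_ne_zero) |>.mp h4
  have h7 : r = 1 := (CharTwo.add_eq_zero).mp h6
  apply Subtype.ext
  rw [← hrn, h7, map_one]
  rfl

variable [Finite F]

/-- Every involution of `PSL` in characteristic two is good. -/
theorem good_psl (t : ProjectiveSpecialLinearGroup ι F) (ht : orderOf t = 2) : Good t := by
  haveI : Finite (SpecialLinearGroup ι F) := inferInstance
  have hN : ∀ n ∈ center (SpecialLinearGroup ι F), n * n = 1 → n = 1 := fun n hn h => center_sq hn h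
  have hc : ∀ n ∈ center (SpecialLinearGroup ι F), ∀ g, n * g = g * n :=
    fun n hn g => (mem_center_iff.mp hn g).symm
  obtain ⟨s, rfl⟩ := QuotientGroup.mk'_surjective _ t
  have hs : s * s ∈ center (SpecialLinearGroup ι F) := by
    have h1 : QuotientGroup.mk' (center (SpecialLinearGroup ι F)) (s * s) = 1 := by
      rw [map_mul, ← pow_two, ← ht, pow_orderOf_eq_one]
    exact (QuotientGroup.eq_one_iff _).mp h1
  obtain ⟨n, hn, hsn⟩ := exists_lift hN hc hs
  have hmk : QuotientGroup.mk' (center (SpecialLinearGroup ι F)) (s * n) =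
      QuotientGroup.mk' (center (SpecialLinearGroup ι F)) s := by
    rw [map_mul, show QuotientGroup.mk' (center (SpecialLinearGroup ι F)) n = 1 from
      (QuotientGroup.eq_one_iff _).mpr hn, mul_one]
  rw [← hmk] at ht ⊢
  generalize s * n = t at ht hsn
  clear hmk hs hn n s
  have ht1 : t ≠ 1 := by
    rintro rfl
    rw [map_one, orderOf_one] at ht
    omega
  -- the flag
  let d : (ι → F) →+ (ι → F) := (Matrix.mulVecLin t.1 - LinearMap.id).toAddMonoidHom
  have hd : ∀ v, d v = t.1 *ᵥ v - v := fun v => rfl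
  have hW : ∀ v, v ∈ d.range ↔ ∃ u, v = t.1 *ᵥ u - u := by
    intro v
    constructor
    · rintro ⟨u, hu⟩
      exact ⟨u, hu.symm⟩
    · rintro ⟨u, hu⟩
      exact ⟨u, hu.symm⟩
  have hP : ∀ v, v ∈ d.ker ↔ t.1 *ᵥ v = v := by
    intro v
    rw [AddMonoidHom.mem_ker, hd, sub_eq_zero]
  have htt : ∀ v, t.1 *ᵥ (t.1 *ᵥ v) = v := by
    intro v
    rw [← act_mul, hsn, show (1 : SpecialLinearGroup ι F).1 = 1 from rfl, Matrix.one_mulVec]
  have hWP : d.range ≤ d.ker := by
    rintro _ ⟨u, rfl⟩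
    rw [hP, hd, Matrix.mulVec_sub, htt]
    have h1 : u - t.1 *ᵥ u = -(t.1 *ᵥ u - u) := by abel
    rw [h1]
    ext i
    exact CharTwo.neg_eq _
  refine good_quotient hN hc hsn (Flag.isPGroup_stab add_self_vec act_injective (W := d.range)
    (P := d.ker) (hWP := hWP)) ?_ ?_
  · intro g hg x hx
    have hWg : ∀ g, g * t = t * g → ∀ x ∈ d.range, act g x ∈ d.range := by
      rintro g hg _ ⟨u, rfl⟩
      refine ⟨g.1 *ᵥ u, ?_⟩
      show t.1 *ᵥ (g.1 *ᵥ u) - g.1 *ᵥ u = g.1 *ᵥ (t.1 *ᵥ u - u)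
      rw [Matrix.mulVec_sub, ← act_mul, ← act_mul, hg]
    have hPg : ∀ g, g * t = t * g → ∀ x ∈ d.ker, act g x ∈ d.ker := by
      intro g hg x hx
      rw [hP] at hx ⊢
      show t.1 *ᵥ (g.1 *ᵥ x) = g.1 *ᵥ x
      rw [← act_mul, ← hg, act_mul, hx]
    have hg' : g⁻¹ * t = t * g⁻¹ := by
      have : g⁻¹ * (g * t) * g⁻¹ = g⁻¹ * (t * g) * g⁻¹ := by rw [hg]
      have e1 : g⁻¹ * (g * t) * g⁻¹ = t * g⁻¹ := by group
      have e2 : g⁻¹ * (t * g) * g⁻¹ = g⁻¹ * t := by group
      rw [e1, e2] at this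
      exact this.symm
    have hinv' : ∀ x, act g (act g⁻¹ x) = x := by
      intro x
      have : (act g * act g⁻¹) x = x := by rw [← map_mul, mul_inv_cancel, map_one]; rfl
      exact this
    obtain ⟨x1, x2, x3⟩ := hx
    have e : ∀ v, act (g * x * g⁻¹) v - v = act g (act x (act g⁻¹ v) - act g⁻¹ v) := by
      intro v
      rw [map_sub, hinv', map_mul, map_mul]
      rfl
    refine ⟨fun v hv => ?_, fun v hv => ?_, fun v => ?_⟩
    · rw [← sub_eq_zero, e, x1 _ (hWg _ hg' v hv), sub_self, map_zero]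
    · rw [e]
      exact hWg _ hg _ (x2 _ (hPg _ hg' v hv))
    · rw [e]
      exact hPg _ hg _ (x3 _)
  · intro y _ hyx ho
    have h1 := sq_mem_center hsn ht1 hW hP hWP hyx
    obtain ⟨k, hk⟩ := ho
    have h2 : y = (y * y) ^ (k + 1) := by
      have h3 : y ^ (2 * k + 1) = 1 := by rw [← hk]; exact pow_orderOf_eq_one y
      calc y = y ^ (2 * k + 1) * y := by rw [h3, one_mul]
        _ = (y * y) ^ (k + 1) := by
          rw [← pow_succ, ← pow_two, ← pow_mul]
          congr 1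
    rw [h2]
    exact pow_mem h1 _

theorem even_card_psl {n : ℕ} (hn : 2 ≤ n) : Even (Nat.card (ProjectiveSpecialLinearGroup (Fin n) F)) := by
  obtain ⟨i, j, hij⟩ : ∃ i j : Fin n, i ≠ j := ⟨⟨0, by omega⟩, ⟨1, by omega⟩, by simp⟩
  obtain ⟨g, hg⟩ := exists_transvection (Pi.single i (1 : F)) (LinearMap.proj j) (by
    simp [hij.symm])
  have hgg : g * g = 1 := by
    apply ext_mulVec
    intro v
    rw [act_mul, hg, hg, show (1 : SpecialLinearGroup (Fin n) F).1 = 1 from rfl, Matrix.one_mulVec]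
    simp only [map_add, map_smul, LinearMap.proj_apply, Pi.single_apply, hij.symm, if_false, smul_zero,
      add_zero]
    rw [add_assoc, add_self_vec, add_zero]
  have hgn : g ∉ center (SpecialLinearGroup (Fin n) F) := by
    intro hc
    have h1 := center_sq hc hgg
    have h2 := hg (Pi.single j 1)
    rw [h1, show (1 : SpecialLinearGroup (Fin n) F).1 = 1 from rfl, Matrix.one_mulVec] at h2
    have h3 := congrFun h2 i
    simp [hij] at h3
  have h1 : orderOf (QuotientGroup.mk' (center (SpecialLinearGroup (Fin n) F)) g) = 2 := by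
    apply orderOf_eq_prime
    · rw [← map_pow, pow_two, hgg, map_one]
    · intro h
      exact hgn ((QuotientGroup.eq_one_iff _).mp h)
  have h2 := orderOf_dvd_natCard (QuotientGroup.mk' (center (SpecialLinearGroup (Fin n) F)) g)
  rw [h1] at h2
  exact even_iff_two_dvd.mpr h2

end SL

/-- **`PSL_n(F)`, `n ≥ 2`, in characteristic two is of characteristic 2 type.** -/
theorem psl {G : Type*} [Group G] [Finite G] {F : Type*} [Field F] [Fintype F] (hF : ringChar F = 2)
    {n : ℕ} (hn : 2 ≤ n) (e : G ≃* ProjectiveSpecialLinearGroup (Fin n) F) :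
    IsCharacteristicTwoType G := by
  haveI : CharP F 2 := ringChar.of_eq hF
  exact isCharacteristicTwoType_of_equiv e.symm (even_card_psl hn) (fun t ht => good_psl t ht)

end Cfsg.Agent.OddHalf.Small.PslChar
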