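import Cfsg.Agent.OddHalf.Small.Mathieu
import Cfsg.Agent.KFacts.M24Two.Chain
import Cfsg.Agent.KFacts.M24Two.Orders

/-!
# `M₂₄` is of characteristic 2 type

Involutions with a fixed point: the pointwise stabiliser of the fixed octad. Involutions `w` without fixed points:
`C(w)` has order 7680 and a normal elementary abelian subgroup of order 64 (the hexacode), which is not
centralised by elements of odd order.
-/

set_option autoImplicit false
set_option Elab.async false

namespace Cfsg.Agent.OddHalf.Small.M24Char

open Subgroup Cfsg Crit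
open Cfsg.Agent.SporadicA.GolayBase Cfsg.Agent.SporadicA.GolayPerm
open Cfsg.Agent.SporadicStructure.M24El
open Cfsg.Agent.KFacts.M24Two.Tool Cfsg.Agent.KFacts.M24Two.Chain Cfsg.Agent.KFacts.M24Two.Count
open Cfsg.Agent.KFacts.M24Two.Orders
open Cfsg.Agent.J4.M24InvolData (P1 P2)
open Cfsg.Agent.J4.M24Invol (ok_P1 ok_P2)
open scoped Pointwise

/-- generators of `C(w)` -/
def gl : List ℕ := [630228482836698149921682197694521440, 67668873477902371104140822099635631,
  881043295411814134283149423163118720, 881043257028383132227834193400399913, 839072233265124778766700075840278706,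
  895321348544065433640281511237354579, 882341369585158198895905536963874976, 895322073974323885007150557865284745]

/-- generators of the normal 2-subgroup -/
def qs : List ℕ := [881043295411814134283149423163118720, 881043257028383132227834193400399913,
  839072233265124778766700075840278706, 895321348544065433640281511237354579, 882341369585158198895905536963874976,
  895322073974323885007150557865284745]

/-- levels of a stabiliser chain of `C(w)` -/
def lv : List (ℕ × List ℕ) := [(0, [984818244535754528103549039458486304, 853783127174029838639117741730048513,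
  527895549050069011816076848639093250, 223312317776028514714657695799433763, 880610293690311536785038582505318916,
  839504226049349661781018156253948421, 138137854855379195526037251768201958, 138138046737330107618151566983942823,
  588689784870306825319573089408375336, 881043257028383132227834193400399913, 223351774647474925391255200443510186,
  109206961128807310621100068199286475, 811308612134976883737116609950848140, 667797197349405155220102606267958989,
  57284510076105472759785922409082286, 67668873477902371104140822099635631, 237630552224316811839197089017471088,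
  553111698068032197402961241358054129, 839072233265124778766700075840278706, 895321348544065433640281511237354579,
  798327554944863932024168545022969908, 383687071639400724245329434167805013, 144627809899812677526649003910476534,
  811308650517235742961060887593977911]),
  (1, [984818244535754528103549039458486304, 978327873653409370553588877167592512,
  630228482836698149921682197694521440, 881043295411814134283149423163118720, 882341369585158198895905536963874976,
  345829803494568779522361635072154816, 476525847951328254977410092211706080, 628930408648031223762030269157772544,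
  196092379117455012424470783715393856, 667837140715493862963718904644777312, 305765706136941073938547052205530496,
  626334260065047644586424110470016416, 109207607337946916170941969058708928, 110505681501930474993893063510243808,
  181813563193989834069304283274717696, 352320174492717726171060918307445280, 716829301183783335698978281847477888,
  301871483103846082777572024120595104, 470035476957882563750539506641684160, 720723524219222908317702569693885152]),
  (3, [984818244535754528103549039458486304, 638016928478118129647317100714461216,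
  682115957483838439786319496335296544, 895322112351893729754939324291614752, 155012855407046668400216835609659424,
  839072651686253487359542422669723680, 312452524569638550992656424993425440, 508385710163744619958078029768853536,
  360029987297524293455777244755986464, 483212666745233899397623610791659552, 555708336997665406520234815692212256,
  592348547565827762175298702812940320, 269419589800667918423558385760340000, 724578411393793404484270138823706656,
  419865668829830361526362862034552864, 927117286089915736484671092443285536])]

/-- the words of its elements -/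
def ws : List (List ℕ) := [[], [5, 0, 0, 1], [0, 0, 1], [7, 1, 0, 0, 1], [4, 0, 0, 1], [2, 0, 0, 1], [5, 0, 1], [0,
  1], [0, 0, 0, 1], [3], [6, 1], [1, 0, 0, 1], [1, 0, 1], [7, 0, 0, 0, 1], [3, 1], [1], [1, 4], [2, 0, 1], [4], [5],
  [2, 1, 0, 1], [4, 1, 0, 1], [6, 0, 1], [1, 5, 0, 1], [], [6, 2], [0], [2], [6], [0, 0, 0, 0], [6, 2, 0, 0, 0, 0],
  [0, 6, 2], [0, 2, 0, 0], [0, 6], [0, 0], [2, 0], [0, 0, 0], [6, 0, 2, 0, 0], [6, 0, 0, 0], [6, 0, 0, 0, 0], [2, 0,
  0], [0, 2, 0], [2, 0, 0, 0, 0], [2, 0, 2, 0], [], [1, 2, 1, 1, 0, 1, 0, 1, 1, 0], [1, 0, 0, 0, 0, 4, 1, 1, 1], [7,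
  3, 2], [0, 0, 1, 7, 0, 0, 1, 1], [7, 5, 4], [7, 1, 1, 1, 1, 0, 1, 0], [5, 4, 3, 2], [0, 0, 1, 0, 0, 1, 1, 5], [0,
  0, 1, 0, 0, 3, 1, 1], [2, 0, 4, 0, 1, 0, 0, 1, 1], [1, 1, 0, 1, 0, 1, 1, 1, 0, 0], [5, 4, 0, 1, 1, 0, 0, 1, 0], [3,
  2, 0, 1, 1, 0, 0, 1, 0], [1, 0, 0, 0, 0, 1, 2, 1, 1], [7, 0, 1, 1, 0, 0, 1, 0]]

/-- conjugates of `qs` under `gl` -/
def cj : List (List (List ℕ)) := [[[0, 1, 2, 3, 4], [1, 4], [3, 5], [0, 1, 3, 5], [1, 5], [0, 1, 4]], [[2, 4, 5], [1,
  2, 3], [0, 1, 2, 3, 4], [0, 2, 3, 5], [0], [1, 2, 4, 5]], [[0], [1], [2], [3], [4], [5]], [[0], [1], [2], [3], [4],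
  [5]], [[0], [1], [2], [3], [4], [5]], [[0], [1], [2], [3], [4], [5]], [[0], [1], [2], [3], [4], [5]], [[0], [1],
  [2], [3], [4], [5]]]

/-- some elements of the 2-subgroup -/
def fxl : List ℕ := [527856823813478175538958207099868288, 881043295411814134283149423163118720,
  882341369585158198895905536963874976, 853350704818504528714451361154207923, 984817480725574346059580945626039379,
  507087597616341089573009697045647529, 882340951164029120791731959029401650, 965347130889530981986814178111100032,
  895321693922045871967274210290995378, 521366034510004567398378847634294834]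

/-- their words -/
def fxw : List (List ℕ) := [[0, 2, 3, 5], [0], [4], [0, 2, 5], [0, 1, 3, 5], [0, 2, 3, 4], [3, 4, 5], [1, 5], [0, 1,
  3], [2, 4]]

theorem gl_ok' : gl.all ok = true := by decide +kernel

theorem gl_ok : ∀ P ∈ gl, ok P = true := List.all_eq_true.1 gl_ok'

theorem qs_ok' : qs.all ok = true := by decide +kernel

theorem qs_ok : ∀ P ∈ qs, ok P = true := List.all_eq_true.1 qs_ok'

theorem gl_w : (gl.all fun P => Nat.beq (pcomp P P2) (pcomp P2 P)) = true := by decide +kernel

theorem lv_chk : chkLv [] lv = true := by decide +kernel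

theorem ws_chk : chkW gl (lv.flatMap Prod.snd) ws = true := by decide +kernel

theorem sz_lv : sz lv = 7680 := by decide +kernel

/-- the subgroup generated by the elements of `gl` -/
noncomputable def H : Subgroup M24 := closure {g | ∃ P ∈ gl, g = el P}

theorem H_eq : H = centralizer ({w} : Set M24) := by
  have hle : H ≤ centralizer ({w} : Set M24) := by
    unfold H
    rw [closure_le]
    rintro _ ⟨P, hP, rfl⟩
    have h1 := Nat.eq_of_beq_eq_true (List.all_eq_true.1 gl_w P hP)
    show el P ∈ centralizer ({w} : Set M24)
    rw [mem_centralizer_singleton_iff]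
    show el P * el P2 = el P2 * el P
    rw [← el_pcomp (gl_ok P hP) ok_P2, ← el_pcomp ok_P2 (gl_ok P hP), h1]
  apply eq_of_le_of_card_ge hle
  rw [card_centralizer_w, ← sz_lv]
  have hH : ∀ P ∈ gl, el P ∈ H := fun P hP => Subgroup.subset_closure ⟨P, hP, rfl⟩
  exact sz_le_card gl_ok hH lv_chk ws_chk

/-- the normal 2-subgroup -/
noncomputable def Q : Subgroup M24 := sub qs 6

/-- certificate: the generators commute -/
def ct : List (List (List ℕ)) := (List.range 6).map fun k => (List.range k).map fun j => [j]

theorem ct_chk : ((List.range 6).all fun k => cert qs ct k) = true := by decide +kernel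

theorem isPGroup_Q : IsPGroup 2 Q :=
  isPGroup_sub qs_ok ct 6 fun k hk => List.all_eq_true.1 ct_chk k (List.mem_range.2 hk)

theorem cj_chk : ((List.range gl.length).all fun a => (List.range 6).all fun b =>
    (((cj.getD a []).getD b []).all fun i => Nat.blt i 6) &&
    Nat.beq (pcomp (gl.getD a idP) (qs.getD b idP))
      (pcomp (prodW qs ((cj.getD a []).getD b [])) (gl.getD a idP))) = true := by decide +kernel

theorem H_le : H ≤ normalizer (Q : Set M24) := by
  unfold H
  rw [closure_le]
  rintro _ ⟨P, hP, rfl⟩
  obtain ⟨a, ha, rfl⟩ := List.mem_iff_getElem.1 hP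
  rw [← List.getD_eq_getElem gl idP ha]
  apply mem_normalizer_fintype
  intro x hx
  have h4 : Q.map (MulAut.conj (el (gl.getD a idP))).toMonoidHom ≤ Q := by
    unfold Q sub
    rw [MonoidHom.map_closure, closure_le]
    rintro _ ⟨_, ⟨b, hb, rfl⟩, rfl⟩
    have h1 := List.all_eq_true.1 (List.all_eq_true.1 cj_chk a (List.mem_range.2 ha)) b (List.mem_range.2 hb)
    rw [Bool.and_eq_true] at h1
    have h3 := congrArg el (Nat.eq_of_beq_eq_true h1.2)
    rw [el_pcomp (ok_getD gl_ok a) (ok_getD qs_ok b), el_pcomp (ok_prodW qs_ok _) (ok_getD gl_ok a)] at h3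
    show el (gl.getD a idP) * el (qs.getD b idP) * (el (gl.getD a idP))⁻¹ ∈ sub qs 6
    rw [h3, mul_inv_cancel_right]
    apply el_prodW_mem qs_ok
    intro i hi
    exact mem_sub (Nat.blt_eq.mp (List.all_eq_true.1 h1.1 i hi))
  exact h4 (mem_map_of_mem _ hx)

theorem fx_chk : chkW qs fxl fxw = true := by decide +kernel

theorem fx_mem {P : ℕ} (hP : P ∈ fxl) : el P ∈ Q := by
  refine mem_of_chkW qs_ok fx_chk (fun P hP => ?_) hP
  obtain ⟨b, hb, rfl⟩ := List.mem_iff_getElem.1 hP
  rw [← List.getD_eq_getElem qs idP hb]
  exact mem_sub hb

theorem fxl_ok' : fxl.all ok = true := by decide +kernel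

theorem fxl_ok : ∀ P ∈ fxl, ok P = true := List.all_eq_true.1 fxl_ok'

/-- points with the same fixing elements are interchanged by an element of the list -/
theorem pair_chk : ((List.range 24).all fun i => (List.range 24).all fun j =>
    !(fxl.all fun q => !(Nat.beq (papp q i) i) || Nat.beq (papp q j) j) || Nat.beq i j ||
      fxl.any fun q => Nat.beq (papp q i) j && Nat.beq (papp q j) i) = true := by decide +kernel

/-- An element commuting with `Q` has order at most two. -/
theorem sq_eq_one {y : M24} (hy : ∀ x ∈ Q, y * x = x * y) : y * y = 1 := by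
  apply Subtype.ext
  ext1 p
  show y • (y • p) = p
  -- the elements of `fxl` commute with `y`
  have hc : ∀ q ∈ fxl, ∀ r : GolayPt, y • (pt (papp q (idx r))) = pt (papp q (idx (y • r))) := by
    intro q hq r
    rw [← el_smul_pt (fxl_ok q hq), ← el_smul_pt (fxl_ok q hq), ← mul_smul, ← mul_smul, hy _ (fx_mem hq)]
  have h1 := List.all_eq_true.1 (List.all_eq_true.1 pair_chk (idx p) (List.mem_range.2 (idx_lt p)))
    (idx (y • p)) (List.mem_range.2 (idx_lt _))
  rw [Bool.or_eq_true, Bool.or_eq_true, Bool.not_eq_true'] at h1
  rcases h1 with (h1 | h1) | h1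
  · exfalso
    rw [← Bool.not_eq_true, List.all_eq_true] at h1
    apply h1
    intro q hq
    rw [Bool.or_eq_true, Bool.not_eq_true']
    by_cases h2 : papp q (idx p) = idx p
    · right
      have h3 := hc q hq p
      rw [h2, pt_idx] at h3
      rw [Nat.beq_eq]
      have h4 := congrArg idx h3
      rw [idx_pt (papp_lt (ok_iff.1 (fxl_ok q hq)).1 (idx_lt _))] at h4
      exact h4.symm
    · left
      rw [← Bool.not_eq_true, Nat.beq_eq]
      exact h2
  · have h2 : y • p = p := idx_injective (Nat.eq_of_beq_eq_true h1).symm
    rw [h2, h2]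
  · obtain ⟨q, hq, h2⟩ := List.any_eq_true.1 h1
    rw [Bool.and_eq_true] at h2
    have h3 := Nat.eq_of_beq_eq_true h2.1
    have h4 := Nat.eq_of_beq_eq_true h2.2
    have h5 := hc q hq p
    rw [h3, h4, pt_idx, pt_idx] at h5
    exact h5

/-- The fixed-point-free involutions are good. -/
theorem good_w : Good w := by
  refine ⟨Q, isPGroup_Q, ?_, ?_⟩
  · intro g hg x hx
    have h1 : g ∈ H := by
      rw [H_eq, mem_centralizer_singleton_iff]
      exact hg
    exact (mem_normalizer_iff.mp (H_le h1) x).mp hx
  · intro y _ hyQ hodd
    have h2 := sq_eq_one hyQ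
    have h4 : orderOf y ∣ 2 := orderOf_dvd_of_pow_eq_one (by rw [pow_two]; exact h2)
    rcases (Nat.dvd_prime Nat.prime_two).1 h4 with h | h
    · exact orderOf_eq_one_iff.1 h
    · rw [h] at hodd
      exact absurd hodd (by decide)

/-- **`M₂₄` is of characteristic 2 type.** -/
theorem charTwo_M24 : IsCharacteristicTwoType ↥M24 := by
  have hc : Even (Nat.card ↥M24) := by
    have h1 := orderOf_dvd_natCard w
    have h2 : orderOf w = 2 := orderOf_eq_prime (by rw [pow_two]; exact ww) w_ne_one
    rw [h2] at h1
    exact even_iff_two_dvd.2 h1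
  refine isCharacteristicTwoType hc fun t ht => ?_
  obtain ⟨h2, h1⟩ := Mathieu.sq_of_order ht
  rcases conj_or t h2 h1 with ⟨g, hg⟩ | ⟨g, hg⟩
  · have hz : Good z := by
      refine Mathieu.good (H := M24) le_rfl (t := z) O0_mem (fun x => ?_) (fun q hq => ?_)
      · exact z_fix_iff x
      · exact (Cfsg.Agent.SporadicA.OctadFix.mem_fixOct.1 hq).1
    refine good_iff_of_isConj (isConj_iff.mpr ⟨g⁻¹, ?_⟩) hz
    rw [← hg]; group
  · refine good_iff_of_isConj (isConj_iff.mpr ⟨g⁻¹, ?_⟩) good_w
    rw [← hg]; group

theorem m24 {G : Type*} [Group G] (h : Cfsg.Spor.IsoM24 G) : IsCharacteristicTwoType G := by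
  obtain ⟨e⟩ := h
  exact Transport.isCharacteristicTwoType e.symm charTwo_M24

end Cfsg.Agent.OddHalf.Small.M24Char
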