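import Cfsg.Agent.OddHalf.Small.G23Data
import Cfsg.Agent.GTwoThree.Model

/-!
# Kernel checks for the centralizer of an involution of `G₂(3)`
-/

set_option autoImplicit false
set_option Elab.async false
set_option maxRecDepth 100000

namespace Cfsg.Agent.OddHalf.Small.G23Check

open Cfsg.Lie
open Cfsg.Agent.Lib.PackMat
open Cfsg.Agent.GTwoThree.ModelData
open Cfsg.Agent.GTwoThree.Model
open Cfsg.Agent.OddHalf.Small.G23Data

/-- the image of the row `R0` under a word -/
noncomputable def rr (w : List ℕ) : ℕ :=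
  withC C3 fun _ p r m t nf GM FM LO HI HT => runK p r m t nf GM FM LO HI HT (w.map cd) R0

theorem rr_eq (w : List ℕ) : rr w = run C3 (w.map cd) R0 := rfl

/-- equality of two words -/
noncomputable def eqc (w w' : List ℕ) : Bool := checkEq C3 (w.map cd) (w'.map cd) 0 14

/-- the values of two words on `R0` differ -/
noncomputable def nec (w w' : List ℕ) : Bool := !(Nat.beq (rr w) (rr w'))

theorem R0_ok : OkR C3 R0 := by
  refine ⟨by decide +kernel, ?_⟩
  have : ∀ i < 14, dg C3.s R0 i < C3.p := by decide +kernel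
  exact this

theorem eq_of_eqc {w w' : List ℕ} (h : eqc w w' = true) : ev y w = ev y w' := key w w' h

theorem rr_congr {w w' : List ℕ} (e : ev y w = ev y w') : rr w = rr w' := by
  have e1 : θ (ev X w) = θ (ev X w') := by rw [← ev_y, ← ev_y, e]
  have e2 : ev X w = ev X w' := θ.injective e1
  have e3 : ((w.map cd).map (mat C3)).prod = ((w'.map cd).map (mat C3)).prod := by
    rw [← ev_val, ← ev_val, e2]
  obtain ⟨h1, h2⟩ := run_spec (good_of_check good3) (w.map cd) (ok_map w) R0_ok
  obtain ⟨h3, h4⟩ := run_spec (good_of_check good3) (w'.map cd) (ok_map w') R0_ok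
  rw [rr_eq, rr_eq]
  exact rowVec_injOn h1 h3 (by rw [h2, h4, e3])

theorem ne_of_nec {w w' : List ℕ} (h : nec w w' = true) : ev y w ≠ ev y w' := by
  intro e
  have h5 : nec w w' = false := by
    unfold nec
    rw [rr_congr e, Nat.beq_refl]
    rfl
  rw [h5] at h
  exact Bool.noConfusion h

/-! ### The monomial group -/

theorem NL_zero : NL.getD 0 [] = [] := rfl

theorem NT_check : ∀ i < 48, ∀ k < 4, ((NT.getD i []).getD k 0 < 48 ∧
    eqc (([na, nb, ha, wz].getD k []) ++ NL.getD i []) (NL.getD ((NT.getD i []).getD k 0) []) = true) := by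
  decide +kernel

theorem NZ_check : ∀ i < 48, i ∈ NZ ∨ nec (NL.getD i [] ++ wz) (wz ++ NL.getD i []) = true := by
  decide +kernel

/-! ### The unipotent group -/

/-- the word of `∏ x_r(t_r)`, `6 ≤ r < 12` -/
def uw (a b c d e f : ℕ) : List ℕ := wx 6 a ++ (wx 7 b ++ (wx 8 c ++ (wx 9 d ++ (wx 10 e ++ wx 11 f))))

/-- the check for one word -/
noncomputable def uc (a b c d e f : ℕ) : Bool :=
  (Nat.beq (b + c + e + f) 0) || nec (uw a b c d e f ++ wz) (wz ++ uw a b c d e f)

/-- the check for the last three coordinates -/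
def UC (a b c : ℕ) : Prop := ∀ d < 3, ∀ e < 3, ∀ f < 3, uc a b c d e f = true

noncomputable instance (a b c : ℕ) : Decidable (UC a b c) := by unfold UC; infer_instance

theorem U_check : ∀ a < 3, ∀ b < 3, ∀ c < 3, UC a b c := by
  decide +kernel

theorem U_check' {a b c d e f : ℕ} (ha : a < 3) (hb : b < 3) (hc : c < 3) (hd : d < 3) (he : e < 3) (hf : f < 3) :
    (b = 0 ∧ c = 0 ∧ e = 0 ∧ f = 0) ∨ nec (uw a b c d e f ++ wz) (wz ++ uw a b c d e f) = true := by
  have h := U_check a ha b hb c hc d hd e he f hf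
  unfold uc at h
  rw [Bool.or_eq_true] at h
  rcases h with h | h
  · left
    have := Nat.eq_of_beq_eq_true h
    omega
  · exact Or.inr h

/-! ### `O₂(C(z))` and the Sylow 2-subgroup -/

/-- letters of a word in `PG` -/
def ex (w : List ℕ) : List ℕ := w.flatMap fun k => PG.getD k []

theorem PW_zero : PW.getD 0 [] = [] := rfl

theorem PT_check : ∀ i < 64, ∀ k < 5, ((PT.getD i []).getD k 0 < 64 ∧
    eqc (ex (PW.getD i []) ++ PG.getD k []) (ex (PW.getD ((PT.getD i []).getD k 0) [])) = true) := by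
  decide +kernel

theorem PT_check4 : ∀ i < 32, ∀ k < 4, (PT.getD i []).getD k 0 < 32 := by
  decide +kernel

theorem PW_lt : ∀ i < 64, ∀ k ∈ PW.getD i [], k < 5 := by decide +kernel

theorem PW_lt4 : ∀ i < 32, ∀ k ∈ PW.getD i [], k < 4 := by decide +kernel

theorem PG_four : ∀ k < 5, eqc (PG.getD k [] ++ (PG.getD k [] ++ (PG.getD k [] ++ PG.getD k []))) [] = true := by
  decide +kernel

theorem PW_eight : ∀ i < 64, eqc (ex (PW.getD i []) ++ (ex (PW.getD i []) ++ (ex (PW.getD i []) ++
    (ex (PW.getD i []) ++ (ex (PW.getD i []) ++ (ex (PW.getD i []) ++ (ex (PW.getD i []) ++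
      ex (PW.getD i [])))))))) [] = true := by
  decide +kernel

theorem PW_inv : ∀ i < 64, i = 0 ∨ nec (ex (PW.getD i []) ++ ex (PW.getD i [])) [] = true ∨
    eqc (PC.getD i [] ++ ex (PW.getD i [])) (wz ++ PC.getD i []) = true := by
  decide +kernel

/-- the values on `R0` of the elements of the Sylow subgroup -/
theorem PW_rr : ∀ i < 64, rr (ex (PW.getD i [])) = PR.getD i 0 := by
  decide +kernel

theorem PR_inj : ∀ i < 64, ∀ j < i, PR.getD i 0 ≠ PR.getD j 0 := by decide +kernel

/-! ### The centralizer of `z` -/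

theorem QT_check : ∀ i < 20, ∀ k < 4, ((QT.getD i []).getD k 0 < 32 ∧
    eqc (NG.getD i [] ++ PG.getD k []) (ex (PW.getD ((QT.getD i []).getD k 0) []) ++ NG.getD i []) = true) := by
  decide +kernel

theorem NG_check : ∀ i ∈ NZ, ∃ k < 20, NL.getD i [] = NG.getD k [] := by decide +kernel

theorem NG_wx6 : ∀ a < 3, wx 6 a = [] ∨ ∃ k < 20, wx 6 a = NG.getD k [] := by decide +kernel

theorem NG_wx9 : ∀ a < 3, wx 9 a = [] ∨ ∃ k < 20, wx 9 a = NG.getD k [] := by decide +kernel

theorem C_check : ∀ i ∈ NZ, ∀ a < 3, ∀ d < 3,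
    (∃ k < 4, nec ((NL.getD i [] ++ (wx 6 a ++ wx 9 d)) ++ PG.getD k []) (PG.getD k [] ++ (NL.getD i [] ++ (wx 6 a ++ wx 9 d)))
      = true) ∨
    eqc ((NL.getD i [] ++ (wx 6 a ++ wx 9 d)) ++ (NL.getD i [] ++ (wx 6 a ++ wx 9 d))) [] = true := by
  decide +kernel

end Cfsg.Agent.OddHalf.Small.G23Check
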