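import Cfsg.Prelude.Def_Spor_Mathieu
import Cfsg.Agent.OddHalf.Small.Crit
import Cfsg.Agent.J4.M24Invol

/-!
# `M22` and `M23` are of characteristic 2 type

An involution `t` of `M24` which fixes a point fixes exactly the points of an octad.  The pointwise
stabiliser `Q` of this octad acts regularly on the 16 other points, is normalised by `C(t)`, and an
element of odd order which commutes with `t` and with `Q` is trivial.
-/

set_option autoImplicit false

namespace Cfsg.Agent.OddHalf.Small.M2223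

open Cfsg Equiv Cfsg.Agent.SporadicA.GolayBase Cfsg.Agent.SporadicA Cfsg.Agent.SporadicA.GolayPerm
open Cfsg.Agent.SporadicStructure.M24El Cfsg.Agent.J4.M24InvolData Cfsg.Agent.J4.M24Invol
open Cfsg.Agent.OddHalf.Small.Crit
open scoped Pointwise

theorem P1_fix : ∀ i < 24, papp P1 i = i ↔ octMask.testBit i = true := by decide +kernel

theorem P2_fix : ∀ i < 24, papp P2 i ≠ i := by decide +kernel

theorem P1_fix_iff (p : GolayPt) : el P1 • p = p ↔ p ∈ fin octMask := by
  rw [mem_fin, ← P1_fix _ (idx_lt p), ← idx_el_smul ok_P1]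
  exact ⟨fun h => congrArg idx h, fun h => idx_injective h⟩

theorem P2_fix_ne (p : GolayPt) : el P2 • p ≠ p := by
  intro h
  have h1 := congrArg idx h
  rw [idx_el_smul ok_P2] at h1
  exact P2_fix _ (idx_lt p) h1

/-- a second octad, disjoint from the first -/
def octMask' : ℕ := 2854977

theorem octMask'_mem : fin octMask' ∈ octads := by
  rw [fin_mem_octads_iff (by norm_num [octMask'])]
  exact ⟨by decide +kernel, by decide +kernel⟩

theorem disj : ∀ p, p ∈ fin octMask' → p ∉ fin octMask := by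
  intro p
  rw [mem_fin, mem_fin]
  have h : ∀ i < 24, octMask'.testBit i = true → ¬ octMask.testBit i = true := by decide +kernel
  exact h _ (idx_lt p)

theorem pt_two : pt 2 ∉ fin octMask ∧ pt 2 ∉ fin octMask' := by
  rw [mem_fin, mem_fin, idx_pt (by norm_num)]
  decide

/-- An involution with a fixed point fixes exactly the points of an octad. -/
theorem fix_octad {u : Perm GolayPt} (hu : u ∈ M24) (h2 : u * u = 1) (h1 : u ≠ 1) {p : GolayPt}
    (hp : u p = p) : ∃ g ∈ M24, ∀ q, u q = q ↔ q ∈ g • fin octMask := by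
  obtain ⟨g, hg⟩ := invol_conj ⟨u, hu⟩ (Subtype.ext h2) (fun h => h1 (congrArg Subtype.val h))
  rcases hg with hg | hg
  · refine ⟨(g : Perm GolayPt)⁻¹, inv_mem g.2, fun q => ?_⟩
    have h3 : g • q ∈ fin octMask ↔ q ∈ (g : Perm GolayPt)⁻¹ • fin octMask := by
      rw [Finset.mem_inv_smul_finset_iff]
      exact Iff.rfl
    rw [← h3, ← P1_fix_iff, ← hg, mul_smul, mul_smul, inv_smul_smul]
    constructor
    · intro h
      have h4 : (⟨u, hu⟩ : M24) • q = q := h
      rw [h4]
    · intro h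
      exact MulAction.injective g h
  · exfalso
    apply P2_fix_ne (g • p)
    rw [← hg, mul_smul, mul_smul, inv_smul_smul]
    have h4 : (⟨u, hu⟩ : M24) • p = p := hp
    rw [h4]

/-- An element fixing all points outside an octad is trivial. -/
theorem eq_one_of_fix_compl {g y : Perm GolayPt} (hg : g ∈ M24) (hy : y ∈ M24)
    (h : ∀ q, q ∉ g • fin octMask → y q = q) : y = 1 := by
  have ho : g • fin octMask' ∈ octads := (GolayPerm.smul_mem_octads hg).2 octMask'_mem
  have hm : ∀ (m : ℕ) (q : GolayPt), g q ∈ g • fin m ↔ q ∈ fin m := fun m q =>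
    Finset.smul_mem_smul_finset_iff g
  refine Cfsg.Agent.SporadicStructure.M24Frame.eq_one_of_fix_frame hy ho (Finset.Subset.refl _) ?_ ?_
    (p := g (pt 2)) ?_ ?_
  · rw [octad_card ho]
    norm_num
  · intro z hz
    apply h
    obtain ⟨q, hq, rfl⟩ := Finset.mem_smul_finset.1 hz
    intro h1
    exact disj q hq ((hm _ _).1 h1)
  · intro h1
    exact pt_two.2 ((hm _ _).1 h1)
  · apply h
    intro h1
    exact pt_two.1 ((hm _ _).1 h1)

section Sub

variable (H : Subgroup (Perm GolayPt)) (o : Finset GolayPt)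

/-- The pointwise stabiliser of `o` in `H`. -/
def Q : Subgroup H where
  carrier := {x | ∀ p ∈ o, (x : Perm GolayPt) p = p}
  one_mem' := fun _ _ => rfl
  mul_mem' := fun {a b} ha hb p hp => by
    show (a : Perm GolayPt) ((b : Perm GolayPt) p) = p
    rw [hb p hp, ha p hp]
  inv_mem' := fun {a} ha p hp => by
    show (a : Perm GolayPt)⁻¹ p = p
    rw [Perm.inv_eq_iff_eq, ha p hp]

variable {H o}

theorem mem_Q {x : H} : x ∈ Q H o ↔ ∀ p ∈ o, (x : Perm GolayPt) p = p := Iff.rfl

variable (hH : ∀ g : Perm GolayPt, g ∈ M24 → (∀ p ∈ o, g p = p) → g ∈ H) (hH' : H ≤ M24)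
  (ho : o ∈ octads)

include hH' ho in
theorem Q_free {x : H} (hx : x ∈ Q H o) {p : GolayPt} (hp : p ∉ o)
    (h : (x : Perm GolayPt) p = p) : x = 1 := by
  apply Subtype.ext
  exact Cfsg.Agent.SporadicStructure.M24Frame.eq_one_of_fix_frame (hH' x.2) ho
    (Finset.Subset.refl _) (by rw [octad_card ho]; norm_num) (fun z hz => hx z hz) hp h

include hH ho in
theorem Q_trans {p q : GolayPt} (hp : p ∉ o) (hq : q ∉ o) :
    ∃ x ∈ Q H o, (x : Perm GolayPt) p = q := by
  obtain ⟨g, hg, h1, h2⟩ :=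
    Cfsg.Agent.SporadicStructure.M24Frame.exists_fix_octad_map ho hp hq
  exact ⟨⟨g, hH g hg h1⟩, h1, h2⟩

theorem Q_maps {x : H} (hx : x ∈ Q H o) {p : GolayPt} (hp : p ∉ o) : (x : Perm GolayPt) p ∉ o := by
  intro h
  have h1 := hx _ h
  exact hp (by rwa [(x : Perm GolayPt).injective h1] at h)

include hH hH' ho in
theorem card_Q : Nat.card (Q H o) = 16 := by
  obtain ⟨p, hp⟩ : ∃ p, p ∉ o := by
    by_contra hno
    push Not at hno
    have h1 : o = Finset.univ := Finset.eq_univ_iff_forall.mpr hno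
    have h2 := octad_card ho
    rw [h1] at h2
    exact absurd h2 (by decide)
  have e : Q H o ≃ {q // q ∈ oᶜ} := by
    refine Equiv.ofBijective (fun x => ⟨(x : Perm GolayPt) p, Finset.mem_compl.2
      (Q_maps x.2 hp)⟩) ⟨?_, ?_⟩
    · intro x y hxy
      have h1 : ((x : H) : Perm GolayPt) p = ((y : H) : Perm GolayPt) p :=
        congrArg Subtype.val hxy
      have h2 : (y : H)⁻¹ * (x : H) = 1 := by
        refine Q_free hH' ho (mul_mem (inv_mem y.2) x.2) hp ?_
        show ((y : H) : Perm GolayPt)⁻¹ (((x : H) : Perm GolayPt) p) = p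
        rw [h1, Perm.inv_eq_iff_eq]
      apply Subtype.ext
      rw [inv_mul_eq_one] at h2
      exact h2.symm
    · rintro ⟨q, hq⟩
      obtain ⟨x, hx, h1⟩ := Q_trans hH ho hp (Finset.mem_compl.1 hq)
      exact ⟨⟨x, hx⟩, Subtype.ext h1⟩
  rw [Nat.card_congr e, Nat.card_eq_fintype_card, Fintype.card_coe, Finset.card_compl,
    octad_card ho]
  decide

include hH hH' ho in
/-- An element of odd order which commutes with `Q` and preserves `o` fixes all points outside
`o`. -/
theorem fix_compl {y : H} (hyo : ∀ p, p ∉ o → (y : Perm GolayPt) p ∉ o)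
    (hy : ∀ x ∈ Q H o, y * x = x * y) (hodd : Odd (orderOf y)) {p : GolayPt} (hp : p ∉ o) :
    (y : Perm GolayPt) p = p := by
  obtain ⟨x, hx, hxp⟩ := Q_trans hH ho hp (hyo p hp)
  have hpow : ∀ n : ℕ, ((y ^ n : H) : Perm GolayPt) p = ((x ^ n : H) : Perm GolayPt) p := by
    intro n
    induction n with
    | zero => rfl
    | succ n ih =>
      have h1 : y ^ (n + 1) = y * y ^ n := pow_succ' y n
      have h2 : x ^ (n + 1) = x ^ n * x := pow_succ x n
      have h3 : y * x ^ n = x ^ n * y := hy _ (pow_mem hx n)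
      rw [h1, h2]
      show (y : Perm GolayPt) (((y ^ n : H) : Perm GolayPt) p) =
        ((x ^ n : H) : Perm GolayPt) ((x : Perm GolayPt) p)
      rw [ih, hxp]
      exact congrArg (fun z : H => (z : Perm GolayPt) p) h3
  have h1 := hpow (orderOf y)
  rw [pow_orderOf_eq_one] at h1
  have h2 : x ^ orderOf y = 1 := Q_free hH' ho (pow_mem hx _) hp h1.symm
  have h3 : orderOf x ∣ orderOf y := orderOf_dvd_of_pow_eq_one h2
  have h4 : orderOf x ∣ 16 := by
    rw [← card_Q hH hH' ho]
    exact Subgroup.orderOf_dvd_natCard _ hx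
  have h5 : orderOf x = 1 := by
    have h6 : Nat.Coprime (orderOf y) 16 := by
      rw [show 16 = 2 ^ 4 by norm_num]
      exact Nat.Coprime.pow_right 4 hodd.coprime_two_right
    exact Nat.eq_one_of_dvd_coprimes h6 h3 h4
  rw [orderOf_eq_one_iff] at h5
  rw [← hxp, h5]
  rfl

end Sub

/-- The criterion for the pointwise stabiliser of a subset `Z` of an octad. -/
theorem main (H : Subgroup (Perm GolayPt)) (Z : Set GolayPt) (hne : Z.Nonempty)
    (hH : ∀ g, g ∈ H ↔ g ∈ M24 ∧ ∀ z ∈ Z, g z = z)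
    (hZ : ∃ o ∈ octads, ∀ z ∈ Z, z ∈ o) :
    Even (Nat.card H) ∧ ∀ t : H, orderOf t = 2 → Good t := by
  have hH' : H ≤ M24 := fun g hg => ((hH g).1 hg).1
  have hK : ∀ o : Finset GolayPt, (∀ z ∈ Z, z ∈ o) → ∀ g : Perm GolayPt, g ∈ M24 →
      (∀ p ∈ o, g p = p) → g ∈ H := fun o hZo g hg h =>
    (hH g).2 ⟨hg, fun z hz => h z (hZo z hz)⟩
  constructor
  · obtain ⟨o, ho, hZo⟩ := hZ
    have h1 : Nat.card (Q H o) ∣ Nat.card H := Subgroup.card_subgroup_dvd_card _
    rw [card_Q (hK o hZo) hH' ho] at h1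
    exact even_iff_two_dvd.2 (Dvd.dvd.trans (by norm_num) h1)
  · intro t ht
    have htt : (t : Perm GolayPt) * t = 1 := by
      have h1 := pow_orderOf_eq_one t
      rw [ht, pow_two] at h1
      exact congrArg Subtype.val h1
    have ht1 : (t : Perm GolayPt) ≠ 1 := by
      intro h
      have h1 : t = 1 := Subtype.ext h
      rw [h1, orderOf_one] at ht
      exact absurd ht (by norm_num)
    obtain ⟨z, hz⟩ := hne
    obtain ⟨g, hg, hfix⟩ := fix_octad (hH' t.2) htt ht1 (((hH t).1 t.2).2 z hz)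
    have ho : g • fin octMask ∈ octads := (GolayPerm.smul_mem_octads hg).2 octMask_mem
    have hZo : ∀ z ∈ Z, z ∈ g • fin octMask := fun z hz => (hfix z).1 (((hH t).1 t.2).2 z hz)
    have hcomm : ∀ c : H, c * t = t * c → ∀ p, (c : Perm GolayPt) p ∈ g • fin octMask ↔
        p ∈ g • fin octMask := by
      intro c hc p
      rw [← hfix, ← hfix]
      have h1 : (t : Perm GolayPt) ((c : Perm GolayPt) p) = (c : Perm GolayPt) ((t : Perm GolayPt) p) :=
        congrArg (fun w : H => (w : Perm GolayPt) p) hc.symm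
      rw [h1]
      exact ⟨fun h => (c : Perm GolayPt).injective h, fun h => by rw [h]⟩
    refine ⟨Q H (g • fin octMask), ?_, ?_, ?_⟩
    · exact IsPGroup.of_card (n := 4) (by rw [card_Q (hK _ hZo) hH' ho]; norm_num)
    · intro c hc x hx p hp
      show (c : Perm GolayPt) ((x : Perm GolayPt) ((c : Perm GolayPt)⁻¹ p)) = p
      have h1 : (c : Perm GolayPt)⁻¹ p ∈ g • fin octMask := by
        rw [← hcomm c hc]
        have h2 : (c : Perm GolayPt) ((c : Perm GolayPt)⁻¹ p) = p := Equiv.apply_symm_apply _ _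
        rw [h2]
        exact hp
      rw [hx _ h1]
      exact Equiv.apply_symm_apply _ _
    · intro y hyt hyQ hodd
      apply Subtype.ext
      apply eq_one_of_fix_compl hg (hH' y.2)
      intro q hq
      exact fix_compl (hK _ hZo) hH' ho (fun p hp h => hp ((hcomm y hyt p).1 h)) hyQ hodd hq

theorem M23_good : Even (Nat.card Spor.M23) ∧ ∀ t : Spor.M23, orderOf t = 2 → Good t := by
  refine main Spor.M23 {none} (Set.singleton_nonempty _) ?_ ?_
  · intro g
    constructor
    · rintro ⟨h1, h2⟩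
      refine ⟨h1, ?_⟩
      rintro z rfl
      exact h2
    · rintro ⟨h1, h2⟩
      exact ⟨h1, h2 none rfl⟩
  · refine ⟨_, Cfsg.Agent.SporadicStructure.M24Frame.stdOctad_mem, ?_⟩
    rintro z rfl
    decide +kernel

theorem M22_good : Even (Nat.card Spor.M22) ∧ ∀ t : Spor.M22, orderOf t = 2 → Good t := by
  refine main Spor.M22 {none, some 0} (Set.insert_nonempty _ _) ?_ ?_
  · intro g
    constructor
    · rintro ⟨⟨h1, h2⟩, h3⟩
      refine ⟨h1, ?_⟩
      rintro z (rfl | rfl)
      · exact h2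
      · exact h3
    · rintro ⟨h1, h2⟩
      exact ⟨⟨h1, h2 none (Or.inl rfl)⟩, h2 (some 0) (Or.inr rfl)⟩
  · refine ⟨_, Cfsg.Agent.SporadicStructure.M24Frame.stdOctad_mem, ?_⟩
    rintro z (rfl | rfl)
    · decide +kernel
    · decide +kernel

universe u

/-- The row `m22` of `RowsTwo`. -/
theorem m22 (G : Type u) [Group G] [Finite G] (h : Spor.IsoM22 G) : IsCharacteristicTwoType G := by
  obtain ⟨e⟩ := h
  exact isCharacteristicTwoType_of_equiv e.symm M22_good.1 M22_good.2

/-- The row `m23` of `RowsTwo`. -/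
theorem m23 (G : Type u) [Group G] [Finite G] (h : Spor.IsoM23 G) : IsCharacteristicTwoType G := by
  obtain ⟨e⟩ := h
  exact isCharacteristicTwoType_of_equiv e.symm M23_good.1 M23_good.2

end Cfsg.Agent.OddHalf.Small.M2223
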