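import Cfsg.Agent.OddHalf.Small.U43Mat
import Cfsg.Agent.OddHalf.Small.Crit

/-!
# `PSU₄(3)`: the centralizer of `diag(1, 1, -1, -1)`
-/

set_option autoImplicit false

namespace Cfsg.Agent.OddHalf.Small.U43Good

open Matrix Cfsg Cfsg.Agent.OddHalf.Small.U43Mat Cfsg.Agent.OddHalf.Small.Crit
open Cfsg.Agent.LieClassical.HermSiegel Cfsg.Agent.LieClassical.SUBasic
open Cfsg.Agent.ClassicalGeometry.UnitAutBasic (pr pr_surjective)

variable {F : Type*} [Field F] [CharP F 3]

theorem st_mat (g : SU 4 F 3) : st (mat g) * mat g = 1 := by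
  have h : ∀ u v, hermForm 4 F 3 (mat g *ᵥ u) (mat g *ᵥ v) = hermForm 4 F 3 u v :=
    (LieClassical.SUBasic.mem_SU_iff _).1 g.2
  have h1 : (mat g)ᵀ * (mat g).map (frobenius F 3) = 1 := by
    ext i j
    have h2 := h (Pi.single i 1) (Pi.single j 1)
    rw [mulVec_single_one, mulVec_single_one] at h2
    unfold hermForm at h2
    rw [mul_apply]
    have h3 : ∑ k, (Pi.single i (1 : F) : Fin 4 → F) k * (Pi.single j (1 : F) : Fin 4 → F) k ^ 3 =
        (1 : M4 F) i j := by
      rw [Finset.sum_eq_single i]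
      · rw [Pi.single_eq_same, one_mul, one_apply]
        by_cases hij : i = j
        · subst hij
          rw [Pi.single_eq_same, if_pos rfl, one_pow]
        · rw [Pi.single_eq_of_ne hij, if_neg hij]
          ring
      · intro k _ hk
        rw [Pi.single_eq_of_ne hk, zero_mul]
      · intro hi
        exact absurd (Finset.mem_univ i) hi
    rw [h3] at h2
    rw [← h2]
    rfl
  have h2 := congrArg transpose h1
  rw [transpose_mul, transpose_transpose, transpose_one] at h2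
  exact h2

theorem mat_inv (g : SU 4 F 3) : mat g⁻¹ = st (mat g) := by
  have h1 : mat g * mat g⁻¹ = 1 := by rw [← mat_mul, mul_inv_cancel, mat_one]
  calc mat g⁻¹ = (st (mat g) * mat g) * mat g⁻¹ := by rw [st_mat, one_mul]
    _ = st (mat g) := by rw [mul_assoc, h1, mul_one]

omit [CharP F 3] in
theorem mat_pow (g : SU 4 F 3) (k : ℕ) : mat (g ^ k) = mat g ^ k := by
  induction k with
  | zero => rw [pow_zero, pow_zero, mat_one]
  | succ k ih => rw [pow_succ, pow_succ, mat_mul, ih]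

/-- The preimage of `O₂(C(t))`. -/
def Q0 (h9 : ∀ x : F, x ^ 9 = x) : Subgroup (SU 4 F 3) where
  carrier := {x | b12 (mat x) = 0 ∧ b21 (mat x) = 0 ∧ IsQ (b11 (mat x)) ∧ IsQ (b22 (mat x))}
  one_mem' := by
    refine ⟨?_, ?_, ?_, ?_⟩ <;> rw [mat_one]
    · exact b12_one
    · exact b21_one
    · rw [b11_one]; exact IsQ.one
    · rw [b22_one]; exact IsQ.one
  mul_mem' := by
    rintro x y ⟨x1, x2, x3, x4⟩ ⟨y1, y2, y3, y4⟩
    refine ⟨?_, ?_, ?_, ?_⟩ <;> rw [mat_mul]
    · rw [b12_mul, x1, y1, mul_zero, zero_mul, add_zero]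
    · rw [b21_mul, x2, y2, mul_zero, zero_mul, add_zero]
    · rw [b11_mul, x1, zero_mul, add_zero]; exact x3.mul y3
    · rw [b22_mul, x2, zero_mul, zero_add]; exact x4.mul y4
  inv_mem' := by
    rintro x ⟨x1, x2, x3, x4⟩
    refine ⟨?_, ?_, ?_, ?_⟩ <;> rw [mat_inv]
    · rw [b12_st, x2]; ext i j; simp [st_apply]
    · rw [b21_st, x1]; ext i j; simp [st_apply]
    · rw [b11_st]; exact x3.st h9
    · rw [b22_st]; exact x4.st h9

theorem mem_Q0 {h9 : ∀ x : F, x ^ 9 = x} {x : SU 4 F 3} : x ∈ Q0 h9 ↔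
    b12 (mat x) = 0 ∧ b21 (mat x) = 0 ∧ IsQ (b11 (mat x)) ∧ IsQ (b22 (mat x)) := Iff.rfl

omit [CharP F 3] in
/-- block diagonal matrices: powers -/
theorem blk_pow {M : M4 F} (h12 : b12 M = 0) (h21 : b21 M = 0) (k : ℕ) :
    b12 (M ^ k) = 0 ∧ b21 (M ^ k) = 0 ∧ b11 (M ^ k) = b11 M ^ k ∧ b22 (M ^ k) = b22 M ^ k := by
  induction k with
  | zero => exact ⟨b12_one, b21_one, b11_one, b22_one⟩
  | succ k ih =>
    obtain ⟨i1, i2, i3, i4⟩ := ih
    rw [pow_succ, pow_succ, pow_succ, b12_mul, b21_mul, b11_mul, b22_mul, h12, h21, i1, i2, i3, i4]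
    simp

theorem Q0_pow {h9 : ∀ x : F, x ^ 9 = x} {x : SU 4 F 3} (hx : x ∈ Q0 h9) : x ^ 4 = 1 := by
  obtain ⟨x1, x2, x3, x4⟩ := mem_Q0.1 hx
  apply mat_injective
  rw [mat_pow, mat_one]
  obtain ⟨i1, i2, i3, i4⟩ := blk_pow x1 x2 4
  refine ext4 ?_ ?_ ?_ ?_
  · rw [i3, x3.pow_four, b11_one]
  · rw [i1, b12_one]
  · rw [i2, b21_one]
  · rw [i4, x4.pow_four, b22_one]

theorem isPGroup_Q0 (h9 : ∀ x : F, x ^ 9 = x) : IsPGroup 2 (Q0 h9) := by
  rintro ⟨x, hx⟩
  exact ⟨2, Subtype.ext (Q0_pow hx)⟩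

theorem two_ne : (2 : F) ≠ 0 := by
  have h3 : (3 : F) = 0 := by exact_mod_cast CharP.cast_eq_zero F 3
  intro h2
  have : (1 : F) = 0 := by linear_combination h3 - h2
  exact one_ne_zero this

theorem eq_zero_of_neg {A : M2 F} (h : -A = A) : A = 0 := by
  ext i j
  have h1 := congrFun (congrFun h i) j
  rw [Matrix.neg_apply] at h1
  have h2 : (2 : F) * A i j = 0 := by linear_combination -h1
  exact (mul_eq_zero.1 h2).resolve_left two_ne

/-- A matrix commuting with `D` up to a scalar is block diagonal or block antidiagonal. -/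
theorem blk_or {M : M4 F} {c : F} (h : M * D4 F = c • (D4 F * M)) :
    (b12 M = 0 ∧ b21 M = 0) ∨ (b11 M = 0 ∧ b22 M = 0) := by
  have h11 := congrArg b11 h
  have h12 := congrArg b12 h
  have h21 := congrArg b21 h
  have h22 := congrArg b22 h
  have s11 : ∀ N : M4 F, b11 (c • N) = c • b11 N := fun N => rfl
  have s12 : ∀ N : M4 F, b12 (c • N) = c • b12 N := fun N => rfl
  have s21 : ∀ N : M4 F, b21 (c • N) = c • b21 N := fun N => rfl
  have s22 : ∀ N : M4 F, b22 (c • N) = c • b22 N := fun N => rfl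
  rw [s11, b11_mul, b11_mul, b11_D, b12_D, b21_D, mul_one, mul_zero, add_zero, zero_mul, add_zero, one_mul] at h11
  rw [s12, b12_mul, b12_mul, b11_D, b12_D, b22_D, mul_zero, zero_add, zero_mul, add_zero, one_mul] at h12
  rw [s21, b21_mul, b21_mul, b11_D, b21_D, b22_D, mul_one, mul_zero, add_zero, zero_mul, zero_add] at h21
  rw [s22, b22_mul, b22_mul, b12_D, b21_D, b22_D, mul_zero, zero_add, zero_mul, zero_add] at h22
  by_cases hc : c = 1
  · left
    rw [hc, one_smul] at h12 h21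
    constructor
    · apply eq_zero_of_neg
      calc -(b12 M) = b12 M * -1 := by simp
        _ = b12 M := h12
    · apply eq_zero_of_neg
      calc -(b21 M) = -1 * b21 M := by simp
        _ = b21 M := h21.symm
  · right
    have key : ∀ A : M2 F, A = c • A → A = 0 := by
      intro A hA
      ext i j
      have h1 := congrFun (congrFun hA i) j
      rw [Matrix.smul_apply, smul_eq_mul] at h1
      have h2 : (1 - c) * A i j = 0 := by linear_combination h1
      exact (mul_eq_zero.1 h2).resolve_left (fun h3 => hc (by linear_combination -h3))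
    constructor
    · exact key _ h11
    · apply key
      have h1 : -(b22 M) = -(c • b22 M) := by
        calc -(b22 M) = b22 M * (-1) := by simp
          _ = c • (-1 * b22 M) := h22
          _ = -(c • b22 M) := by simp
      exact neg_injective h1

omit [CharP F 3] in
theorem mat_of_pr_eq [Fintype F] (hF : Fintype.card F = 9) {g g' : SU 4 F 3}
    (h : pr 4 F 3 g = pr 4 F 3 g') : ∃ c : F, c ^ 4 = 1 ∧ mat g' = c • mat g := by
  obtain ⟨c, hc, hx⟩ := Cfsg.Agent.ClassicalGeometry.UnitAutBasic.exists_scalar_of_pr_eq (q := 3)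
    (by rw [hF]; norm_num) (by norm_num) h
  refine ⟨c, by rw [← hc]; ring, ?_⟩
  ext i j
  have h1 := congrFun (hx (Pi.single j 1)) i
  rw [Pi.smul_apply, act_single, act_single] at h1
  exact h1

omit [CharP F 3] in
theorem pr_eq_of_mat {g g' : SU 4 F 3} {c : F} (h : mat g' = c • mat g) :
    pr 4 F 3 g = pr 4 F 3 g' := by
  refine Cfsg.Agent.ClassicalGeometry.UnitAutBasic.pr_eq_of_scalar (c := c) fun x => ?_
  rw [act_def, act_def, h, smul_mulVec]

/-- `diag(1, 1, -1, -1)` in `SU₄(3)` -/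
def d : SU 4 F 3 := suDiag 3 ![1, 1, -1, -1] (by simp [Fin.prod_univ_four]) (by
  intro i; fin_cases i <;> norm_num)

omit [CharP F 3] in
theorem mat_d : mat (d : SU 4 F 3) = D4 F := rfl

theorem u11 {M : M4 F} (h : st M * M = 1) (h21 : b21 M = 0) : st (b11 M) * b11 M = 1 := by
  have h1 := congrArg b11 h
  rw [b11_mul, h21, mul_zero, add_zero, b11_st, b11_one] at h1
  exact h1

theorem u22 {M : M4 F} (h : st M * M = 1) (h12 : b12 M = 0) : st (b22 M) * b22 M = 1 := by
  have h1 := congrArg b22 h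
  rw [b22_mul, h12, mul_zero, zero_add, b22_st, b22_one] at h1
  exact h1

theorem u12 {M : M4 F} (h : st M * M = 1) (h22 : b22 M = 0) : st (b12 M) * b12 M = 1 := by
  have h1 := congrArg b22 h
  rw [b22_mul, h22, mul_zero, add_zero, b21_st, b22_one] at h1
  exact h1

theorem u21 {M : M4 F} (h : st M * M = 1) (h11 : b11 M = 0) : st (b21 M) * b21 M = 1 := by
  have h1 := congrArg b11 h
  rw [b11_mul, h11, mul_zero, zero_add, b12_st, b11_one] at h1
  exact h1

theorem st_zero' : st (0 : M2 F) = 0 := by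
  ext i j; simp [st_apply]

theorem conj_mem {h9 : ∀ x : F, x ^ 9 = x} {g x : SU 4 F 3} {c : F}
    (hg : mat g * D4 F = c • (D4 F * mat g)) (hx : x ∈ Q0 h9) : g * x * g⁻¹ ∈ Q0 h9 := by
  have hu := st_mat g
  obtain ⟨x1, x2, x3, x4⟩ := mem_Q0.1 hx
  rw [mem_Q0, mat_mul, mat_mul, mat_inv]
  rcases blk_or hg with ⟨g1, g2⟩ | ⟨g1, g2⟩
  · refine ⟨?_, ?_, ?_, ?_⟩
    · rw [b12_mul, b12_mul, b12_st, g1, g2, x1, st_zero']; simp
    · rw [b21_mul, b21_mul, b21_st, g1, g2, x2, st_zero']; simp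
    · rw [b11_mul, b11_mul, b12_mul, b11_st, b21_st, g1, st_zero', mul_zero, add_zero, zero_mul, add_zero]
      exact x3.conj h9 (u11 hu g2)
    · rw [b22_mul, b21_mul, b22_mul, b22_st, b12_st, g2, st_zero', mul_zero, zero_add, zero_mul, zero_add]
      exact x4.conj h9 (u22 hu g1)
  · refine ⟨?_, ?_, ?_, ?_⟩
    · rw [b12_mul, b11_mul, b22_st, g1, g2, x2, st_zero']; simp
    · rw [b21_mul, b22_mul, b11_st, g1, g2, x1, st_zero']; simp
    · rw [b11_mul, b12_mul, b11_st, b21_st, g1, st_zero', mul_zero, zero_add, zero_mul, zero_add]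
      exact x4.conj h9 (u12 hu g2)
    · rw [b22_mul, b21_mul, b12_st, b22_st, g2, st_zero', mul_zero, add_zero, zero_mul, add_zero]
      exact x3.conj h9 (u21 hu g1)

/-! ### Test elements -/

/-- `J ⊕ 1` -/
def j1 : SU 4 F 3 := mkSU !![0, 1, 0, 0; -1, 0, 0, 0; 0, 0, 1, 0; 0, 0, 0, 1]
  (by simp [det_succ_row_zero, Fin.sum_univ_succ, Fin.succAbove]) (by
    intro u v
    simp only [hermForm_apply, Fin.sum_univ_four]
    simp [mulVec, dotProduct, Fin.sum_univ_four]
    ring)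

/-- `1 ⊕ J` -/
def j2 : SU 4 F 3 := mkSU !![1, 0, 0, 0; 0, 1, 0, 0; 0, 0, 0, 1; 0, 0, -1, 0]
  (by simp [det_succ_row_zero, Fin.sum_univ_succ, Fin.succAbove]) (by
    intro u v
    simp only [hermForm_apply, Fin.sum_univ_four]
    simp [mulVec, dotProduct, Fin.sum_univ_four]
    ring)

/-- `diag(a, -a, 1, 1)` -/
def i1 (a : F) (ha : a ^ 2 = -1) : SU 4 F 3 := suDiag 3 ![a, -a, 1, 1]
  (by simp [Fin.prod_univ_four]; linear_combination -ha) (by
  have h4 : a ^ 4 = 1 := by linear_combination (a ^ 2 - 1) * ha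
  intro i; fin_cases i <;> simp [h4, Even.neg_pow (show Even 4 by decide)])

/-- `diag(1, 1, a, -a)` -/
def i2 (a : F) (ha : a ^ 2 = -1) : SU 4 F 3 := suDiag 3 ![1, 1, a, -a]
  (by simp [Fin.prod_univ_four]; linear_combination -ha) (by
  have h4 : a ^ 4 = 1 := by linear_combination (a ^ 2 - 1) * ha
  intro i; fin_cases i <;> simp [h4, Even.neg_pow (show Even 4 by decide)])

/-- `J` -/
def J2 (F : Type*) [Field F] : M2 F := !![0, 1; -1, 0]

theorem isQ_J : IsQ (J2 F) := by
  refine ⟨?_, ?_, Or.inl (by simp [J2])⟩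
  · ext i j
    rw [mul_apply, Fin.sum_univ_two, st_apply, st_apply]
    fin_cases i <;> fin_cases j <;> simp [J2] <;> ring
  · rw [det_fin_two]; simp [J2]

theorem isQ_diag {a : F} (ha : a ^ 2 = -1) : IsQ (diagonal ![a, -a]) := by
  have h4 : a ^ 4 = 1 := by linear_combination (a ^ 2 - 1) * ha
  refine ⟨?_, ?_, Or.inr (by simp)⟩
  · ext i j
    rw [mul_apply, Fin.sum_univ_two, st_apply, st_apply]
    fin_cases i <;> fin_cases j <;> (simp; try linear_combination h4)
  · rw [det_diagonal, Fin.prod_univ_two]; simp; linear_combination -ha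

theorem mul_self_zero {a x : F} (ha : a ^ 2 = -1) (h : x * (-a) = a * x) : x = 0 := by
  have h1 : (2 : F) * x = 0 := by linear_combination a * h + 2 * x * ha
  exact (mul_eq_zero.1 h1).resolve_left two_ne

theorem scalar_of_comm {a : F} (ha : a ^ 2 = -1) {X : M2 F}
    (h1 : X * diagonal ![a, -a] = diagonal ![a, -a] * X) (h2 : X * J2 F = J2 F * X) :
    X = X 0 0 • (1 : M2 F) := by
  have e1 := congrFun (congrFun h1 0) 1
  have e2 := congrFun (congrFun h1 1) 0
  have e3 := congrFun (congrFun h2 0) 1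
  rw [mul_diagonal, diagonal_mul] at e1 e2
  rw [mul_apply, mul_apply, Fin.sum_univ_two, Fin.sum_univ_two] at e3
  simp only [cons_val_zero, cons_val_one] at e1 e2
  simp [J2] at e3
  have f1 := mul_self_zero ha e1
  have f2 : X 1 0 = 0 := by
    refine mul_self_zero (a := -a) (by rw [neg_sq]; exact ha) ?_
    rw [neg_neg]; exact e2
  ext i j
  fin_cases i <;> fin_cases j
  · simp
  · simpa using f1
  · simpa using f2
  · simpa using e3.symm

theorem one_of_smul {X : M2 F} (hX : st X * X = 1) {c : F} (h : X = c • X) : c = 1 := by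
  have h1 : (1 : M2 F) = c • (1 : M2 F) := by
    calc (1 : M2 F) = st X * X := hX.symm
      _ = st X * (c • X) := by rw [← h]
      _ = c • (1 : M2 F) := by rw [Matrix.mul_smul, hX]
  have h2 := congrFun (congrFun h1 0) 0
  rw [Matrix.smul_apply, one_apply_eq, smul_eq_mul, mul_one] at h2
  exact h2.symm

theorem comm11 [Fintype F] (hF : Fintype.card F = 9) {x z : SU 4 F 3} (x1 : b12 (mat x) = 0)
    (x2 : b21 (mat x) = 0) (z1 : b12 (mat z) = 0) (z2 : b21 (mat z) = 0) (z3 : b22 (mat z) = 1)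
    (h : pr 4 F 3 x * pr 4 F 3 z = pr 4 F 3 z * pr 4 F 3 x) :
    b11 (mat x) * b11 (mat z) = b11 (mat z) * b11 (mat x) := by
  rw [← map_mul, ← map_mul] at h
  obtain ⟨c, -, hc⟩ := mat_of_pr_eq hF h
  rw [mat_mul, mat_mul] at hc
  have e1 : b11 (mat z * mat x) = c • b11 (mat x * mat z) := congrArg b11 hc
  have e2 : b22 (mat z * mat x) = c • b22 (mat x * mat z) := congrArg b22 hc
  rw [b22_mul, b22_mul, z2, x2, z3, zero_mul, zero_mul, zero_add, zero_add, one_mul, mul_one] at e2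
  have hc1 := one_of_smul (u22 (st_mat x) x1) e2
  rw [b11_mul, b11_mul, z1, x1, zero_mul, zero_mul, add_zero, add_zero, hc1, one_smul] at e1
  exact e1.symm

theorem comm22 [Fintype F] (hF : Fintype.card F = 9) {x z : SU 4 F 3} (x1 : b12 (mat x) = 0)
    (x2 : b21 (mat x) = 0) (z1 : b12 (mat z) = 0) (z2 : b21 (mat z) = 0) (z3 : b11 (mat z) = 1)
    (h : pr 4 F 3 x * pr 4 F 3 z = pr 4 F 3 z * pr 4 F 3 x) :
    b22 (mat x) * b22 (mat z) = b22 (mat z) * b22 (mat x) := by
  rw [← map_mul, ← map_mul] at h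
  obtain ⟨c, -, hc⟩ := mat_of_pr_eq hF h
  rw [mat_mul, mat_mul] at hc
  have e1 : b11 (mat z * mat x) = c • b11 (mat x * mat z) := congrArg b11 hc
  have e2 : b22 (mat z * mat x) = c • b22 (mat x * mat z) := congrArg b22 hc
  rw [b11_mul, b11_mul, z1, x1, z3, zero_mul, zero_mul, add_zero, add_zero, one_mul, mul_one] at e1
  have hc1 := one_of_smul (u11 (st_mat x) x2) e1
  rw [b22_mul, b22_mul, z2, x2, zero_mul, zero_mul, zero_add, zero_add, hc1, one_smul] at e2
  exact e2.symm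

omit [CharP F 3] in
theorem anti_pow {M : M4 F} (h11 : b11 M = 0) (h22 : b22 M = 0) (k : ℕ) :
    b11 (M ^ (2 * k + 1)) = 0 := by
  have hev : b12 (M ^ 2) = 0 ∧ b21 (M ^ 2) = 0 := by
    rw [pow_two, b12_mul, b21_mul, h11, h22]
    simp
  rw [pow_add, pow_mul, pow_one, b11_mul, (blk_pow hev.1 hev.2 k).1, h11]
  simp

omit [CharP F 3] in
theorem b11_smul (c : F) (M : M4 F) : b11 (c • M) = c • b11 M := rfl

theorem scalar_pow {X : M2 F} (hX : st X * X = 1) {c : F} (h : X = c • (1 : M2 F)) : X ^ 4 = 1 := by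
  rw [h, st_smul, st_one, Matrix.smul_mul, Matrix.mul_smul, smul_smul, one_mul] at hX
  have h2 := congrFun (congrFun hX 0) 0
  rw [Matrix.smul_apply, one_apply_eq, smul_eq_mul, mul_one] at h2
  rw [h, smul_pow, one_pow, show c ^ 4 = c ^ 3 * c by ring, h2, one_smul]

theorem good_d [Fintype F] (hF : Fintype.card F = 9) : Good (pr 4 F 3 d) := by
  have h9 : ∀ x : F, x ^ 9 = x := fun x => by rw [← hF]; exact FiniteField.pow_card x
  obtain ⟨a, ha⟩ : ∃ a : F, a ^ 2 = -1 := by
    have h1 : IsSquare (-1 : F) := by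
      rw [FiniteField.isSquare_neg_one_iff, hF]; norm_num
    obtain ⟨a, ha⟩ := h1
    exact ⟨a, by rw [pow_two, ← ha]⟩
  refine ⟨(Q0 h9).map (pr 4 F 3), (isPGroup_Q0 h9).map _, ?_, ?_⟩
  · intro g hg y hy
    obtain ⟨g, rfl⟩ := pr_surjective g
    obtain ⟨x, hx, rfl⟩ := hy
    rw [← map_mul, ← map_mul] at hg
    obtain ⟨c, -, hc⟩ := mat_of_pr_eq hF hg.symm
    rw [mat_mul, mat_mul, mat_d] at hc
    rw [← map_inv, ← map_mul, ← map_mul]
    exact Subgroup.mem_map_of_mem _ (conj_mem hc hx)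
  · intro y hy hQ ho
    obtain ⟨x, rfl⟩ := pr_surjective y
    rw [← map_mul, ← map_mul] at hy
    obtain ⟨c, -, hc⟩ := mat_of_pr_eq hF hy.symm
    rw [mat_mul, mat_mul, mat_d] at hc
    have hux := st_mat x
    rcases blk_or hc with ⟨x1, x2⟩ | ⟨x1, x2⟩
    · have k : ∀ z ∈ Q0 h9, pr 4 F 3 x * pr 4 F 3 z = pr 4 F 3 z * pr 4 F 3 x :=
        fun z hz => hQ _ (Subgroup.mem_map_of_mem _ hz)
      have m1 : i1 a ha ∈ Q0 h9 ∧ b11 (mat (i1 a ha)) = diagonal ![a, -a] ∧
          b22 (mat (i1 a ha)) = 1 := by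
        have e1 : b11 (mat (i1 a ha)) = diagonal ![a, -a] := by
          ext i j; fin_cases i <;> fin_cases j <;> rfl
        have e2 : b22 (mat (i1 a ha)) = 1 := by
          ext i j; fin_cases i <;> fin_cases j <;> rfl
        have e3 : b12 (mat (i1 a ha)) = 0 := by
          ext i j; fin_cases i <;> fin_cases j <;> rfl
        have e4 : b21 (mat (i1 a ha)) = 0 := by
          ext i j; fin_cases i <;> fin_cases j <;> rfl
        exact ⟨⟨e3, e4, e1 ▸ isQ_diag ha, e2 ▸ IsQ.one⟩, e1, e2⟩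
      have m2 : i2 a ha ∈ Q0 h9 ∧ b22 (mat (i2 a ha)) = diagonal ![a, -a] ∧
          b11 (mat (i2 a ha)) = 1 := by
        have e1 : b22 (mat (i2 a ha)) = diagonal ![a, -a] := by
          ext i j; fin_cases i <;> fin_cases j <;> rfl
        have e2 : b11 (mat (i2 a ha)) = 1 := by
          ext i j; fin_cases i <;> fin_cases j <;> rfl
        have e3 : b12 (mat (i2 a ha)) = 0 := by
          ext i j; fin_cases i <;> fin_cases j <;> rfl
        have e4 : b21 (mat (i2 a ha)) = 0 := by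
          ext i j; fin_cases i <;> fin_cases j <;> rfl
        exact ⟨⟨e3, e4, e2 ▸ IsQ.one, e1 ▸ isQ_diag ha⟩, e1, e2⟩
      have m3 : j1 ∈ Q0 h9 ∧ b11 (mat (j1 : SU 4 F 3)) = J2 F ∧ b22 (mat (j1 : SU 4 F 3)) = 1 := by
        have e1 : b11 (mat (j1 : SU 4 F 3)) = J2 F := by
          ext i j; fin_cases i <;> fin_cases j <;> rfl
        have e2 : b22 (mat (j1 : SU 4 F 3)) = 1 := by
          ext i j; fin_cases i <;> fin_cases j <;> rfl
        have e3 : b12 (mat (j1 : SU 4 F 3)) = 0 := by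
          ext i j; fin_cases i <;> fin_cases j <;> rfl
        have e4 : b21 (mat (j1 : SU 4 F 3)) = 0 := by
          ext i j; fin_cases i <;> fin_cases j <;> rfl
        exact ⟨⟨e3, e4, e1 ▸ isQ_J, e2 ▸ IsQ.one⟩, e1, e2⟩
      have m4 : j2 ∈ Q0 h9 ∧ b22 (mat (j2 : SU 4 F 3)) = J2 F ∧ b11 (mat (j2 : SU 4 F 3)) = 1 := by
        have e1 : b22 (mat (j2 : SU 4 F 3)) = J2 F := by
          ext i j; fin_cases i <;> fin_cases j <;> rfl
        have e2 : b11 (mat (j2 : SU 4 F 3)) = 1 := by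
          ext i j; fin_cases i <;> fin_cases j <;> rfl
        have e3 : b12 (mat (j2 : SU 4 F 3)) = 0 := by
          ext i j; fin_cases i <;> fin_cases j <;> rfl
        have e4 : b21 (mat (j2 : SU 4 F 3)) = 0 := by
          ext i j; fin_cases i <;> fin_cases j <;> rfl
        exact ⟨⟨e3, e4, e2 ▸ IsQ.one, e1 ▸ isQ_J⟩, e1, e2⟩
      have s1 : b11 (mat x) = b11 (mat x) 0 0 • (1 : M2 F) := by
        refine scalar_of_comm ha ?_ ?_
        · have := comm11 hF x1 x2 m1.1.1 m1.1.2.1 m1.2.2 (k _ m1.1)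
          rw [m1.2.1] at this
          exact this
        · have := comm11 hF x1 x2 m3.1.1 m3.1.2.1 m3.2.2 (k _ m3.1)
          rw [m3.2.1] at this
          exact this
      have s2 : b22 (mat x) = b22 (mat x) 0 0 • (1 : M2 F) := by
        refine scalar_of_comm ha ?_ ?_
        · have := comm22 hF x1 x2 m2.1.1 m2.1.2.1 m2.2.2 (k _ m2.1)
          rw [m2.2.1] at this
          exact this
        · have := comm22 hF x1 x2 m4.1.1 m4.1.2.1 m4.2.2 (k _ m4.1)
          rw [m4.2.1] at this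
          exact this
      have hx4 : x ^ 4 = 1 := by
        apply mat_injective
        rw [mat_pow, mat_one]
        obtain ⟨i1, i2, i3, i4⟩ := blk_pow x1 x2 4
        refine ext4 ?_ ?_ ?_ ?_
        · rw [i3, scalar_pow (u11 hux x2) s1, b11_one]
        · rw [i1, b12_one]
        · rw [i2, b21_one]
        · rw [i4, scalar_pow (u22 hux x1) s2, b22_one]
      have hy4 : (pr 4 F 3 x) ^ 4 = 1 := by rw [← map_pow, hx4, map_one]
      have h1 : orderOf (pr 4 F 3 x) ∣ 2 ^ 2 := orderOf_dvd_of_pow_eq_one hy4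
      have h2 : Nat.Coprime (orderOf (pr 4 F 3 x)) (2 ^ 2) := (ho.coprime_two_right).pow_right 2
      rw [← orderOf_eq_one_iff]
      exact Nat.dvd_one.mp (h2 ▸ Nat.dvd_gcd dvd_rfl h1)
    · exfalso
      obtain ⟨m, hm⟩ := ho
      have h1 : pr 4 F 3 1 = pr 4 F 3 (x ^ (2 * m + 1)) := by
        rw [map_one, map_pow, ← hm, pow_orderOf_eq_one]
      obtain ⟨c, hc4, hc⟩ := mat_of_pr_eq hF h1
      have h2 := congrArg b11 hc
      rw [mat_pow, anti_pow x1 x2, mat_one, b11_smul, b11_one] at h2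
      have h3 := congrFun (congrFun h2 0) 0
      rw [Matrix.smul_apply, one_apply_eq, smul_eq_mul, mul_one] at h3
      rw [← h3] at hc4
      simp at hc4

end Cfsg.Agent.OddHalf.Small.U43Good
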