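import Mathlib
import Cfsg.Agent.ClassicalGeometry.PSUAutCount
import Cfsg.Agent.ClassicalGeometry.HermOrtho

/-!
# `PSU₄(3)`: 2 × 2 blocks
-/

set_option autoImplicit false

namespace Cfsg.Agent.OddHalf.Small.U43Mat

open Matrix

section Star

variable {F : Type*} [Field F] [CharP F 3] {ι : Type*} [Fintype ι] [DecidableEq ι]

/-- conjugate transpose -/
def st (X : Matrix ι ι F) : Matrix ι ι F := (X.map (frobenius F 3))ᵀ

omit [Fintype ι] [DecidableEq ι] in
theorem st_apply (X : Matrix ι ι F) (i j : ι) : st X i j = X j i ^ 3 := rfl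

omit [DecidableEq ι] in
theorem st_mul (X Y : Matrix ι ι F) : st (X * Y) = st Y * st X := by
  unfold st
  rw [Matrix.map_mul, transpose_mul]

omit [Fintype ι] in
theorem st_one : st (1 : Matrix ι ι F) = 1 := by
  unfold st
  rw [Matrix.map_one _ (map_zero _) (map_one _), transpose_one]

omit [Fintype ι] [DecidableEq ι] in
theorem st_st (h9 : ∀ x : F, x ^ 9 = x) (X : Matrix ι ι F) : st (st X) = X := by
  ext i j
  rw [st_apply, st_apply, ← pow_mul, h9]

theorem det_st (X : Matrix ι ι F) : (st X).det = X.det ^ 3 := by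
  unfold st
  rw [det_transpose, ← RingHom.mapMatrix_apply, ← RingHom.map_det]
  rfl

omit [Fintype ι] [DecidableEq ι] in
theorem st_smul (c : F) (X : Matrix ι ι F) : st (c • X) = c ^ 3 • st X := by
  ext i j
  simp [st_apply, mul_pow]

theorem mul_st {X : Matrix ι ι F} (h : st X * X = 1) : X * st X = 1 := mul_eq_one_comm.1 h

end Star

section Two

variable {F : Type*} [Field F] [CharP F 3]

abbrev M2 (F : Type*) := Matrix (Fin 2) (Fin 2) F

theorem entries {A : M2 F} (h : st A * A = 1) (hd : A.det = 1) :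
    A 1 1 = A 0 0 ^ 3 ∧ A 0 1 = - A 1 0 ^ 3 ∧ A 0 0 ^ 4 + A 1 0 ^ 4 = 1 := by
  have h1 : st A = A.adjugate := by
    have h2 : A * A.adjugate = 1 := by rw [mul_adjugate, hd, one_smul]
    calc st A = st A * (A * A.adjugate) := by rw [h2, mul_one]
      _ = A.adjugate := by rw [← mul_assoc, h, one_mul]
  rw [adjugate_fin_two] at h1
  have e1 := congrFun (congrFun h1 0) 0
  have e2 := congrFun (congrFun h1 0) 1
  rw [st_apply] at e1 e2
  simp at e1 e2
  have e3 : A 0 1 = - A 1 0 ^ 3 := by rw [e2]; ring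
  refine ⟨e1.symm, e3, ?_⟩
  rw [det_fin_two, ← e1, e3] at hd
  linear_combination hd

/-- the elements of the quaternion group -/
def IsQ (A : M2 F) : Prop := st A * A = 1 ∧ A.det = 1 ∧ (A 0 0 = 0 ∨ A 1 0 = 0)

theorem IsQ.off {A : M2 F} (h : IsQ A) : (A 0 0 = 0 ∧ A 1 1 = 0) ∨ (A 1 0 = 0 ∧ A 0 1 = 0) := by
  obtain ⟨h1, h2, -⟩ := entries h.1 h.2.1
  rcases h.2.2 with h3 | h3
  · left
    exact ⟨h3, by rw [h1, h3]; simp⟩
  · right
    exact ⟨h3, by rw [h2, h3]; simp⟩

theorem IsQ.one : IsQ (1 : M2 F) := ⟨by rw [st_one, one_mul], det_one, Or.inr (by simp)⟩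

theorem IsQ.mul {A B : M2 F} (hA : IsQ A) (hB : IsQ B) : IsQ (A * B) := by
  refine ⟨?_, ?_, ?_⟩
  · rw [st_mul]
    calc st B * st A * (A * B) = st B * (st A * A) * B := by simp only [mul_assoc]
      _ = 1 := by rw [hA.1, mul_one, hB.1]
  · rw [det_mul, hA.2.1, hB.2.1, one_mul]
  · rw [mul_apply, mul_apply, Fin.sum_univ_two, Fin.sum_univ_two]
    rcases hA.off with ⟨a1, a2⟩ | ⟨a1, a2⟩ <;> rcases hB.off with ⟨b1, b2⟩ | ⟨b1, b2⟩ <;>
      simp [a1, a2, b1, b2]

theorem IsQ.st {A : M2 F} (h9 : ∀ x : F, x ^ 9 = x) (hA : IsQ A) : IsQ (st A) := by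
  refine ⟨?_, ?_, ?_⟩
  · rw [st_st h9]; exact mul_st hA.1
  · rw [det_st, hA.2.1, one_pow]
  · rw [st_apply, st_apply]
    rcases hA.off with ⟨a1, a2⟩ | ⟨a1, a2⟩ <;> simp [a1, a2]

/-- trace zero or scalar -/
theorem IsQ.trace_or {A : M2 F} (hA : IsQ A) : A.trace = 0 ∨ ∃ c : F, A = c • (1 : M2 F) := by
  obtain ⟨h1, h2, h3⟩ := entries hA.1 hA.2.1
  rcases hA.off with ⟨a1, a2⟩ | ⟨a1, a2⟩
  · left
    rw [trace_fin_two, a1, a2, add_zero]
  · rw [a1] at h3
    have h4 : (A 0 0 ^ 2 - 1) * (A 0 0 ^ 2 + 1) = 0 := by linear_combination h3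
    rcases mul_eq_zero.1 h4 with h5 | h5
    · right
      refine ⟨A 0 0, ?_⟩
      ext i j
      fin_cases i <;> fin_cases j
      · simp
      · simpa using a2
      · simpa using a1
      · show A 1 1 = A 0 0 • (1 : M2 F) 1 1
        rw [h1, one_apply_eq, smul_eq_mul, mul_one]
        linear_combination A 0 0 * h5
    · left
      rw [trace_fin_two, h1]
      linear_combination A 0 0 * h5

theorem isQ_of {A : M2 F} (hst : U43Mat.st A * A = 1) (hd : A.det = 1)
    (ht : A.trace = 0 ∨ ∃ c : F, A = c • (1 : M2 F)) : IsQ A := by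
  obtain ⟨h1, h2, h3⟩ := entries hst hd
  refine ⟨hst, hd, ?_⟩
  rcases ht with ht | ⟨c, hc⟩
  · rw [trace_fin_two, h1] at ht
    have h4 : A 0 0 * (1 + A 0 0 ^ 2) = 0 := by linear_combination ht
    rcases mul_eq_zero.1 h4 with h5 | h5
    · exact Or.inl h5
    · right
      have h6 : A 1 0 ^ 4 = 0 := by linear_combination h3 - (A 0 0 ^ 2 - 1) * h5
      exact pow_eq_zero_iff (by norm_num) |>.1 h6
  · right
    rw [hc]; simp

/-- conjugation by unitary matrices -/
theorem IsQ.conj (h9 : ∀ x : F, x ^ 9 = x) {A X : M2 F} (hA : IsQ A) (hX : U43Mat.st X * X = 1) :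
    IsQ (X * A * U43Mat.st X) := by
  have hX' := mul_st hX
  refine isQ_of ?_ ?_ ?_
  · rw [st_mul, st_mul, st_st h9]
    calc X * (U43Mat.st A * U43Mat.st X) * (X * A * U43Mat.st X) =
        X * (U43Mat.st A * (U43Mat.st X * X) * A) * U43Mat.st X := by simp only [mul_assoc]
      _ = 1 := by rw [hX, mul_one, hA.1, mul_one, hX']
  · have h1 := congrArg det hX'
    rw [det_mul, det_one] at h1
    rw [det_mul, det_mul, hA.2.1, mul_one, h1]
  · rcases hA.trace_or with h1 | ⟨c, hc⟩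
    · left
      rw [trace_mul_cycle, hX, one_mul]
      exact h1
    · right
      refine ⟨c, ?_⟩
      rw [hc, Matrix.mul_smul, mul_one, Matrix.smul_mul, hX']

theorem IsQ.pow_four {A : M2 F} (hA : IsQ A) : A ^ 4 = 1 := by
  obtain ⟨h1, h2, h3⟩ := entries hA.1 hA.2.1
  rcases hA.off with ⟨a1, a2⟩ | ⟨a1, a2⟩
  · have h4 : A ^ 2 = - 1 := by
      rw [pow_two]
      ext i j
      rw [mul_apply, Fin.sum_univ_two]
      rw [a1] at h3
      fin_cases i <;> fin_cases j <;> simp [a1, a2, h2]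
      · linear_combination h3
      · linear_combination h3
    calc A ^ 4 = (A ^ 2) ^ 2 := by rw [← pow_mul]
      _ = 1 := by rw [h4]; simp
  · have h4 : A = diagonal ![A 0 0, A 1 1] := by
      ext i j
      fin_cases i <;> fin_cases j <;> simp [a1, a2]
    rw [a1] at h3
    have h5 : A 0 0 ^ 4 = 1 := by linear_combination h3
    rw [h4, diagonal_pow]
    ext i j
    fin_cases i <;> fin_cases j <;> simp [h5, h1]
    calc (A 0 0 ^ 3) ^ 4 = (A 0 0 ^ 4) ^ 3 := by ring
      _ = 1 := by rw [h5, one_pow]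

end Two

section Four

variable {F : Type*} [Field F] [CharP F 3]

abbrev M4 (F : Type*) := Matrix (Fin 4) (Fin 4) F

/-- blocks -/
def b11 (M : M4 F) : M2 F := fun i j => M (Fin.castAdd 2 i) (Fin.castAdd 2 j)
def b12 (M : M4 F) : M2 F := fun i j => M (Fin.castAdd 2 i) (Fin.natAdd 2 j)
def b21 (M : M4 F) : M2 F := fun i j => M (Fin.natAdd 2 i) (Fin.castAdd 2 j)
def b22 (M : M4 F) : M2 F := fun i j => M (Fin.natAdd 2 i) (Fin.natAdd 2 j)

omit [CharP F 3] in
theorem b11_mul (M N : M4 F) : b11 (M * N) = b11 M * b11 N + b12 M * b21 N := by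
  ext i j
  rw [Matrix.add_apply, mul_apply, mul_apply]
  exact Fin.sum_univ_add (a := 2) (b := 2) (fun k => M (Fin.castAdd 2 i) k * N k (Fin.castAdd 2 j))

omit [CharP F 3] in
theorem b12_mul (M N : M4 F) : b12 (M * N) = b11 M * b12 N + b12 M * b22 N := by
  ext i j
  rw [Matrix.add_apply, mul_apply, mul_apply]
  exact Fin.sum_univ_add (a := 2) (b := 2) (fun k => M (Fin.castAdd 2 i) k * N k (Fin.natAdd 2 j))

omit [CharP F 3] in
theorem b21_mul (M N : M4 F) : b21 (M * N) = b21 M * b11 N + b22 M * b21 N := by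
  ext i j
  rw [Matrix.add_apply, mul_apply, mul_apply]
  exact Fin.sum_univ_add (a := 2) (b := 2) (fun k => M (Fin.natAdd 2 i) k * N k (Fin.castAdd 2 j))

omit [CharP F 3] in
theorem b22_mul (M N : M4 F) : b22 (M * N) = b21 M * b12 N + b22 M * b22 N := by
  ext i j
  rw [Matrix.add_apply, mul_apply, mul_apply]
  exact Fin.sum_univ_add (a := 2) (b := 2) (fun k => M (Fin.natAdd 2 i) k * N k (Fin.natAdd 2 j))

theorem b11_st (M : M4 F) : b11 (st M) = st (b11 M) := rfl
theorem b12_st (M : M4 F) : b12 (st M) = st (b21 M) := rfl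
theorem b21_st (M : M4 F) : b21 (st M) = st (b12 M) := rfl
theorem b22_st (M : M4 F) : b22 (st M) = st (b22 M) := rfl

omit [Field F] [CharP F 3] in
theorem ext4 {M N : M4 F} (h1 : b11 M = b11 N) (h2 : b12 M = b12 N) (h3 : b21 M = b21 N) (h4 : b22 M = b22 N) :
    M = N := by
  ext i j
  refine Fin.addCases (m := 2) (n := 2) (fun i => ?_) (fun i => ?_) i <;>
    refine Fin.addCases (m := 2) (n := 2) (fun j => ?_) (fun j => ?_) j
  · exact congrFun (congrFun h1 i) j
  · exact congrFun (congrFun h2 i) j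
  · exact congrFun (congrFun h3 i) j
  · exact congrFun (congrFun h4 i) j

omit [CharP F 3] in
theorem b11_one : b11 (1 : M4 F) = 1 := by
  ext i j; fin_cases i <;> fin_cases j <;> rfl
omit [CharP F 3] in
theorem b12_one : b12 (1 : M4 F) = 0 := by
  ext i j; fin_cases i <;> fin_cases j <;> rfl
omit [CharP F 3] in
theorem b21_one : b21 (1 : M4 F) = 0 := by
  ext i j; fin_cases i <;> fin_cases j <;> rfl
omit [CharP F 3] in
theorem b22_one : b22 (1 : M4 F) = 1 := by
  ext i j; fin_cases i <;> fin_cases j <;> rfl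

/-- the diagonal matrix `diag(1, 1, -1, -1)` -/
def D4 (F : Type*) [Field F] : M4 F := diagonal ![1, 1, -1, -1]

omit [CharP F 3] in
theorem b11_D : b11 (D4 F) = 1 := by
  ext i j; fin_cases i <;> fin_cases j <;> simp [b11, D4, diagonal]
omit [CharP F 3] in
theorem b12_D : b12 (D4 F) = 0 := by
  ext i j; fin_cases i <;> fin_cases j <;> simp [b12, D4, diagonal]
omit [CharP F 3] in
theorem b21_D : b21 (D4 F) = 0 := by
  ext i j; fin_cases i <;> fin_cases j <;> simp [b21, D4, diagonal]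
omit [CharP F 3] in
theorem b22_D : b22 (D4 F) = -1 := by
  ext i j; fin_cases i <;> fin_cases j <;> simp [b22, D4, diagonal]

end Four

end Cfsg.Agent.OddHalf.Small.U43Mat
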